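import Cfsg.Agent.Lib.Components
import Cfsg.Agent.Lib.ZStar.Main
import Cfsg.Agent.Lib.RankTwoSylow.Main
import Mathlib.GroupTheory.Transfer
import Cfsg.Agent.S0205
import Cfsg.Agent.Lib.SylowExtra
import Cfsg.Prelude.Def_TwoFusion

/-!
Fusion and transfer lemmas for a perfect group, used for an involutory automorphism whose fixed Sylow subgroup is
cyclic of order four (statement S1914).

* `eq_one_of_perfect`, `mem_center_of_comm`: perfect groups.
* `exists_other_conj`: a non-central central involution of a Sylow subgroup has a second conjugate there.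
* `eq_of_square`: no fusion of `z` to an involution having `z` as a square in its centraliser.
* `no_transfer`: Thompson's transfer lemma.
* `not_swap`: Burnside's fusion lemma for two central elements.
-/

set_option autoImplicit false
set_option linter.unusedSectionVars false
set_option linter.style.haveILetI false

namespace CfsgLib.CyclicFourFixed

open Subgroup

universe u

variable {G : Type u} [Group G] [Finite G]

theorem eq_one_of_perfect (hperf : commutator G = ⊤) {M : Type*} [CommGroup M] (f : G →* M) (g : G) : f g = 1 :=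
  (Abelianization.commutator_subset_ker f) (hperf.symm ▸ Subgroup.mem_top g)

theorem mem_center_of_comm (hperf : commutator G = ⊤) {z : G} (h : ∀ g, z * g * z⁻¹ * g⁻¹ ∈ center G) :
    z ∈ center G := by
  have hf : ∀ a b : G, z * (a * b) * z⁻¹ * (a * b)⁻¹ = z * a * z⁻¹ * a⁻¹ * (z * b * z⁻¹ * b⁻¹) := fun a b => by
    have hb := mem_center_iff.mp (h b) (a⁻¹)
    calc z * (a * b) * z⁻¹ * (a * b)⁻¹ = z * a * z⁻¹ * ((z * b * z⁻¹ * b⁻¹) * a⁻¹) := by group
      _ = z * a * z⁻¹ * (a⁻¹ * (z * b * z⁻¹ * b⁻¹)) := by rw [hb]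
      _ = _ := by group
  let f : G →* center G := MonoidHom.mk' (fun g => ⟨_, h g⟩) fun a b => Subtype.ext (hf a b)
  refine mem_center_iff.mpr fun g => ?_
  have hker : commutator G ≤ f.ker := by
    rw [commutator_def, Subgroup.commutator_le]
    intro a _ b _
    rw [MonoidHom.mem_ker, map_commutatorElement, commutatorElement_eq_one_iff_mul_comm]
    exact Subtype.ext (mem_center_iff.mp (f b).2 (f a))
  have e0 : f g = 1 := MonoidHom.mem_ker.mp (hker (hperf.symm ▸ Subgroup.mem_top g))
  have e : z * g * z⁻¹ * g⁻¹ = 1 := congrArg Subtype.val e0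
  have e2 : z * g * z⁻¹ = g := mul_inv_eq_one.mp e
  exact (mul_inv_eq_iff_eq_mul.mp e2).symm

theorem pgroup_zpowers {y : G} {k : ℕ} (hy : y ^ 2 ^ k = 1) : IsPGroup 2 (zpowers y) := by
  haveI : Fact (Nat.Prime 2) := ⟨Nat.prime_two⟩
  obtain ⟨j, -, hj⟩ := (Nat.dvd_prime_pow Nat.prime_two).mp (orderOf_dvd_of_pow_eq_one hy)
  exact IsPGroup.of_card (n := j) (by rw [Nat.card_zpowers, hj])

/-- A non-central central involution of a Sylow subgroup has another conjugate in it. -/
theorem exists_other_conj (hperf : commutator G = ⊤)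
    (hsol : ∀ N : Subgroup G, N.Normal → Group.IsSolvable N → N ≤ center G) (P : Sylow 2 G) {z : G}
    (hz : z * z = 1) (hz1 : z ≠ 1) (hzc : ∀ p ∈ (P : Subgroup G), p * z = z * p) (hnc : z ∉ center G) :
    ∃ g : G, g * z * g⁻¹ ∈ (P : Subgroup G) ∧ g * z * g⁻¹ ≠ z := by
  haveI : Fact (Nat.Prime 2) := ⟨Nat.prime_two⟩
  by_contra hno
  push Not at hno
  refine hnc (mem_center_of_comm hperf fun g => ?_)
  have hord : orderOf z = 2 := orderOf_eq_prime (by rw [pow_two, hz]) hz1
  have hiso : ∀ k : G, Commute z (k * z * k⁻¹) → k * z * k⁻¹ = z := by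
    intro k hk
    have hy2 : (k * z * k⁻¹) ^ 2 ^ 1 = 1 := by
      rw [pow_one, pow_two, show k * z * k⁻¹ * (k * z * k⁻¹) = k * (z * z) * k⁻¹ by group, hz]; group
    obtain ⟨h, hhz, hhP⟩ := CfsgLib.RankTwoSylow.exists_conj_into P hzc (pgroup_zpowers hy2) (fun q hq => by
      obtain ⟨i, rfl⟩ := mem_zpowers_iff.mp hq
      exact (hk.symm.zpow_left i).eq)
    have e1 := hhP _ (mem_zpowers _)
    have e2 : h * k * z * (h * k)⁻¹ = z := hno (h * k) (by
      rwa [show h * k * z * (h * k)⁻¹ = h * (k * z * k⁻¹) * h⁻¹ by group])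
    calc k * z * k⁻¹ = h⁻¹ * (h * k * z * (h * k)⁻¹) * h := by group
      _ = h⁻¹ * (h * z * h⁻¹) * h := by rw [e2, hhz]
      _ = z := by group
  have hco := CfsgLib.ZStar.commutator_mem hord hiso g
  refine hsol (Cfsg.pPrimeCore 2 G) inferInstance ?_ hco
  exact Cfsg.Agent.S0205.result (Nat.coprime_two_right.1 (CfsgLib.card_pPrimeCore_coprime 2))

/-- If `z` is the only involutory square in `P` then no conjugate `y ≠ z` of `z` centralises a square root of `z`. -/
theorem eq_of_square (P : Sylow 2 G) {z : G} (hz : z * z = 1) (hz1 : z ≠ 1) (hzc : ∀ p ∈ (P : Subgroup G), p * z = z * p)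
    (hsq : ∀ p ∈ (P : Subgroup G), p * p * (p * p) = 1 → p * p ≠ 1 → p * p = z) {g w : G}
    (hw : w * (g * z * g⁻¹) = g * z * g⁻¹ * w) (hw2 : w * w = z) : g * z * g⁻¹ = z := by
  have hw4 : (g⁻¹ * w * g) ^ 2 ^ 2 = 1 := by
    rw [show g⁻¹ * w * g = g⁻¹ * w * g⁻¹⁻¹ by group, conj_pow]
    norm_num [pow_succ, mul_assoc]
    rw [show w * (w * (w * (w * g))) = w * w * (w * w) * g by group, hw2, hz]; group
  obtain ⟨h, hhz, hhP⟩ := CfsgLib.RankTwoSylow.exists_conj_into P hzc (pgroup_zpowers hw4) (fun q hq => by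
    obtain ⟨i, rfl⟩ := mem_zpowers_iff.mp hq
    refine (Commute.zpow_left ?_ i).eq
    show g⁻¹ * w * g * z = z * (g⁻¹ * w * g)
    calc g⁻¹ * w * g * z = g⁻¹ * (w * (g * z * g⁻¹)) * g := by group
      _ = g⁻¹ * (g * z * g⁻¹ * w) * g := by rw [hw]
      _ = _ := by group)
  have hm := hhP _ (mem_zpowers _)
  have esq : h * (g⁻¹ * w * g) * h⁻¹ * (h * (g⁻¹ * w * g) * h⁻¹) = h * g⁻¹ * z * (h * g⁻¹)⁻¹ := by
    rw [← hw2]; group
  have e := hsq _ hm (by rw [esq]; calc _ = h * g⁻¹ * (z * z) * (h * g⁻¹)⁻¹ := by group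
                                     _ = 1 := by rw [hz]; group)
    (by rw [esq]; exact fun e => hz1 (conj_eq_one_iff.mp e))
  rw [esq] at e
  calc g * z * g⁻¹ = g * (h⁻¹ * (h * z * h⁻¹) * h) * g⁻¹ := by group
    _ = g * (h⁻¹ * z * h) * g⁻¹ := by rw [hhz]
    _ = g * (h⁻¹ * (h * g⁻¹ * z * (h * g⁻¹)⁻¹) * h) * g⁻¹ := by rw [e]
    _ = z := by group

/-- A transfer at an element of square one with constant value on its conjugates. -/
theorem transfer_const_value {H : Subgroup G} {M : Type*} [CommGroup M] (φ : H →* M) {x : G} (hx : x * x = 1)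
    {w : M} (hw : w * w = 1) (hconst : ∀ y : H, (∃ k : G, k⁻¹ * x * k = y) → φ y = w) :
    MonoidHom.transfer φ x = w ^ H.index := by
  classical
  haveI : Fintype (Quotient (MulAction.orbitRel (zpowers x) (G ⧸ H))) := Fintype.ofFinite _
  rw [Subgroup.index_eq_sum_minimalPeriod H x, ← Finset.prod_pow_eq_pow_sum,
    MonoidHom.transfer_eq_prod_quotient_orbitRel_zpowers_quot]
  refine Finset.prod_congr rfl fun q _ => ?_
  have hp : Function.minimalPeriod (x • ·) q.out = 1 ∨ Function.minimalPeriod (x • ·) q.out = 2 := by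
    refine (Nat.dvd_prime Nat.prime_two).mp (Function.IsPeriodicPt.minimalPeriod_dvd ?_)
    show (x • ·)^[2] q.out = q.out
    simp [Function.iterate_succ, ← mul_smul, hx]
  rcases hp with h | h
  · conv_rhs => rw [h, pow_one]
    exact hconst _ ⟨q.out.out, by simp only [h, pow_one]⟩
  · conv_rhs => rw [h, pow_two, hw]
    refine (congrArg φ (Subtype.ext ?_)).trans (map_one φ)
    simp only [h, pow_two, hx, mul_one, inv_mul_cancel, OneMemClass.coe_one]

/-- The sign with kernel a subgroup of index two. -/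
noncomputable def sign {H : Type*} [Group H] (M : Subgroup H) (hM : M.index = 2) : H →* ℤˣ := by
  classical
  exact MonoidHom.mk' (fun x => if x ∈ M then 1 else -1) fun a b => by
    have := Subgroup.mul_mem_iff_of_index_two hM (a := a) (b := b)
    by_cases ha : a ∈ M <;> by_cases hb : b ∈ M <;> simp_all

theorem sign_of_mem {H : Type*} [Group H] {M : Subgroup H} {hM : M.index = 2} {x : H} (hx : x ∈ M) :
    sign M hM x = 1 := by
  simp [sign, hx]

theorem sign_of_not_mem {H : Type*} [Group H] {M : Subgroup H} {hM : M.index = 2} {x : H} (hx : x ∉ M) :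
    sign M hM x = -1 := by
  simp [sign, hx]

/-- The value of a transfer to a sign at an involution whose conjugates lie on one side. -/
theorem transfer_value (P : Sylow 2 G) (M : Subgroup (P : Subgroup G)) (hM : M.index = 2) {u : G} (hu : u * u = 1)
    (side : Bool) (h : ∀ y : (P : Subgroup G), (∃ k : G, k⁻¹ * u * k = y) → (y ∈ M ↔ side = true)) :
    MonoidHom.transfer (sign M hM) u = if side then 1 else -1 := by
  haveI : Fact (Nat.Prime 2) := ⟨Nat.prime_two⟩
  have hodd : Odd (P : Subgroup G).index := Nat.not_even_iff_odd.mp fun e => P.not_dvd_index e.two_dvd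
  cases side
  · rw [transfer_const_value (sign M hM) hu (w := -1) (by decide)
      fun y hy => sign_of_not_mem fun hm => by simpa using (h y hy).mp hm, hodd.neg_one_pow]
    rfl
  · rw [transfer_const_value (sign M hM) hu (w := 1) (by decide)
      fun y hy => sign_of_mem ((h y hy).mpr rfl), one_pow]
    rfl

/-- Thompson's transfer lemma in a perfect group. -/
theorem no_transfer (hperf : commutator G = ⊤) (P : Sylow 2 G) (M : Subgroup (P : Subgroup G)) (hM : M.index = 2)
    {u : G} (hu : u * u = 1) :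
    ∃ y : (P : Subgroup G), y ∈ M ∧ ∃ k : G, k⁻¹ * u * k = y := by
  by_contra hno
  push Not at hno
  have h1 := transfer_value P M hM hu false fun y ⟨k, hk⟩ => by
    simp only [Bool.false_eq_true, iff_false]
    exact fun hy => hno y hy k hk
  rw [eq_one_of_perfect hperf] at h1
  simp at h1

/-- Two distinct elements central in a Sylow subgroup are not conjugate if every normalising element sending the
first to the second sends the second to the first. -/
theorem not_swap (P : Sylow 2 G) {a b : G} (hac : a ∈ centralizer ((P : Subgroup G) : Set G))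
    (hbc : b ∈ centralizer ((P : Subgroup G) : Set G)) (haP : a ∈ (P : Subgroup G)) (hab : a ≠ b) {g : G}
    (hg : g * a * g⁻¹ = b)
    (hswap : ∀ n ∈ normalizer ((P : Subgroup G) : Set G), n * a * n⁻¹ = b → n * b * n⁻¹ = a) : False := by
  haveI : Fact (Nat.Prime 2) := ⟨Nat.prime_two⟩
  obtain ⟨n, hn, hne⟩ := P.conj_eq_normalizer_conj_of_mem_centralizer a g⁻¹ hac (by rwa [inv_inv, hg])
  rw [inv_inv, hg] at hne
  have hn1 : n⁻¹ * a * n⁻¹⁻¹ = b := by rw [inv_inv, ← hne]
  set m := n⁻¹ with hm
  have hmN : m ∈ normalizer ((P : Subgroup G) : Set G) := inv_mem hn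
  have hmb := hswap m hmN hn1
  obtain ⟨k, j, hj, hord⟩ := Nat.exists_eq_two_pow_mul_odd (orderOf_pos m).ne'
  obtain ⟨i, rfl⟩ := hj
  have hev : ∀ l : ℕ, m ^ (2 * l) * a * (m ^ (2 * l))⁻¹ = a := by
    intro l
    induction l with
    | zero => simp
    | succ l ih =>
      rw [show m ^ (2 * (l + 1)) = m * m * m ^ (2 * l) by rw [mul_add, mul_one, pow_add, pow_two]; exact (Commute.pow_self m _).mul_right (Commute.pow_self m _) |>.eq]
      calc m * m * m ^ (2 * l) * a * (m * m * m ^ (2 * l))⁻¹
          = m * (m * (m ^ (2 * l) * a * (m ^ (2 * l))⁻¹) * m⁻¹) * m⁻¹ := by group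
        _ = a := by rw [ih, hn1, hmb]
  set q := m ^ (2 * i + 1) with hq
  have hqa : q * a * q⁻¹ = b := by
    rw [hq, pow_succ']
    calc m * m ^ (2 * i) * a * (m * m ^ (2 * i))⁻¹ = m * (m ^ (2 * i) * a * (m ^ (2 * i))⁻¹) * m⁻¹ := by group
      _ = b := by rw [hev, hn1]
  have hq2 : q ^ 2 ^ k = 1 := by rw [hq, ← pow_mul, mul_comm, ← hord, pow_orderOf_eq_one]
  have hQN : zpowers q ≤ normalizer ((P : Subgroup G) : Set G) := zpowers_le.mpr (pow_mem hmN _)
  have hp := IsPGroup.to_sup_of_normal_right' (pgroup_zpowers hq2) P.2 hQN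
  have hle : zpowers q ⊔ (P : Subgroup G) = (P : Subgroup G) := P.3 hp le_sup_right
  have hqP : q ∈ (P : Subgroup G) := hle ▸ mem_sup_left (mem_zpowers q)
  exact hab (by rw [← hqa, mem_centralizer_iff.mp hac q hqP, mul_inv_cancel_right])

end CfsgLib.CyclicFourFixed
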