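import Cfsg.Agent.Lib.CyclicFourFixed.Main

/-!
S1914: a semisimple group with an involution whose fixed Sylow two-subgroup is cyclic of order four has two-rank one.
-/

set_option autoImplicit false
set_option linter.unusedSectionVars false
set_option linter.style.haveILetI false

namespace CfsgLib.CyclicFourFixed

open Cfsg Subgroup

universe u

variable {G : Type u} [Group G] [Finite G]

theorem perfect_of_layer (A : Subgroup G) (hA : layer A = ⊤) : commutator A = ⊤ := by
  have e := CfsgLib.layer_commutator_self (G := A)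
  rw [hA] at e
  rw [_root_.commutator_def]; exact e

theorem solvable_le_center (A : Subgroup G) (hA : layer A = ⊤) (N : Subgroup A) (hN : N.Normal)
    (hs : Group.IsSolvable N) : N ≤ center A := by
  haveI := hN
  intro x hx
  refine mem_center_iff.mpr fun g => ?_
  have h1 : layer A ≤ centralizer (CfsgLib.solvableRadical A : Set A) :=
    sSup_le fun K hK => Subgroup.commutator_eq_bot_iff_le_centralizer.mp (CfsgLib.component_commutator_radical hK)
  have h2 : g ∈ layer A := hA ▸ mem_top g
  exact (mem_centralizer_iff.mp (h1 h2) x (CfsgLib.le_solvableRadical hs hx)).symm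

/-- A cyclic group has one involution. -/
theorem cyclic_inv_unique {H : Type*} [Group H] [Finite H] [IsCyclic H] {a b : H} (ha : a * a = 1) (hb : b * b = 1)
    (ha1 : a ≠ 1) (hb1 : b ≠ 1) : a = b := by
  classical
  haveI := Fintype.ofFinite H
  by_contra hne
  have h := IsCyclic.card_pow_eq_one_le (α := H) (n := 2) two_pos
  have hsub : ({1, a, b} : Finset H) ⊆ Finset.univ.filter fun x => x ^ 2 = 1 := fun x hx => by
    simp only [Finset.mem_insert, Finset.mem_singleton] at hx
    simp only [Finset.mem_filter, Finset.mem_univ, true_and, pow_two]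
    rcases hx with rfl | rfl | rfl
    exacts [one_mul 1, ha, hb]
  have h3 : ({1, a, b} : Finset H).card = 3 := by simp [Ne.symm ha1, Ne.symm hb1, hne]
  have := Finset.card_le_card hsub
  omega

theorem main (A : Subgroup G) (hA : layer A = ⊤) (t : G) (ht : orderOf t = 2)
    (htA : t ∈ normalizer (A : Set G))
    (hC : ∀ R : Sylow 2 ↥(A ⊓ centralizer ({t} : Set G)), IsCyclic R ∧ Nat.card R = 4) :
    PRankLE 2 1 A ∧ ¬ PRankLE 2 0 A := by
  classical
  haveI : Fact (Nat.Prime 2) := ⟨Nat.prime_two⟩
  have ht2 : t * t = 1 := by rw [← pow_two]; exact (orderOf_eq_prime_iff.mp ht).1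
  have ht1 : t ≠ 1 := (orderOf_eq_prime_iff.mp ht).2
  set C := A ⊓ centralizer ({t} : Set G) with hCdef
  obtain ⟨R⟩ : Nonempty (Sylow 2 C) := inferInstance
  obtain ⟨hRc, hR4⟩ := hC R
  haveI := hRc
  obtain ⟨g0, hg0⟩ := IsCyclic.exists_generator (α := R)
  have ho : orderOf g0 = 4 := (orderOf_eq_card_of_forall_mem_zpowers hg0).trans hR4
  set c : G := ((g0 : C) : G) with hcdef
  have hcA : c ∈ A := (g0 : C).2.1
  have hct : c * t = t * c := mem_centralizer_singleton_iff.mp (g0 : C).2.2
  have hoc : orderOf c = 4 := by rw [hcdef, Subgroup.orderOf_coe, Subgroup.orderOf_coe, ho]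
  set z := c * c with hz
  have hz1 : z ≠ 1 := fun e => by
    have := orderOf_dvd_of_pow_eq_one (show c ^ 2 = 1 by rw [pow_two]; exact e)
    rw [hoc] at this; norm_num at this
  have hz2 : z * z = 1 := by
    rw [hz, ← pow_two, ← pow_two, ← pow_mul, show 2 * 2 = 4 by norm_num, ← hoc, pow_orderOf_eq_one]
  have hzA : z ∈ A := mul_mem hcA hcA
  -- involutions of a two-subgroup of the centraliser
  have huniq : ∀ (Q : Subgroup C), IsPGroup 2 Q → ∀ a ∈ Q, ∀ b ∈ Q, a * a = 1 → b * b = 1 → a ≠ 1 → b ≠ 1 → a = b := by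
    intro Q hQ a ha b hb ha2 hb2 ha1 hb1
    obtain ⟨R', hR'⟩ := hQ.exists_le_sylow
    haveI := (hC R').1
    exact congrArg Subtype.val (cyclic_inv_unique (H := R') (a := ⟨a, hR' ha⟩) (b := ⟨b, hR' hb⟩) (Subtype.ext ha2)
      (Subtype.ext hb2) (fun e => ha1 (congrArg Subtype.val e)) fun e => hb1 (congrArg Subtype.val e))
  refine ⟨?_, fun h0 => ?_⟩
  swap
  · have := h0 (zpowers (⟨z, hzA⟩ : A)) inferInstance (fun a ha => by
      obtain ⟨i, rfl⟩ := mem_zpowers_iff.mp ha
      rw [← zpow_natCast, ← zpow_mul, mul_comm, zpow_mul, zpow_natCast, pow_two,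
        show (⟨z, hzA⟩ : A) * ⟨z, hzA⟩ = 1 from Subtype.ext hz2, one_zpow])
    rw [pow_zero, Nat.card_zpowers, orderOf_eq_prime (p := 2) (by rw [pow_two]; exact Subtype.ext hz2)
      (fun e => hz1 (congrArg Subtype.val e))] at this
    omega
  by_cases htmem : t ∈ A
  · -- `t` is the involution of its cyclic centraliser
    let tC : C := ⟨t, htmem, mem_centralizer_singleton_iff.mpr rfl⟩
    let tA : A := ⟨t, htmem⟩
    have htz : t = z := by
      by_contra hne
      have hc2 : IsPGroup 2 ((R : Subgroup C) ⊔ zpowers tC : Subgroup C) := by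
        have hn : zpowers tC ≤ normalizer ((R : Subgroup C) : Set C) := by
          refine zpowers_le.mpr (mem_normalizer_iff.mpr fun x => ?_)
          have e : tC * x * tC⁻¹ = x := by
            refine Subtype.ext ?_
            show t * (x : G) * t⁻¹ = x
            rw [← mem_centralizer_singleton_iff.mp x.2.2, mul_inv_cancel_right]
          rw [e]
        exact IsPGroup.to_sup_of_normal_left' R.2
          (pgroup_zpowers (k := 1) (by rw [pow_one, pow_two]; exact Subtype.ext ht2)) hn
      exact hne (congrArg Subtype.val (huniq _ hc2 tC (mem_sup_right (mem_zpowers tC))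
        ((g0 : C) * (g0 : C)) (mem_sup_left (mul_mem g0.2 g0.2)) (Subtype.ext ht2) (Subtype.ext hz2)
        (fun e => ht1 (congrArg Subtype.val e)) fun e => hz1 (congrArg Subtype.val e)))
    intro E hEc hE2
    obtain ⟨T, hT⟩ := (show IsPGroup 2 ↥(zpowers tA) from
      pgroup_zpowers (k := 1) (by rw [pow_one, pow_two]; exact Subtype.ext ht2)).exists_le_sylow
    -- `t` is central in `T`
    haveI : Group.IsNilpotent ↥(T : Subgroup A) := T.2.isNilpotent
    have htT : tA ∈ (T : Subgroup A) := hT (mem_zpowers tA)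
    haveI : Nontrivial ↥(T : Subgroup A) := ⟨⟨⟨tA, htT⟩, 1, fun e => ht1 (congrArg (fun p : (T : Subgroup A) => ((p : A) : G)) e)⟩⟩
    haveI := T.2.center_nontrivial
    obtain ⟨w, hw⟩ := exists_prime_orderOf_dvd_card' (G := center ↥(T : Subgroup A)) 2 (by
      obtain ⟨k, hk⟩ := (T.2.to_subgroup (center ↥(T : Subgroup A))).exists_card_eq
      have := Finite.one_lt_card (α := center ↥(T : Subgroup A))
      rw [hk] at this ⊢
      exact dvd_pow_self 2 (by rintro rfl; norm_num at this))
    have hwt : ∀ x : ↥(T : Subgroup A), x * (w : ↥(T : Subgroup A)) = w * x := fun x => mem_center_iff.mp w.2 x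
    have hw2 : (w : ↥(T : Subgroup A)) * w = 1 := by
      rw [← pow_two]; exact congrArg Subtype.val (orderOf_eq_prime_iff.mp hw).1
    have hw1 : ((w : ↥(T : Subgroup A)) : A) ≠ 1 := fun e => (orderOf_eq_prime_iff.mp hw).2 (Subtype.ext (Subtype.ext e))
    let wC : C := ⟨((w : ↥(T : Subgroup A)) : A), ((w : ↥(T : Subgroup A)) : A).2,
      mem_centralizer_singleton_iff.mpr (congrArg (fun p : (T : Subgroup A) => ((p : A) : G)) (hwt ⟨tA, htT⟩)).symm⟩
    have hwct : Commute wC tC := Subtype.ext
      (congrArg (fun p : (T : Subgroup A) => ((p : A) : G)) (hwt ⟨tA, htT⟩)).symm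
    have hwz : ((w : ↥(T : Subgroup A)) : A) = tA := by
      have hp : IsPGroup 2 (zpowers wC ⊔ zpowers tC : Subgroup C) := by
        refine IsPGroup.to_sup_of_normal_left' (pgroup_zpowers (k := 1) (by
          rw [pow_one, pow_two]; exact Subtype.ext (congrArg (fun p : (T : Subgroup A) => ((p : A) : G)) hw2)))
          (pgroup_zpowers (k := 1) (by rw [pow_one, pow_two]; exact Subtype.ext ht2)) ?_
        refine zpowers_le.mpr (mem_normalizer_iff.mpr fun x => ⟨fun hx => ?_, fun hx => ?_⟩)
        · obtain ⟨i, rfl⟩ := mem_zpowers_iff.mp hx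
          rw [(hwct.symm.zpow_right i).eq, mul_inv_cancel_right]
          exact zpow_mem (mem_zpowers _) _
        · obtain ⟨i, hi⟩ := mem_zpowers_iff.mp hx
          have e : x = wC ^ i := by
            have := hi.symm
            calc x = tC⁻¹ * (tC * x * tC⁻¹) * tC := by group
              _ = tC⁻¹ * (wC ^ i * tC) := by rw [this]; group
              _ = wC ^ i := by rw [(hwct.zpow_left i).eq, inv_mul_cancel_left]
          exact e ▸ zpow_mem (mem_zpowers _) _
      have := huniq _ hp wC (mem_sup_left (mem_zpowers _)) tC (mem_sup_right (mem_zpowers _))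
        (Subtype.ext (congrArg (fun p : (T : Subgroup A) => ((p : A) : G)) hw2)) (Subtype.ext ht2)
        (fun e => hw1 (Subtype.ext (congrArg Subtype.val e : _))) (fun e => ht1 (congrArg Subtype.val e))
      exact Subtype.ext (show (((w : ↥(T : Subgroup A)) : A) : G) = t from congrArg Subtype.val this)
    -- the centraliser of `t` contains `T`
    obtain ⟨Q, hQ⟩ := (show IsPGroup 2 E from fun e => ⟨1, Subtype.ext (by simpa using hE2 e e.2)⟩).exists_le_sylow
    obtain ⟨g, hg⟩ := MulAction.exists_smul_eq A Q T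
    let f : ↥(T : Subgroup A) →* C :=
      ((A.subtype).comp (T : Subgroup A).subtype).codRestrict C fun p => ⟨(p : A).2, mem_centralizer_singleton_iff.mpr (by
        have : ((p : A) : G) * (((w : ↥(T : Subgroup A)) : A) : G) = (((w : ↥(T : Subgroup A)) : A) : G) * ((p : A) : G) :=
          congrArg (fun p : (T : Subgroup A) => ((p : A) : G)) (hwt p)
        rwa [show (((w : ↥(T : Subgroup A)) : A) : G) = t from congrArg Subtype.val hwz] at this)⟩
    have hp : IsPGroup 2 f.range := T.2.of_surjective f.rangeRestrict f.rangeRestrict_surjective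
    have key : ∀ e ∈ E, e = 1 ∨ g * e * g⁻¹ = tA := by
      intro e he
      by_cases he1 : e = 1
      · exact Or.inl he1
      refine Or.inr ?_
      have hm : g * e * g⁻¹ ∈ (T : Subgroup A) := by
        rw [← hg, Sylow.coe_subgroup_smul]; exact ⟨e, hQ he, rfl⟩
      have e2 : g * e * g⁻¹ * (g * e * g⁻¹) = 1 := by
        rw [show g * e * g⁻¹ * (g * e * g⁻¹) = g * (e * e) * g⁻¹ by group, ← pow_two e, hE2 e he]; group
      have := huniq _ hp (f ⟨_, hm⟩) ⟨_, rfl⟩ (f ⟨tA, htT⟩) ⟨_, rfl⟩
        (Subtype.ext (congrArg Subtype.val e2 : _)) (Subtype.ext ht2)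
        (fun e3 => he1 (conj_eq_one_iff.mp (Subtype.ext (congrArg Subtype.val e3 : _))))
        (fun e3 => ht1 (congrArg Subtype.val e3))
      exact Subtype.ext (congrArg Subtype.val this : _)
    refine le_trans (Nat.card_le_card_of_injective (fun e : E => decide ((e : A) = 1)) ?_) (by simp)
    intro a b hab
    simp only [decide_eq_decide] at hab
    rcases key a a.2 with ha | ha
    · exact Subtype.ext (ha.trans (hab.mp ha).symm)
    · rcases key b b.2 with hb | hb
      · exact Subtype.ext ((hab.mpr hb).trans hb.symm)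
      · exact Subtype.ext (mul_left_cancel (mul_right_cancel (ha.trans hb.symm)))
  -- the group `A⟨t⟩`
  set X := A ⊔ zpowers t with hX
  have hAX : A ≤ X := le_sup_left
  have htX : t ∈ X := mem_sup_right (mem_zpowers t)
  have hXN : X ≤ normalizer (A : Set G) := sup_le le_normalizer (zpowers_le.mpr htA)
  set A' := A.subgroupOf X with hA'
  haveI hA'n : A'.Normal := normal_subgroupOf_of_le_normalizer hXN
  let e : A' ≃* A := subgroupOfEquivOfLe hAX
  let tX : X := ⟨t, htX⟩
  let cX : X := ⟨c, hAX hcA⟩
  let zX : X := ⟨z, hAX hzA⟩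
  have hperf : commutator A' = ⊤ := by
    have e0 := congrArg (Subgroup.map e.symm.toMonoidHom) (perfect_of_layer A hA)
    rw [_root_.commutator_def, Subgroup.map_commutator, Subgroup.map_top_of_surjective _ e.symm.surjective] at e0
    rw [_root_.commutator_def]; exact e0
  have hsol : ∀ N : Subgroup A', N.Normal → Group.IsSolvable N → N ≤ center A' := by
    intro N hN hs
    have hsN : Group.IsSolvable ↥(N.map e.toMonoidHom) :=
      Group.isSolvable_of_surjective (f := e.toMonoidHom.subgroupMap N) (MonoidHom.subgroupMap_surjective _ N)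
    have hle := solvable_le_center A hA _ (hN.map _ e.surjective) hsN
    intro x hx
    refine mem_center_iff.mpr fun g => e.injective ?_
    rw [map_mul, map_mul]
    exact mem_center_iff.mp (hle (mem_map_of_mem _ hx)) (e g)
  -- the Sylow subgroup
  let RX : Subgroup X := (R : Subgroup C).map ((Subgroup.inclusion hAX).comp (Subgroup.inclusion (inf_le_left : C ≤ A)))
  have hRXt : ∀ x ∈ RX, x * tX = tX * x := by
    rintro _ ⟨x, -, rfl⟩
    exact Subtype.ext (mem_centralizer_singleton_iff.mp x.2.2)
  have hQp : IsPGroup 2 ↥(RX ⊔ zpowers tX) := by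
    refine IsPGroup.to_sup_of_normal_left' (R.2.map _) (pgroup_zpowers (k := 1) (by
      rw [pow_one, pow_two]; exact Subtype.ext ht2)) (zpowers_le.mpr (mem_normalizer_iff.mpr fun x => ?_))
    constructor
    · intro hx; rwa [← hRXt x hx, mul_inv_cancel_right]
    · intro hx
      have h1 := hRXt _ hx
      have e1 : tX * x * tX⁻¹ = x := by
        rw [inv_mul_cancel_right] at h1
        have : tX⁻¹ = tX := inv_eq_of_mul_eq_one_left (Subtype.ext ht2)
        calc tX * x * tX⁻¹ = tX⁻¹ * (tX * (tX * x * tX⁻¹)) := by group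
          _ = tX⁻¹ * (tX * x) := by rw [← h1]
          _ = x := inv_mul_cancel_left _ _
      rwa [e1] at hx
  obtain ⟨S, hS⟩ := hQp.exists_le_sylow
  have hsplit : ∀ x : X, x ∈ A' ∨ x * tX ∈ A' := by
    intro x
    have hx : (x : G) ∈ A ⊔ zpowers t := x.2
    have hx' : (x : G) ∈ ((A ⊔ zpowers t : Subgroup G) : Set G) := hx
    rw [coe_mul_of_right_le_normalizer_left A (zpowers t) (zpowers_le.mpr htA)] at hx'
    obtain ⟨a, ha, b, hb, hab⟩ := hx'
    beta_reduce at hab
    obtain ⟨i, hi⟩ := mem_zpowers_iff.mp hb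
    rcases Int.even_or_odd i with ⟨o, ho⟩ | ⟨o, ho⟩
    · refine Or.inl ?_
      show (x : G) ∈ A
      rwa [← hab, ← hi, ho, ← two_mul, zpow_mul, zpow_two, ht2, one_zpow, mul_one]
    · refine Or.inr ?_
      show (x : G) * t ∈ A
      rwa [← hab, ← hi, ho, zpow_add, zpow_mul, zpow_two, ht2, one_zpow, one_mul, zpow_one, mul_assoc, ht2, mul_one]
  have hset : Setup A' S tX cX zX := {
    nrm := hA'n
    perf := hperf
    sol := hsol
    tA := htmem
    t2 := Subtype.ext ht2
    split := hsplit
    tS := hS (mem_sup_right (mem_zpowers tX))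
    cA := hcA
    cS := hS (mem_sup_left ⟨g0, g0.2, rfl⟩)
    cz := rfl
    z1 := fun h0 => hz1 (congrArg Subtype.val h0)
    z2 := Subtype.ext hz2
    ct := Subtype.ext hct
    fixed := fun x hxA hxS hxt => by
      let F : Subgroup C := ((S : Subgroup X).map X.subtype).subgroupOf C
      have hF : IsPGroup 2 F := (S.2.map X.subtype).comap_subtype
      have hRF : (R : Subgroup C) ≤ F := fun r hr => ⟨⟨(r : G), hAX r.2.1⟩, hS (mem_sup_left ⟨r, hr, rfl⟩), rfl⟩
      have hFR := R.3 hF hRF
      let xC : C := ⟨(x : G), hxA, mem_centralizer_singleton_iff.mpr (congrArg Subtype.val hxt)⟩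
      have hxR : xC ∈ (R : Subgroup C) := hFR ▸ (⟨x, hxS, rfl⟩ : xC ∈ F)
      obtain ⟨i, hi⟩ := mem_zpowers_iff.mp (hg0 ⟨xC, hxR⟩)
      have hi' : c ^ i = (x : G) := congrArg (fun p : R => ((p : C) : G)) hi
      have hrem : (x : G) = c ^ (i % 4) := by
        rw [← hi', show (4 : ℤ) = (orderOf c : ℤ) by rw [hoc]; rfl, zpow_mod_orderOf]
      have h04 : i % 4 = 0 ∨ i % 4 = 1 ∨ i % 4 = 2 ∨ i % 4 = 3 := by omega
      rcases h04 with e0 | e0 | e0 | e0 <;> rw [e0] at hrem
      · exact Or.inl (Subtype.ext (by rw [hrem, zpow_zero]; rfl))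
      · exact Or.inr (Or.inl (Subtype.ext (by rw [hrem, zpow_one])))
      · exact Or.inr (Or.inr (Or.inl (Subtype.ext (by rw [hrem, zpow_two]))))
      · exact Or.inr (Or.inr (Or.inr (Subtype.ext (by
          show (x : G) = z * c
          rw [hrem, show (3 : ℤ) = 2 + 1 by norm_num, zpow_add, zpow_two, zpow_one]))))
    noFour := fun a ha b hb ha2 hb2 ha1 hb1 hab hat hbt => by
      let aC : C := ⟨(a : G), ha, mem_centralizer_singleton_iff.mpr (congrArg Subtype.val hat)⟩
      let bC : C := ⟨(b : G), hb, mem_centralizer_singleton_iff.mpr (congrArg Subtype.val hbt)⟩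
      have hab' : Commute aC bC := Subtype.ext (show (a : G) * b = b * a from congrArg Subtype.val hab)
      have hp : IsPGroup 2 (zpowers aC ⊔ zpowers bC : Subgroup C) := by
        refine IsPGroup.to_sup_of_normal_left' (pgroup_zpowers (k := 1) (by
          rw [pow_one, pow_two]; exact Subtype.ext (show (a : G) * a = 1 from congrArg Subtype.val ha2)))
          (pgroup_zpowers (k := 1) (by rw [pow_one, pow_two]; exact Subtype.ext (show (b : G) * b = 1 from congrArg Subtype.val hb2))) ?_
        refine zpowers_le.mpr (mem_normalizer_iff.mpr fun x => ⟨fun hx => ?_, fun hx => ?_⟩)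
        · obtain ⟨i, rfl⟩ := mem_zpowers_iff.mp hx
          rw [(hab'.symm.zpow_right i).eq, mul_inv_cancel_right]
          exact zpow_mem (mem_zpowers _) _
        · obtain ⟨i, hi⟩ := mem_zpowers_iff.mp hx
          have e1 : x = aC ^ i := by
            calc x = bC⁻¹ * (bC * x * bC⁻¹) * bC := by group
              _ = bC⁻¹ * (aC ^ i * bC) := by rw [← hi]; group
              _ = aC ^ i := by rw [(hab'.zpow_left i).eq, inv_mul_cancel_left]
          exact e1 ▸ zpow_mem (mem_zpowers _) _
      have := huniq _ hp aC (mem_sup_left (mem_zpowers _)) bC (mem_sup_right (mem_zpowers _))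
        (Subtype.ext (show (a : G) * a = 1 from congrArg Subtype.val ha2)) (Subtype.ext (show (b : G) * b = 1 from congrArg Subtype.val hb2))
        (fun e0 => ha1 (Subtype.ext (congrArg Subtype.val e0 : _)))
        (fun e0 => hb1 (Subtype.ext (congrArg Subtype.val e0 : _)))
      exact Subtype.ext (congrArg Subtype.val this : _) }
  intro E hEc hE2
  let E' : Subgroup A' := E.map e.symm.toMonoidHom
  have hE' : IsPGroup 2 E' := (show IsPGroup 2 E from fun x => ⟨1, Subtype.ext (by simpa using hE2 x x.2)⟩).map _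
  obtain ⟨g, hg⟩ := hset.conj_into hE'
  have key : ∀ x ∈ E, x = 1 ∨ ((g * e.symm x * g⁻¹ : A') : X) = zX := by
    intro x hx
    by_cases hx1 : x = 1
    · exact Or.inl hx1
    refine Or.inr ?_
    by_contra hne
    have hx2 : x * x = 1 := by rw [← pow_two]; exact hE2 x hx
    refine hset.false_of_second (hg _ (mem_map_of_mem _ hx)) ?_ ?_ hne
    · have e0 : g * e.symm x * g⁻¹ * (g * e.symm x * g⁻¹) = 1 := by
        rw [show g * e.symm x * g⁻¹ * (g * e.symm x * g⁻¹) = g * (e.symm x * e.symm x) * g⁻¹ by group, ← map_mul, hx2,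
          map_one]; group
      exact congrArg Subtype.val e0
    · intro e0
      exact hx1 ((MulEquiv.map_eq_one_iff e.symm).mp (conj_eq_one_iff.mp (Subtype.ext e0)))
  refine le_trans (Nat.card_le_card_of_injective (fun x : E => decide ((x : A) = 1)) ?_) (by simp)
  intro a b hab
  simp only [decide_eq_decide] at hab
  rcases key a a.2 with ha | ha
  · exact Subtype.ext (ha.trans (hab.mp ha).symm)
  · rcases key b b.2 with hb | hb
    · exact Subtype.ext ((hab.mpr hb).trans hb.symm)
    · exact Subtype.ext (e.symm.injective (mul_left_cancel (mul_right_cancel (Subtype.ext (ha.trans hb.symm)))))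

end CfsgLib.CyclicFourFixed
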