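import Cfsg.Agent.Lib.CyclicFourFixed.MaxMain

/-!
S1914: a four group of `A ⊓ S` normal in `S`.

* `Four`: an involution `v ≠ z` of `A ⊓ S` with all `S`-conjugates in `{v, v z}`.
* `Setup.exists_four`.
-/

set_option autoImplicit false
set_option linter.unusedSectionVars false
set_option linter.style.haveILetI false

namespace CfsgLib.CyclicFourFixed

open Subgroup

universe u

variable {X : Type u} [Group X] [Finite X] {A : Subgroup X} {S : Sylow 2 X} {t c z : X}

/-- A normal four group `{1, z, v, v z}`. -/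
structure Four (A : Subgroup X) (S : Sylow 2 X) (z v : X) : Prop where
  vT : InT A S v
  v2 : v * v = 1
  v1 : v ≠ 1
  vz : v ≠ z
  nrm : ∀ s ∈ (S : Subgroup X), s * v * s⁻¹ = v ∨ s * v * s⁻¹ = v * z

/-- A normal cyclic subgroup through `z`. -/
structure Cyc (A : Subgroup X) (S : Sylow 2 X) (z q : X) (n : ℕ) : Prop where
  qT : InT A S q
  nrm : ∀ s ∈ (S : Subgroup X), s * q * s⁻¹ ∈ zpowers q
  ord : orderOf q = 2 ^ (n + 1)
  zq : z = q ^ ((2 : ℤ) ^ n)

variable {q : X} {n : ℕ}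

theorem Cyc.one_iff (Q : Cyc A S z q n) {i : ℤ} : q ^ i = 1 ↔ (2 : ℤ) ^ (n + 1) ∣ i := by
  rw [← orderOf_dvd_iff_zpow_eq_one, Q.ord]
  push_cast
  rfl

theorem Cyc.eq_iff (Q : Cyc A S z q n) {i j : ℤ} : q ^ i = q ^ j ↔ (2 : ℤ) ^ (n + 1) ∣ i - j := by
  rw [← Q.one_iff, zpow_sub, mul_inv_eq_one]

theorem Cyc.sq_one (Q : Cyc A S z q n) {i : ℤ} (h : q ^ (i + i) = 1) : q ^ i = 1 ∨ q ^ i = z := by
  obtain ⟨o, ho⟩ := Q.one_iff.mp h
  have hP : (2 : ℤ) ^ (n + 1) = 2 * 2 ^ n := by ring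
  rcases Int.even_or_odd o with ⟨p, hp⟩ | ⟨p, hp⟩
  · exact Or.inl (Q.one_iff.mpr ⟨p, by rw [hp] at ho; linarith⟩)
  · refine Or.inr ?_
    rw [Q.zq, Q.eq_iff]
    refine ⟨p, ?_⟩
    rw [hp, hP] at ho
    rw [hP]
    linarith

theorem Setup.exists_cyc (h : Setup A S t c z) : Cyc A S z z 0 where
  qT := h.zT
  nrm s hs := by rw [h.zc s hs, mul_inv_cancel_right]; exact mem_zpowers z
  ord := by rw [pow_one]; exact orderOf_eq_prime (by rw [pow_two]; exact h.z2) h.z1
  zq := by norm_num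

/-- An element with the action `1 + 2^n` gives the four group. -/
theorem Cyc.four_of_action (Q : Cyc A S z q n) (hn : 2 ≤ n) (hcent : ∀ x, InT A S x → x * q = q * x → x ∈ zpowers q)
    {g : X} (hgT : InT A S g) (hg2 : g * g = 1) (hgq : g * q * g⁻¹ = q ^ ((2 : ℤ) ^ n + 1)) (hnrm : A.Normal) :
    Four A S z g := by
  have hg1 : g ∉ zpowers q := by
    intro hg
    obtain ⟨i, rfl⟩ := mem_zpowers_iff.mp hg
    rw [((Commute.refl q).zpow_left i).eq, mul_inv_cancel_right] at hgq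
    nth_rw 1 [← zpow_one q] at hgq
    have h1 := Q.eq_iff.mp hgq
    rw [show (1 : ℤ) - (2 ^ n + 1) = -2 ^ n by ring, dvd_neg] at h1
    have := Int.le_of_dvd (by positivity) h1
    have : (0 : ℤ) < 2 ^ n := by positivity
    have : (2 : ℤ) ^ (n + 1) = 2 * 2 ^ n := by ring
    linarith
  refine ⟨hgT, hg2, fun e => hg1 (e ▸ one_mem _), fun e => hg1 ?_, fun s hs => ?_⟩
  · rw [e, Q.zq]; exact zpow_mem (mem_zpowers q) _
  · obtain ⟨f, hf⟩ := mem_zpowers_iff.mp (Q.nrm s⁻¹ (inv_mem hs))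
    rw [inv_inv] at hf
    have hb : InT A S (g⁻¹ * (s * g * s⁻¹)) := ⟨mul_mem (inv_mem hgT.1) (hnrm.conj_mem _ hgT.1 s),
      mul_mem (inv_mem hgT.2) (mul_mem (mul_mem hs hgT.2) (inv_mem hs))⟩
    have hgi : g⁻¹ = g := inv_eq_of_mul_eq_one_left hg2
    have e2 : g * q ^ ((2 : ℤ) ^ n + 1) * g⁻¹ = q := by
      rw [← hgq, show g * (g * q * g⁻¹) * g⁻¹ = g * g * q * (g * g)⁻¹ by group, hg2]; group
    have e1 : s * g * s⁻¹ * q * (s * g * s⁻¹)⁻¹ = q ^ ((2 : ℤ) ^ n + 1) := by
      calc s * g * s⁻¹ * q * (s * g * s⁻¹)⁻¹ = s * (g * (s⁻¹ * q * s) * g⁻¹) * s⁻¹ := by group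
        _ = s * q ^ (((2 : ℤ) ^ n + 1) * f) * s⁻¹ := by rw [← hf, ← _root_.conj_zpow, hgq, ← zpow_mul]
        _ = s * (q ^ f) ^ ((2 : ℤ) ^ n + 1) * s⁻¹ := by rw [← zpow_mul, mul_comm f]
        _ = s * (s⁻¹ * q * s⁻¹⁻¹) ^ ((2 : ℤ) ^ n + 1) * s⁻¹ := by rw [hf, inv_inv]
        _ = _ := by rw [_root_.conj_zpow]; group
    obtain ⟨j, hj⟩ := mem_zpowers_iff.mp (hcent _ hb (by
      calc g⁻¹ * (s * g * s⁻¹) * q
          = g⁻¹ * (s * g * s⁻¹ * q * (s * g * s⁻¹)⁻¹) * (s * g * s⁻¹) := by group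
        _ = g⁻¹ * q ^ ((2 : ℤ) ^ n + 1) * g * (g⁻¹ * (s * g * s⁻¹)) := by rw [e1]; group
        _ = g * q ^ ((2 : ℤ) ^ n + 1) * g⁻¹ * (g⁻¹ * (s * g * s⁻¹)) := by rw [hgi]
        _ = q * (g⁻¹ * (s * g * s⁻¹)) := by rw [e2]))
    have hs1 : s * g * s⁻¹ = g * q ^ j := by rw [hj]; group
    have h2 : g * q ^ j * (g * q ^ j) = 1 := by
      rw [← hs1, show s * g * s⁻¹ * (s * g * s⁻¹) = s * (g * g) * s⁻¹ by group, hg2]; group
    have h3 : q ^ ((2 : ℤ) ^ n * j + 2 * j) = 1 := by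
      rw [← h2, show g * q ^ j * (g * q ^ j) = g * q ^ j * g * q ^ j by group]
      nth_rw 2 [← hgi]
      rw [← _root_.conj_zpow, hgq, ← zpow_mul, ← zpow_add]
      congr 1; ring
    obtain ⟨m, rfl⟩ : ∃ m, n = m + 2 := ⟨n - 2, by omega⟩
    have h5 : q ^ (j + j) = 1 := by
      rw [Q.one_iff] at h3 ⊢
      have hco : IsCoprime ((2 : ℤ) ^ (m + 2 + 1)) (2 * 2 ^ m + 1) := IsCoprime.pow_left ⟨-2 ^ m, 1, by ring⟩
      refine hco.dvd_of_dvd_mul_right ?_
      rwa [show (j + j) * (2 * 2 ^ m + 1) = (2 : ℤ) ^ (m + 2) * j + 2 * j by ring]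
    rcases Q.sq_one h5 with e | e
    · exact Or.inl (by rw [hs1, e, mul_one])
    · exact Or.inr (by rw [hs1, e])

/-- One step: a four group, or a larger normal cyclic subgroup, or `⟨q⟩` is self-centralising. -/
theorem Cyc.step (h : Setup A S t c z) (Q : Cyc A S z q n) :
    (∃ v, Four A S z v) ∨ (∃ g, Cyc A S z g (n + 1)) ∨ ∀ x, InT A S x → x * q = q * x → x ∈ zpowers q := by
  classical
  haveI : Fact (Nat.Prime 2) := ⟨Nat.prime_two⟩
  haveI : Group.IsNilpotent (S : Subgroup X) := S.2.isNilpotent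
  by_cases hall : ∀ x, InT A S x → x * q = q * x → x ∈ zpowers q
  · exact Or.inr (Or.inr hall)
  push Not at hall
  obtain ⟨x0, hx0, hx0q, hx0n⟩ := hall
  let qS : (S : Subgroup X) := ⟨q, Q.qT.2⟩
  let M : Subgroup (S : Subgroup X) := (zpowers q).subgroupOf (S : Subgroup X)
  haveI hMn : M.Normal := ⟨fun x hx s => by
    obtain ⟨i, hi⟩ := mem_zpowers_iff.mp (show (x : X) ∈ zpowers q from hx)
    show (s : X) * x * (s : X)⁻¹ ∈ zpowers q
    rw [← hi, ← _root_.conj_zpow]
    exact zpow_mem (Q.nrm s s.2) i⟩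
  let C : Subgroup (S : Subgroup X) := A.subgroupOf (S : Subgroup X) ⊓ centralizer (M : Set (S : Subgroup X))
  haveI := h.nrm
  haveI hCn : C.Normal := inferInstance
  haveI : (C.map (QuotientGroup.mk' M)).Normal := hCn.map _ (QuotientGroup.mk'_surjective M)
  have hne : C.map (QuotientGroup.mk' M) ≠ ⊥ := by
    intro e
    rw [Subgroup.map_eq_bot_iff, QuotientGroup.ker_mk'] at e
    refine hx0n (e (show (⟨x0, hx0.2⟩ : (S : Subgroup X)) ∈ C from ⟨hx0.1, mem_centralizer_iff.mpr ?_⟩))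
    intro m hm
    obtain ⟨i, hi⟩ := mem_zpowers_iff.mp (show (m : X) ∈ zpowers q from hm)
    refine Subtype.ext ?_
    show (m : X) * x0 = x0 * m
    rw [← hi]
    exact ((show Commute q x0 from hx0q.symm).zpow_left i).eq
  have hne' := CfsgLib.inf_center_ne_bot_of_nilpotent hne
  haveI : Nontrivial ↥(C.map (QuotientGroup.mk' M) ⊓ center _) := (nontrivial_iff_ne_bot _).mpr hne'
  obtain ⟨w, hw⟩ : ∃ w : ↥(C.map (QuotientGroup.mk' M) ⊓ center _), orderOf w = 2 := by
    obtain ⟨k, hk⟩ := ((S.2.to_quotient M).to_subgroup (C.map (QuotientGroup.mk' M) ⊓ center _)).exists_card_eq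
    refine exists_prime_orderOf_dvd_card' 2 ?_
    have := Finite.one_lt_card (α := ↥(C.map (QuotientGroup.mk' M) ⊓ center _))
    rw [hk] at this ⊢
    exact dvd_pow_self 2 (by rintro rfl; norm_num at this)
  obtain ⟨⟨g, hgC, hgw⟩, hwc⟩ := (⟨w.2.1, w.2.2⟩ : _ ∧ _)
  have hgT : InT A S (g : X) := ⟨hgC.1, g.2⟩
  have hgq : (g : X) * q = q * g :=
    (congrArg Subtype.val (mem_centralizer_iff.mp hgC.2 qS (show q ∈ zpowers q from mem_zpowers q))).symm
  have hgn : (g : X) ∉ zpowers q := by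
    intro hg
    have : w = 1 := Subtype.ext (by rw [← hgw]; exact (QuotientGroup.eq_one_iff g).mpr hg)
    rw [this, orderOf_one] at hw
    norm_num at hw
  have hcj : ∀ s ∈ (S : Subgroup X), (g : X)⁻¹ * (s * g * s⁻¹) ∈ zpowers q := by
    intro s hs
    have e0 := mem_center_iff.mp hwc (QuotientGroup.mk' M ⟨s, hs⟩)
    rw [← hgw, ← map_mul, ← map_mul, QuotientGroup.mk'_eq_mk'] at e0
    obtain ⟨m, hm, e0⟩ := e0
    have e1 : s * (g : X) * m = g * s := congrArg Subtype.val e0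
    obtain ⟨i, hi⟩ := mem_zpowers_iff.mp (show (m : X) ∈ zpowers q from hm)
    have e2 : (g : X)⁻¹ * (s * g * s⁻¹) = (s * q ^ i * s⁻¹)⁻¹ := by
      rw [hi, show s * (g : X) * s⁻¹ = s * g * m * ((m : X)⁻¹ * s⁻¹) by group, e1]; group
    rw [e2, ← _root_.conj_zpow]
    exact inv_mem (zpow_mem (Q.nrm s hs) i)
  obtain ⟨i, hi⟩ : (g : X) * g ∈ zpowers q := by
    have hw2 : w * w = 1 := by rw [← pow_two]; exact (orderOf_eq_prime_iff.mp hw).1
    have := congrArg Subtype.val hw2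
    rw [show ((w * w : ↥(C.map (QuotientGroup.mk' M) ⊓ center _)) : (S : Subgroup X) ⧸ M) =
      (w : (S : Subgroup X) ⧸ M) * w from rfl, ← hgw, ← map_mul] at this
    exact (QuotientGroup.eq_one_iff (N := M) (g * g)).mp this
  have hi' : q ^ i = (g : X) * g := hi
  rcases Int.even_or_odd i with ⟨p, hp⟩ | ⟨p, hp⟩
  · left
    refine ⟨g * q ^ (-p), ⟨mul_mem hgT.1 (zpow_mem Q.qT.1 _), mul_mem hgT.2 (zpow_mem Q.qT.2 _)⟩, ?_, ?_, ?_, ?_⟩
    · calc (g : X) * q ^ (-p) * (g * q ^ (-p)) = g * (q ^ (-p) * g) * q ^ (-p) := by group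
        _ = g * g * (q ^ (-p) * q ^ (-p)) := by
          rw [((show Commute q (g : X) from hgq.symm).zpow_left (-p)).eq]; group
        _ = 1 := by rw [← hi', hp, ← zpow_add, ← zpow_add, show p + p + (-p + -p) = 0 by ring, zpow_zero]
    · intro e
      refine hgn ?_
      rw [eq_inv_of_mul_eq_one_left e, ← zpow_neg]
      exact zpow_mem (mem_zpowers q) _
    · intro e
      refine hgn ?_
      rw [show (g : X) = g * q ^ (-p) * q ^ p by group, e, Q.zq]
      exact mul_mem (zpow_mem (mem_zpowers q) _) (zpow_mem (mem_zpowers q) _)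
    · intro s hs
      obtain ⟨f, hf⟩ := mem_zpowers_iff.mp (Q.nrm s hs)
      obtain ⟨l, hl⟩ := mem_zpowers_iff.mp (hcj s hs)
      set v := (g : X) * q ^ (-p) with hv
      obtain ⟨j, hj⟩ : ∃ j : ℤ, s * v * s⁻¹ = v * q ^ j := ⟨p + l + f * -p, by
        rw [hv, show s * ((g : X) * q ^ (-p)) * s⁻¹ = g * ((g : X)⁻¹ * (s * g * s⁻¹)) * (s * q ^ (-p) * s⁻¹) by group,
          ← hl, ← _root_.conj_zpow, ← hf, ← zpow_mul, mul_assoc (g : X) (q ^ (-p)), ← zpow_add, mul_assoc, ← zpow_add]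
        congr 2; ring⟩
      have hvq : Commute v q := (show Commute (g : X) q from hgq).mul_left ((Commute.refl q).zpow_left _)
      have hv2 : v * v = 1 := by
        calc v * v = g * (q ^ (-p) * g) * q ^ (-p) := by rw [hv]; group
          _ = g * g * (q ^ (-p) * q ^ (-p)) := by
            rw [((show Commute q (g : X) from hgq.symm).zpow_left (-p)).eq]; group
          _ = 1 := by rw [← hi', hp, ← zpow_add, ← zpow_add, show p + p + (-p + -p) = 0 by ring, zpow_zero]
      have hq2 : q ^ (j + j) = 1 := by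
        have e0 : v * q ^ j * (v * q ^ j) = 1 := by
          rw [← hj, show s * v * s⁻¹ * (s * v * s⁻¹) = s * (v * v) * s⁻¹ by group, hv2]; group
        rw [show v * q ^ j * (v * q ^ j) = v * (q ^ j * v) * q ^ j by group, ← (hvq.zpow_right j).eq,
          show v * (v * q ^ j) * q ^ j = v * v * (q ^ j * q ^ j) by group, hv2, one_mul, ← zpow_add] at e0
        exact e0
      rcases Q.sq_one hq2 with e | e
      · exact Or.inl (by rw [hj, e, mul_one])
      · exact Or.inr (by rw [hj, e])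
  · refine Or.inr (Or.inl ⟨g, hgT, fun s hs => ?_, ?_, ?_⟩)
    · have hqg : zpowers q ≤ zpowers (g : X) := by
        obtain ⟨u, v, huv⟩ : IsCoprime ((2 : ℤ) ^ (n + 1)) i := IsCoprime.pow_left ⟨-p, 1, by rw [hp]; ring⟩
        refine zpowers_le.mpr ?_
        have e0 : q = (q ^ i) ^ v := by
          rw [← zpow_mul]
          nth_rw 1 [← zpow_one q]
          rw [Q.eq_iff]
          exact ⟨u, by linarith⟩
        rw [e0, hi']
        exact zpow_mem (mul_mem (mem_zpowers _) (mem_zpowers _)) v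
      have := mul_mem (mem_zpowers (g : X)) (hqg (hcj s hs))
      rwa [mul_inv_cancel_left] at this
    · refine orderOf_eq_prime_pow ?_ ?_
      · intro e
        rw [pow_succ', pow_mul, pow_two, ← hi', ← zpow_natCast, ← zpow_mul, Q.one_iff] at e
        obtain ⟨o, ho⟩ := e
        push_cast at ho
        rw [hp, show (2 * p + 1) * (2 : ℤ) ^ n = 2 ^ n * (2 * p + 1) by ring,
          show (2 : ℤ) ^ (n + 1) * o = 2 ^ n * (2 * o) by ring] at ho
        have := mul_left_cancel₀ (show (2 : ℤ) ^ n ≠ 0 by positivity) ho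
        omega
      · rw [pow_succ', pow_mul, pow_two, ← hi', ← zpow_natCast, ← zpow_mul, Q.one_iff]
        push_cast
        exact dvd_mul_left _ _
    · rw [Q.zq, pow_succ' (2 : ℤ) n, zpow_mul, zpow_two, ← hi', ← zpow_mul, Q.eq_iff]
      exact ⟨-p, by rw [hp]; ring⟩

/-- The self-centralising case. -/
theorem Cyc.four_of_self (h : Setup A S t c z) (Q : Cyc A S z q n) {a : X} (ha : InT A S a) (ha2 : a * a = 1)
    (ha1 : a ≠ 1) (haz : a ≠ z) (hcent : ∀ x, InT A S x → x * q = q * x → x ∈ zpowers q) : ∃ v, Four A S z v := by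
  classical
  haveI := h.nrm
  have hn : 1 ≤ n := by
    by_contra hn
    obtain rfl : n = 0 := by omega
    have hqz : q = z := by rw [Q.zq]; norm_num
    rcases mem_zpowers_iff.mp (hcent c ⟨h.cA, h.cS⟩ (by rw [hqz, ← h.cz, mul_assoc])) with ⟨i, hi⟩
    refine h.z1 ?_
    rw [← h.cz, ← hi, ← zpow_add, Q.one_iff]
    exact ⟨i, by norm_num; ring⟩
  obtain ⟨m, rfl⟩ : ∃ m, n = m + 1 := ⟨n - 1, by omega⟩
  have act : ∀ x, InT A S x → ∃ e : ℤ, x * q * x⁻¹ = q ^ e := fun x hx =>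
    (mem_zpowers_iff.mp (Q.nrm x hx.2)).imp fun _ => Eq.symm
  have act2 : ∀ {x : X} {e : ℤ}, x * q * x⁻¹ = q ^ e → x * x * q * (x * x)⁻¹ = q ^ (e * e) := by
    intro x e hx
    rw [zpow_mul, ← hx, _root_.conj_zpow, ← hx]; group
  -- a centralising element outside `{1, z, a, a z}`
  set P : X → Prop := fun x => InT A S x ∧ x * a = a * x ∧ x ≠ 1 ∧ x ≠ z ∧ x ≠ a ∧ x ≠ a * z with hP
  by_cases hex : ∃ g, P g
  · obtain ⟨g, hg, hmin⟩ := Set.exists_min_image {g | P g} orderOf (Set.toFinite _) hex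
    obtain ⟨hgT, hga, hg1, hgz, hga1, hgaz⟩ := hg
    have hg2 : g * g = 1 ∨ g * g = z ∨ g * g = a ∨ g * g = a * z := by
      by_contra hne
      push Not at hne
      have hgg : P (g * g) := ⟨⟨mul_mem hgT.1 hgT.1, mul_mem hgT.2 hgT.2⟩,
        by rw [mul_assoc, hga, ← mul_assoc, hga, mul_assoc], hne.1, hne.2.1, hne.2.2.1, hne.2.2.2⟩
      have hlt := hmin _ hgg
      haveI : Fact (Nat.Prime 2) := ⟨Nat.prime_two⟩
      obtain ⟨j, hj⟩ := IsPGroup.iff_orderOf.mp S.2 ⟨g, hgT.2⟩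
      rw [Subgroup.orderOf_mk] at hj
      obtain ⟨j', rfl⟩ : ∃ j', j = j' + 1 := ⟨j - 1, by
        have : j ≠ 0 := fun e => hg1 (orderOf_eq_one_iff.mp (by rw [hj, e, pow_zero]))
        omega⟩
      have hle : orderOf (g * g) ≤ 2 ^ j' := Nat.le_of_dvd (by positivity) (orderOf_dvd_of_pow_eq_one (by
        rw [← pow_two, ← pow_mul, ← pow_succ', ← hj, pow_orderOf_eq_one]))
      have : 2 ^ (j' + 1) = 2 * 2 ^ j' := by ring
      have : 0 < 2 ^ j' := by positivity
      omega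
    have hzq : Commute z q := (h.zc q Q.qT.2).symm
    obtain ⟨e, he⟩ := act a ha
    obtain ⟨f, hf⟩ := act g hgT
    have hee : (2 : ℤ) ^ (m + 1 + 1) ∣ e * e - 1 := by
      have := act2 he
      rw [ha2, one_mul, inv_one, mul_one] at this
      nth_rw 1 [← zpow_one q] at this
      have h1 := Q.eq_iff.mp this
      rwa [← dvd_neg, neg_sub] at h1
    have ne_act : ∀ {x : X} {d : ℤ}, InT A S x → x ∉ zpowers q → x * q * x⁻¹ = q ^ d →
        ¬ (2 : ℤ) ^ (m + 1 + 1) ∣ d - 1 := by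
      intro x d hx hxn hd hdvd
      refine hxn (hcent x hx ?_)
      have : q ^ d = q := by
        nth_rw 2 [← zpow_one q]
        exact Q.eq_iff.mpr hdvd
      rw [this] at hd
      exact mul_inv_eq_iff_eq_mul.mp hd
    have hzz : ∀ {x : X}, x ∈ zpowers q → x * x = 1 → x = 1 ∨ x = z := by
      intro x hx hx2
      obtain ⟨i, rfl⟩ := mem_zpowers_iff.mp hx
      exact Q.sq_one (by rw [zpow_add]; exact hx2)
    have han : a ∉ zpowers q := fun hh => (hzz hh ha2).elim ha1 haz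
    have four_mod : ∀ {x : X} {d : ℤ}, InT A S x → x ∉ zpowers q → x * x = 1 ∨ x * x = z →
        x * q * x⁻¹ = q ^ d → (4 : ℤ) ∣ d - 1 → ∃ v, Four A S z v := by
      intro x d hx hxn hx2 hd h4
      have hdd : (2 : ℤ) ^ (m + 1 + 1) ∣ d * d - 1 := by
        have e2 := act2 hd
        have e3 : x * x * q * (x * x)⁻¹ = q := by
          rcases hx2 with e0 | e0 <;> rw [e0]
          · group
          · rw [hzq.eq, mul_inv_cancel_right]
        rw [e3] at e2
        nth_rw 1 [← zpow_one q] at e2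
        have h1 := Q.eq_iff.mp e2
        rwa [← dvd_neg, neg_sub] at h1
      obtain ⟨b, hb⟩ := h4
      have hd1 : (2 : ℤ) ^ (m + 1) ∣ d - 1 := by
        obtain ⟨o, ho⟩ := hdd
        have hco : IsCoprime ((2 : ℤ) ^ (m + 1)) (2 * b + 1) := IsCoprime.pow_left ⟨-b, 1, by ring⟩
        refine hco.dvd_of_dvd_mul_right ⟨o, ?_⟩
        have e5 : d * d - 1 = 2 * ((d - 1) * (2 * b + 1)) := by rw [show d = 4 * b + 1 by linarith]; ring
        rw [e5, show (2 : ℤ) ^ (m + 1 + 1) * o = 2 * (2 ^ (m + 1) * o) by ring] at ho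
        exact mul_left_cancel₀ two_ne_zero ho
      obtain ⟨o, ho⟩ := hd1
      have hodd : ∃ p, o = 2 * p + 1 := by
        rcases Int.even_or_odd o with ⟨p, hp⟩ | hp
        · exact absurd ⟨p, by rw [ho, hp]; ring⟩ (ne_act hx hxn hd)
        · exact hp
      obtain ⟨p, hp⟩ := hodd
      have hm : 1 ≤ m := by
        by_contra hm
        obtain rfl : m = 0 := by omega
        norm_num at ho
        omega
      obtain ⟨l, rfl⟩ : ∃ l, m = l + 1 := ⟨m - 1, by omega⟩
      have hdq : x * q * x⁻¹ = q ^ ((2 : ℤ) ^ (l + 1 + 1) + 1) := by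
        rw [hd, Q.eq_iff, show d = 2 ^ (l + 1 + 1) * o + 1 by linarith, hp]
        exact ⟨p, by ring⟩
      rcases hx2 with e0 | e0
      · exact ⟨x, Q.four_of_action (by omega) hcent hx e0 hdq h.nrm⟩
      · have hxz : Commute x z := h.zc x hx.2
        refine ⟨x * q ^ ((2 : ℤ) ^ (l + 1)), Q.four_of_action (by omega) hcent
          ⟨mul_mem hx.1 (zpow_mem Q.qT.1 _), mul_mem hx.2 (zpow_mem Q.qT.2 _)⟩ ?_ ?_ h.nrm⟩
        · have e4 : x * q ^ ((2 : ℤ) ^ (l + 1)) * x⁻¹ = q ^ (((2 : ℤ) ^ (l + 1 + 1) + 1) * 2 ^ (l + 1)) := by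
            rw [← _root_.conj_zpow, hdq, ← zpow_mul]
          calc x * q ^ ((2 : ℤ) ^ (l + 1)) * (x * q ^ ((2 : ℤ) ^ (l + 1)))
              = x * q ^ ((2 : ℤ) ^ (l + 1)) * x⁻¹ * (x * x) * q ^ ((2 : ℤ) ^ (l + 1)) := by group
            _ = 1 := by
              rw [e4, e0, Q.zq, ← zpow_add, ← zpow_add, Q.one_iff]
              exact ⟨2 ^ l + 1, by ring⟩
        · rw [show x * q ^ ((2 : ℤ) ^ (l + 1)) * q * (x * q ^ ((2 : ℤ) ^ (l + 1)))⁻¹ =
            x * (q ^ ((2 : ℤ) ^ (l + 1)) * q * (q ^ ((2 : ℤ) ^ (l + 1)))⁻¹) * x⁻¹ by group,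
            ((Commute.refl q).zpow_left _).eq, mul_inv_cancel_right, hdq]
    by_cases he4 : (4 : ℤ) ∣ e - 1
    · exact four_mod ha han (Or.inl ha2) he he4
    have heo : e % 4 = 3 := by
      obtain ⟨o, ho⟩ := hee
      rcases Int.even_or_odd e with ⟨p, hp⟩ | ⟨p, hp⟩
      · exfalso
        rw [hp, show (2 : ℤ) ^ (m + 1 + 1) * o = 2 * (2 ^ (m + 1) * o) by ring] at ho
        have : (2 : ℤ) ∣ 1 := ⟨2 * p * p - 2 ^ (m + 1) * o, by linarith⟩
        norm_num at this
      · omega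
    have hg2' : g * g = 1 ∨ g * g = z := by
      rcases hg2 with e0 | e0 | e0 | e0
      · exact Or.inl e0
      · exact Or.inr e0
      all_goals
        exfalso
        have e2 := act2 hf
        have e3 : g * g * q * (g * g)⁻¹ = q ^ e := by
          rw [e0]
          first
            | exact he
            | rw [show a * z * q * (a * z)⁻¹ = a * (z * q * z⁻¹) * a⁻¹ by group, hzq.eq, mul_inv_cancel_right, he]
        rw [e3] at e2
        obtain ⟨o, ho⟩ := Q.eq_iff.mp e2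
        have h4 : e = f * f + 4 * (2 ^ m * o) := by rw [show (2 : ℤ) ^ (m + 1 + 1) = 4 * 2 ^ m by ring] at ho; linarith
        have : e % 4 = f * f % 4 := by rw [h4, Int.add_mul_emod_self_left]
        rw [heo] at this
        rcases Int.even_or_odd f with ⟨p, hp⟩ | ⟨p, hp⟩
        · rw [hp, show (p + p) * (p + p) = 0 + 4 * (p * p) by ring, Int.add_mul_emod_self_left] at this
          norm_num at this
        · rw [hp, show (2 * p + 1) * (2 * p + 1) = 1 + 4 * (p * p + p) by ring, Int.add_mul_emod_self_left] at this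
          norm_num at this
    have hgn : g ∉ zpowers q ∧ g * a ∉ zpowers q := by
      have key : ∀ x, x * a = a * x → x ∈ zpowers q → x = 1 ∨ x = z := by
        intro x hxa hx
        obtain ⟨i, rfl⟩ := mem_zpowers_iff.mp hx
        refine Q.sq_one ?_
        have e4 : q ^ (e * i) = q ^ i := by
          rw [zpow_mul, ← he, _root_.conj_zpow, ← hxa, mul_inv_cancel_right]
        rw [Q.one_iff]
        have h1 := Q.eq_iff.mp e4
        have hco : IsCoprime ((2 : ℤ) ^ (m + 1 + 1)) (2 * (e / 4) + 1) := IsCoprime.pow_left ⟨-(e / 4), 1, by ring⟩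
        refine hco.dvd_of_dvd_mul_right ?_
        have : e = 4 * (e / 4) + 3 := by omega
        rwa [show (i + i) * (2 * (e / 4) + 1) = e * i - i by
          conv_rhs => rw [this]
          ring]
      refine ⟨fun hh => (key g hga hh).elim hg1 hgz, fun hh => ?_⟩
      have haz' : a * z = z * a := h.zc a ha.2
      rcases key (g * a) (by rw [mul_assoc, ha2, ← mul_assoc, ← hga, mul_assoc, ha2]) hh with e0 | e0
      · exact hga1 (by rw [eq_inv_of_mul_eq_one_left e0, inv_eq_of_mul_eq_one_left ha2])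
      · exact hgaz (by rw [haz', ← e0, mul_assoc, ha2, mul_one])
    by_cases hf4 : (4 : ℤ) ∣ f - 1
    · exact four_mod hgT hgn.1 hg2' hf hf4
    · have hgaT : InT A S (g * a) := ⟨mul_mem hgT.1 ha.1, mul_mem hgT.2 ha.2⟩
      have hga2 : g * a * (g * a) = g * g := by
        rw [show g * a * (g * a) = g * (a * g) * a by group, ← hga, ← mul_assoc, mul_assoc (g * g), ha2, mul_one]
      refine four_mod (d := f * e) hgaT hgn.2 (by rw [hga2]; exact hg2') ?_ ?_
      · rw [show g * a * q * (g * a)⁻¹ = g * (a * q * a⁻¹) * g⁻¹ by group, he, ← _root_.conj_zpow, hf, ← zpow_mul]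
      · have hfo : f % 4 = 3 := by
          rcases Int.even_or_odd f with ⟨p, hp⟩ | ⟨p, hp⟩
          · exfalso
            have e2 := act2 hf
            have e3 : g * g * q * (g * g)⁻¹ = q := by
              rcases hg2' with e0 | e0 <;> rw [e0]
              · group
              · rw [hzq.eq, mul_inv_cancel_right]
            rw [e3] at e2
            nth_rw 1 [← zpow_one q] at e2
            obtain ⟨o, ho⟩ := Q.eq_iff.mp e2
            rw [hp, show (2 : ℤ) ^ (m + 1 + 1) * o = 2 * (2 ^ (m + 1) * o) by ring] at ho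
            have : (2 : ℤ) ∣ 1 := ⟨2 ^ (m + 1) * o + 2 * p * p, by linarith⟩
            norm_num at this
          · omega
        have e1 : e = 4 * (e / 4) + 3 := by omega
        have f1 : f = 4 * (f / 4) + 3 := by omega
        refine ⟨4 * (f / 4) * (e / 4) + 3 * (f / 4) + 3 * (e / 4) + 2, ?_⟩
        conv_lhs => rw [e1, f1]
        ring
  · exfalso
    push Not at hex
    refine h.not_small ha ha2 ha1 haz ⟨a, ha⟩ ?_ ?_
    · exact orderOf_eq_prime (by rw [pow_two]; exact Subtype.ext ha2) fun e => ha1 (congrArg Subtype.val e)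
    · let zT : ↥(A ⊓ (S : Subgroup X)) := ⟨z, h.zT⟩
      let aT : ↥(A ⊓ (S : Subgroup X)) := ⟨a, ha⟩
      have hza : a * z = z * a := h.zc a ha.2
      have hset : (centralizer ({aT} : Set ↥(A ⊓ (S : Subgroup X))) : Set ↥(A ⊓ (S : Subgroup X))) =
          ↑({1, zT, aT, aT * zT} : Finset ↥(A ⊓ (S : Subgroup X))) := by
        ext x
        simp only [Finset.coe_insert, Finset.coe_singleton, Set.mem_insert_iff, Set.mem_singleton_iff, SetLike.mem_coe,
          mem_centralizer_singleton_iff]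
        constructor
        · intro hx
          by_contra hne
          push Not at hne
          exact (hex (x : X) ⟨x.2, congrArg Subtype.val hx, fun e => hne.1 (Subtype.ext e),
            fun e => hne.2.1 (Subtype.ext e), fun e => hne.2.2.1 (Subtype.ext e), fun e => hne.2.2.2 (Subtype.ext e)⟩)
        · rintro (rfl | rfl | rfl | rfl)
          · rw [one_mul, mul_one]
          · exact Subtype.ext hza.symm
          · rfl
          · exact Subtype.ext (show a * z * a = a * (a * z) by rw [mul_assoc, ← hza])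
      rw [← SetLike.coe_sort_coe, Nat.card_coe_set_eq, hset, Set.ncard_coe_finset]
      have e1 : (1 : ↥(A ⊓ (S : Subgroup X))) ≠ zT := fun e => h.z1 (congrArg Subtype.val e).symm
      have e2 : (1 : ↥(A ⊓ (S : Subgroup X))) ≠ aT := fun e => ha1 (congrArg Subtype.val e).symm
      have e3 : (1 : ↥(A ⊓ (S : Subgroup X))) ≠ aT * zT := fun e => haz (by
        have e' : a * z = 1 := (congrArg Subtype.val e).symm
        rw [eq_inv_of_mul_eq_one_left e', inv_eq_of_mul_eq_one_left h.z2])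
      have e4 : zT ≠ aT := fun e => haz (congrArg Subtype.val e).symm
      have e5 : zT ≠ aT * zT := fun e => ha1 (mul_eq_right.mp (congrArg Subtype.val e).symm)
      have e6 : aT ≠ aT * zT := fun e => h.z1 (mul_eq_left.mp (congrArg Subtype.val e).symm)
      simp [e1, e2, e3, e4, e5, e6]

/-- **A four group of `A ⊓ S` normal in `S`.** -/
theorem Setup.exists_four (h : Setup A S t c z) {a : X} (ha : InT A S a) (ha2 : a * a = 1) (ha1 : a ≠ 1)
    (haz : a ≠ z) : ∃ v, Four A S z v := by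
  by_contra hno
  have key : ∀ n : ℕ, ∃ q, Cyc A S z q n := by
    intro n
    induction n with
    | zero => exact ⟨z, h.exists_cyc⟩
    | succ n ih =>
      obtain ⟨q, Q⟩ := ih
      rcases Q.step h with hv | hg | hc
      · exact absurd hv hno
      · exact hg
      · exact absurd (Q.four_of_self h ha ha2 ha1 haz hc) hno
  obtain ⟨q, Q⟩ := key (Nat.card X)
  have h1 := Nat.le_of_dvd Nat.card_pos (orderOf_dvd_natCard q)
  rw [Q.ord] at h1
  have h2 := Nat.lt_two_pow_self (n := Nat.card X)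
  have h3 : 2 ^ (Nat.card X + 1) = 2 * 2 ^ Nat.card X := by ring
  omega

end CfsgLib.CyclicFourFixed
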