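import Cfsg.Agent.Lib.CyclicFourFixed.OutMain

/-!
S1914: all involutions of `A ⊓ S` in the four group, central case.

* `central_absurd`: a four group central in `A` is impossible.
* `Four.false_of_central`: `z` central in `A` is impossible.
-/

set_option autoImplicit false
set_option linter.unusedSectionVars false
set_option linter.style.haveILetI false

namespace CfsgLib.CyclicFourFixed

open Subgroup
open scoped commutatorElement

universe u

variable {X : Type u} [Group X] [Finite X] {A : Subgroup X} {S : Sylow 2 X} {t c z v : X}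

/-- A four group central in `A` is impossible: the commutator subgroup of `A ⊓ S` is cyclic. -/
theorem Four.central_absurd (h : Setup A S t c z) (F : Four A S z v) (hzA : ∀ a ∈ A, a * z = z * a)
    (hvA : ∀ a ∈ A, a * v = v * a) : False := by
  classical
  haveI : Fact (Nat.Prime 2) := ⟨Nat.prime_two⟩
  obtain ⟨r, Rr⟩ := Four.exists_rot h F
  have hwc : ∀ {w x : X}, InV z v w → x ∈ A → x * w = w * x := by
    intro w x hw hx
    rcases hw with rfl | rfl | rfl | rfl
    · rw [one_mul, mul_one]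
    · exact hzA x hx
    · exact hvA x hx
    · rw [← mul_assoc, hvA x hx, mul_assoc, hzA x hx, ← mul_assoc]
  have hform : ∀ x, InT A S x → InR z v r x → ∃ (i : ℤ) (w : X), InV z v w ∧ x = r ^ i * w := fun x _ ⟨i, hi⟩ =>
    ⟨i, _, hi, (mul_inv_cancel_left _ _).symm⟩
  -- the generator of the commutator subgroup
  obtain ⟨d, hd⟩ : ∃ d : X, ∀ x y, InT A S x → InT A S y → x * y * x⁻¹ * y⁻¹ ∈ zpowers d := by
    have hstrip : ∀ {a b w w' : X}, InV z v w → InV z v w' → a ∈ A → b ∈ A →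
        a * w * (b * w') * (a * w)⁻¹ * (b * w')⁻¹ = a * b * a⁻¹ * b⁻¹ := by
      intro a b w w' hw hw' ha hb
      have c1 : Commute w b := (hwc hw hb).symm
      have c2 : Commute w' a⁻¹ := ((show Commute a w' from hwc hw' ha).symm).inv_right
      have c3 : Commute w w' := (hwc hw (hw'.inT h F).1).symm
      calc a * w * (b * w') * (a * w)⁻¹ * (b * w')⁻¹ = a * (w * b) * (w' * w⁻¹) * a⁻¹ * w'⁻¹ * b⁻¹ := by group
        _ = a * (b * w) * (w⁻¹ * w') * a⁻¹ * w'⁻¹ * b⁻¹ := by rw [c1.eq, (c3.inv_left).eq]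
        _ = a * b * (w' * a⁻¹) * w'⁻¹ * b⁻¹ := by group
        _ = _ := by rw [c2.eq]; group
    by_cases hall : ∀ x, InT A S x → InR z v r x
    · refine ⟨1, fun x y hx hy => ?_⟩
      obtain ⟨i, w, hw, rfl⟩ := hform x hx (hall x hx)
      obtain ⟨j, w', hw', rfl⟩ := hform y hy (hall y hy)
      rw [hstrip hw hw' (zpow_mem Rr.rT.1 i) (zpow_mem Rr.rT.1 j),
        ((Commute.refl r).zpow_zpow i j).eq, mul_inv_cancel_right, mul_inv_cancel]
      exact one_mem _
    push Not at hall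
    obtain ⟨u, huT, huR⟩ := hall
    obtain ⟨m, w0, hw0, hm⟩ := hform _ ⟨mul_mem (mul_mem huT.1 Rr.rT.1) (inv_mem huT.1),
      mul_mem (mul_mem huT.2 Rr.rT.2) (inv_mem huT.2)⟩ (Rr.rR u huT)
    set q := u * r * u⁻¹ with hq
    have hrq : Commute r q := by
      rw [hm]; exact ((Commute.refl r).zpow_right m).mul_right (hwc hw0 Rr.rT.1)
    have huR' : ¬ InR z v r u⁻¹ := by
      rintro ⟨i, hi⟩
      refine huR ⟨-i, ?_⟩
      have e0 : u⁻¹ = r ^ i * ((r ^ i)⁻¹ * u⁻¹) := (mul_inv_cancel_left _ _).symm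
      have e1 : u = ((r ^ i)⁻¹ * u⁻¹)⁻¹ * (r ^ i)⁻¹ := by group
      rw [e1, inv_eq_of_mul_eq_one_left (hi.sq h F), ← hwc hi (inv_mem (zpow_mem Rr.rT.1 i)), zpow_neg, inv_inv,
        mul_inv_cancel_left]
      exact hi
    have hgen : ∀ x, InT A S x → ∃ (i : ℤ) (w : X), InV z v w ∧ (x = r ^ i * w ∨ x = r ^ i * u * w) := by
      intro x hx
      by_cases hxR : InR z v r x
      · obtain ⟨i, w, hw, e⟩ := hform x hx hxR
        exact ⟨i, w, hw, Or.inl e⟩
      · obtain ⟨i, w, hw, e⟩ := hform (x * u⁻¹) ⟨mul_mem hx.1 (inv_mem huT.1), mul_mem hx.2 (inv_mem huT.2)⟩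
          (Rr.index x u⁻¹ hx ⟨inv_mem huT.1, inv_mem huT.2⟩ hxR huR')
        refine ⟨i, w, hw, Or.inr ?_⟩
        rw [mul_assoc (r ^ i), hwc hw huT.1, ← mul_assoc, ← e, inv_mul_cancel_right]
    refine ⟨r * q⁻¹, fun x y hx hy => ?_⟩
    have hrq' : Commute r q⁻¹ := hrq.inv_right
    have hqp : ∀ i : ℤ, u * r ^ i * u⁻¹ = q ^ i := fun i => (_root_.conj_zpow).symm
    have hpow : ∀ i : ℤ, r ^ i * q ^ (-i) = (r * q⁻¹) ^ i := fun i => by rw [hrq'.mul_zpow, inv_zpow']
    have mixed : ∀ i j : ℤ, r ^ i * (r ^ j * u) * (r ^ i)⁻¹ * (r ^ j * u)⁻¹ ∈ zpowers (r * q⁻¹) := fun i j => by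
      have e0 : r ^ i * (r ^ j * u) * (r ^ i)⁻¹ * (r ^ j * u)⁻¹ = r ^ j * (r ^ i * q ^ (-i)) * r ^ (-j) := by
        rw [← hqp, ← zpow_neg]
        calc r ^ i * (r ^ j * u) * r ^ (-i) * (r ^ j * u)⁻¹ = r ^ i * r ^ j * (u * r ^ (-i) * u⁻¹) * r ^ (-j) := by
              group
          _ = r ^ j * r ^ i * (u * r ^ (-i) * u⁻¹) * r ^ (-j) := by rw [((Commute.refl r).zpow_zpow i j).eq]
          _ = _ := by group
      have c0 : Commute (r ^ j) (r ^ i * q ^ (-i)) :=
        ((Commute.refl r).zpow_zpow j i).mul_right (hrq.zpow_zpow j (-i))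
      rw [e0, c0.eq, mul_assoc, ← zpow_add, add_neg_cancel, zpow_zero, mul_one, hpow]
      exact zpow_mem (mem_zpowers _) i
    obtain ⟨i, w, hw, rfl | rfl⟩ := hgen x hx <;> obtain ⟨j, w', hw', rfl | rfl⟩ := hgen y hy
    · rw [hstrip hw hw' (zpow_mem Rr.rT.1 i) (zpow_mem Rr.rT.1 j),
        ((Commute.refl r).zpow_zpow i j).eq, mul_inv_cancel_right, mul_inv_cancel]
      exact one_mem _
    · rw [hstrip hw hw' (zpow_mem Rr.rT.1 i) (mul_mem (zpow_mem Rr.rT.1 j) huT.1)]
      exact mixed i j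
    · rw [hstrip hw hw' (mul_mem (zpow_mem Rr.rT.1 i) huT.1) (zpow_mem Rr.rT.1 j)]
      have := inv_mem (mixed j i)
      rwa [show (r ^ j * (r ^ i * u) * (r ^ j)⁻¹ * (r ^ i * u)⁻¹)⁻¹ =
        r ^ i * u * r ^ j * (r ^ i * u)⁻¹ * (r ^ j)⁻¹ by group] at this
    · rw [hstrip hw hw' (mul_mem (zpow_mem Rr.rT.1 i) huT.1) (mul_mem (zpow_mem Rr.rT.1 j) huT.1)]
      have e0 : r ^ i * u * (r ^ j * u) * (r ^ i * u)⁻¹ * (r ^ j * u)⁻¹ = r ^ i * q ^ (j + -i) * r ^ (-j) := by
        rw [← hqp, zpow_add]; group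
      rw [e0, mul_assoc, ((hrq.zpow_zpow (-j) (j + -i)).symm).eq, ← mul_assoc, ← zpow_add,
        show j + -i = -(i + -j) by ring, hpow]
      exact zpow_mem (mem_zpowers _) _
  -- an involution of the four group outside `⟨d⟩`
  obtain ⟨y, hy, hy1, hyd⟩ : ∃ y, InV z v y ∧ y ≠ 1 ∧ y ∉ zpowers d := by
    by_cases hzd : z ∈ zpowers d
    · refine ⟨v, Or.inr (Or.inr (Or.inl rfl)), F.v1, fun hvd => F.vz ?_⟩
      obtain ⟨i, hi⟩ := mem_zpowers_iff.mp hvd
      obtain ⟨j, hj⟩ := mem_zpowers_iff.mp hzd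
      have hi2 : (orderOf d : ℤ) ∣ i + i := orderOf_dvd_iff_zpow_eq_one.mpr (by rw [zpow_add, hi, F.v2])
      have hi1 : ¬ (orderOf d : ℤ) ∣ i := fun hh => F.v1 (by rw [← hi, orderOf_dvd_iff_zpow_eq_one.mp hh])
      have hj2 : (orderOf d : ℤ) ∣ j + j := orderOf_dvd_iff_zpow_eq_one.mpr (by rw [zpow_add, hj, h.z2])
      have hj1 : ¬ (orderOf d : ℤ) ∣ j := fun hh => h.z1 (by rw [← hj, orderOf_dvd_iff_zpow_eq_one.mp hh])
      obtain ⟨p, hp⟩ := hi2
      obtain ⟨o, ho⟩ := hj2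
      rcases Int.even_or_odd p with ⟨p', e⟩ | ⟨p', e⟩
      · exact absurd ⟨p', by subst e; linarith⟩ hi1
      rcases Int.even_or_odd o with ⟨o', e'⟩ | ⟨o', e'⟩
      · exact absurd ⟨o', by subst e'; linarith⟩ hj1
      subst e e'
      rw [← hi, ← hj, ← mul_inv_eq_one, ← zpow_neg, ← zpow_add, ← orderOf_dvd_iff_zpow_eq_one]
      exact ⟨p' - o', by linarith⟩
    · exact ⟨z, Or.inr (Or.inl rfl), h.z1, hzd⟩
  have hyT := hy.inT h F
  set P := sylowA h.nrm S with hP
  let yA : A := ⟨y, hyT.1⟩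
  have hodd : Odd (P : Subgroup A).index := Nat.not_even_iff_odd.mp fun e => P.not_dvd_index e.two_dvd
  let yP : (P : Subgroup A) := ⟨yA, hyT.2⟩
  let φ : (P : Subgroup A) →* Abelianization (P : Subgroup A) := Abelianization.of
  have hval := transfer_const_value φ (x := yA) (Subtype.ext (hy.sq h F)) (w := φ yP) (by
      rw [← map_mul, show yP * yP = 1 from Subtype.ext (Subtype.ext (hy.sq h F)), map_one]) fun p ⟨k, hk⟩ => by
    refine congrArg φ (Subtype.ext ?_)
    rw [← hk]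
    refine Subtype.ext ?_
    show (k : X)⁻¹ * y * k = y
    rw [mul_assoc, ← hwc hy k.2, inv_mul_cancel_left]
  rw [eq_one_of_perfect h.perf] at hval
  obtain ⟨o, ho⟩ := hodd
  rw [ho, pow_succ, pow_mul, pow_two, ← map_mul, show yP * yP = 1 from Subtype.ext (Subtype.ext (hy.sq h F)), map_one,
    one_pow, one_mul] at hval
  have hker : yP ∈ commutator (P : Subgroup A) := Abelianization.ker_of (P : Subgroup A) ▸ MonoidHom.mem_ker.mpr hval.symm
  have hle : commutator (P : Subgroup A) ≤ (zpowers d).comap (A.subtype.comp (P : Subgroup A).subtype) := by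
    rw [commutator_def, Subgroup.commutator_le]
    intro a _ b _
    show ((⁅a, b⁆ : (P : Subgroup A)) : A).1 ∈ zpowers d
    have e0 : ((⁅a, b⁆ : (P : Subgroup A)) : A).1 =
        (a : A).1 * (b : A).1 * (a : A).1⁻¹ * (b : A).1⁻¹ := rfl
    rw [e0]
    exact hd _ _ ⟨(a : A).2, a.2⟩ ⟨(b : A).2, b.2⟩
  exact hyd (hle hker)

/-- **`z` central in `A`.** -/
theorem Four.false_of_central (h : Setup A S t c z) (F : Four A S z v)
    (hall : ∀ x, InT A S x → x * x = 1 → InV z v x) (hzA : ∀ a ∈ A, a * z = z * a) : False := by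
  classical
  haveI : Fact (Nat.Prime 2) := ⟨Nat.prime_two⟩
  refine F.central_absurd h hzA ?_
  haveI := h.nrm
  set P := sylowA h.nrm S with hP
  let zA : A := ⟨z, h.zA⟩
  let vA : A := ⟨v, F.vT.1⟩
  have hzc : zA ∈ center A := (h.center_iff h.zA).mpr hzA
  set Z := zpowers zA with hZdef
  haveI : Z.Normal := ⟨fun x hx g => by
    rw [mem_center_iff.mp (zpowers_le.mpr hzc hx) g, mul_inv_cancel_right]
    exact hx⟩
  let π := QuotientGroup.mk' Z
  have hsurj : Function.Surjective π := QuotientGroup.mk'_surjective Z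
  have hperf : commutator (A ⧸ Z) = ⊤ := by
    have e0 := congrArg (Subgroup.map π) h.perf
    rw [commutator_def, Subgroup.map_commutator, Subgroup.map_top_of_surjective π hsurj] at e0
    rw [commutator_def]; exact e0
  have hsol : ∀ N : Subgroup (A ⧸ Z), N.Normal → Group.IsSolvable N → N ≤ center (A ⧸ Z) := by
    intro N hN hs
    haveI := hN
    haveI : (N.comap π).Normal := inferInstance
    have hs' : Group.IsSolvable ↥(N.comap π) := by
      let f : ↥(N.comap π) →* N := π.subgroupComap N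
      haveI := hs
      haveI : Group.IsSolvable ↥f.ker := by
        refine isSolvable_of_comm fun a b => Subtype.ext (Subtype.ext ?_)
        have ha : ((a : ↥(N.comap π)) : A) ∈ Z := (QuotientGroup.eq_one_iff _).mp (congrArg Subtype.val a.2)
        exact (mem_center_iff.mp (zpowers_le.mpr hzc ha) _).symm
      exact Group.isSolvable_of_ker_le_range f.ker.subtype f (by rw [range_subtype])
    intro w hw
    obtain ⟨x, rfl⟩ := hsurj w
    refine mem_center_iff.mpr fun g => ?_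
    obtain ⟨g, rfl⟩ := hsurj g
    rw [← map_mul, ← map_mul, mem_center_iff.mp (h.sol _ inferInstance hs' (show x ∈ N.comap π from hw)) g]
  set P' := P.mapSurjective hsurj with hP'
  have hmemP : ∀ {w : A ⧸ Z}, w ∈ (P' : Subgroup (A ⧸ Z)) → ∃ p ∈ (P : Subgroup A), π p = w := fun hw => by
    rw [hP', Sylow.coe_mapSurjective] at hw
    exact hw
  have hv1 : π vA ≠ 1 := fun e => by
    obtain ⟨i, hi⟩ := mem_zpowers_iff.mp ((QuotientGroup.eq_one_iff vA).mp e)
    have hi' : z ^ i = v := congrArg Subtype.val hi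
    rcases Int.even_or_odd i with ⟨o, ho⟩ | ⟨o, ho⟩
    · exact F.v1 (by rw [← hi', ho, ← two_mul, zpow_mul, zpow_two, h.z2, one_zpow])
    · exact F.vz (by rw [← hi', ho, zpow_add, zpow_mul, zpow_two, h.z2, one_zpow, one_mul, zpow_one])
  have hzmem : ∀ {x : A}, ((x : X) = 1 ∨ (x : X) = z) → x ∈ Z := by
    rintro x (e | e)
    · rw [show x = 1 from Subtype.ext e]; exact one_mem _
    · rw [show x = zA from Subtype.ext e]; exact mem_zpowers zA
  intro a ha
  have hvc : π vA ∈ center (A ⧸ Z) := by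
    by_contra hnc
    have hcP : ∀ p ∈ (P' : Subgroup (A ⧸ Z)), p * π vA = π vA * p := by
      intro p hp
      obtain ⟨p, hpP, rfl⟩ := hmemP hp
      rw [← map_mul, ← map_mul]
      refine QuotientGroup.eq.mpr (hzmem ?_)
      show (p * vA : A).1⁻¹ * (vA * p : A).1 = 1 ∨ (p * vA : A).1⁻¹ * (vA * p : A).1 = z
      rcases F.nrm _ (inv_mem (show (p : X) ∈ (S : Subgroup X) from hpP)) with e | e <;> rw [inv_inv] at e
      · left
        show ((p : X) * v)⁻¹ * (v * p) = 1
        rw [show ((p : X) * v)⁻¹ * (v * p) = v⁻¹ * ((p : X)⁻¹ * v * p) by group, e, inv_mul_cancel]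
      · right
        show ((p : X) * v)⁻¹ * (v * p) = z
        rw [show ((p : X) * v)⁻¹ * (v * p) = v⁻¹ * ((p : X)⁻¹ * v * p) by group, e, inv_mul_cancel_left]
    obtain ⟨g, hgP, hgne⟩ := exists_other_conj hperf hsol P' (z := π vA)
      (by rw [← map_mul, show vA * vA = 1 from Subtype.ext F.v2, map_one]) hv1 hcP hnc
    obtain ⟨k, rfl⟩ := hsurj g
    obtain ⟨p, hpP, hp⟩ := hmemP hgP
    rw [← map_inv, ← map_mul, ← map_mul] at hp hgne
    obtain ⟨i, hi⟩ := mem_zpowers_iff.mp (QuotientGroup.eq.mp hp)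
    have hi' : z ^ i = (p : X)⁻¹ * ((k : X) * v * (k : X)⁻¹) := congrArg Subtype.val hi
    have hy : InT A S ((k : X) * v * (k : X)⁻¹) :=
      ⟨(k * vA * k⁻¹ : A).2, by
        rw [show (k : X) * v * (k : X)⁻¹ = (p : X) * z ^ i by rw [hi']; group]
        exact mul_mem hpP (zpow_mem h.zS i)⟩
    have hy2 : (k : X) * v * (k : X)⁻¹ * ((k : X) * v * (k : X)⁻¹) = 1 := by
      rw [show (k : X) * v * (k : X)⁻¹ * ((k : X) * v * (k : X)⁻¹) = (k : X) * (v * v) * (k : X)⁻¹ by group, F.v2]; group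
    have hk := hall _ hy hy2
    rcases hk with e | e | e | e
    · exact F.v1 (conj_eq_one_iff.mp e)
    · refine F.vz ?_
      calc v = (k : X)⁻¹ * ((k : X) * v * (k : X)⁻¹) * k := by group
        _ = (k : X)⁻¹ * (z * k) := by rw [e]; group
        _ = z := by rw [← hzA k k.2]; group
    · exact hgne (congrArg π (Subtype.ext e))
    · refine hgne (QuotientGroup.eq.mpr (hzmem (Or.inr ?_)))
      show ((k : X) * v * (k : X)⁻¹)⁻¹ * v = z
      rw [e, mul_inv_rev, mul_assoc, inv_mul_cancel, mul_one, inv_eq_of_mul_eq_one_left h.z2]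
  refine h.central_of_comm F.vT.1 (fun a ha b hb => ?_) a ha
  have e0 : π (vA * ⟨a, ha⟩ * vA⁻¹ * ⟨a, ha⟩⁻¹) = 1 := by
    rw [map_mul, map_mul, map_mul, map_inv, map_inv, ← mem_center_iff.mp hvc]; group
  exact congrArg Subtype.val (mem_center_iff.mp (zpowers_le.mpr hzc ((QuotientGroup.eq_one_iff _).mp e0)) ⟨b, hb⟩)

end CfsgLib.CyclicFourFixed
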