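import Cfsg.Agent.Lib.CyclicFourFixed.InCase
import Cfsg.Agent.S0949

/-!
S1914: assembly.

* `Setup.false_of_second`: `A ⊓ S` has no involution other than `z`.
-/

set_option autoImplicit false
set_option linter.unusedSectionVars false
set_option linter.style.haveILetI false

namespace CfsgLib.CyclicFourFixed

open Subgroup
open scoped commutatorElement

universe u

variable {X : Type u} [Group X] [Finite X] {A : Subgroup X} {S : Sylow 2 X} {t c z v : X}

theorem InR.mul (h : Setup A S t c z) (F : Four A S z v) {r a b : X} (hr : InT A S r) (ha : InR z v r a)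
    (hb : InR z v r b) : InR z v r (a * b) := by
  obtain ⟨i, hi⟩ := ha
  obtain ⟨j, hj⟩ := hb
  refine ⟨i + j, ?_⟩
  have hc := Four.conjV h F (inv_mem (zpow_mem hr.2 j)) hi
  rw [inv_inv] at hc
  have := InV.mul h F hc hj
  rw [show (r ^ j)⁻¹ * ((r ^ i)⁻¹ * a) * r ^ j * ((r ^ j)⁻¹ * b) = (r ^ (i + j))⁻¹ * (a * b) by
    rw [zpow_add]; group] at this
  exact this

/-- Four distinct involutions in `A ⊓ S` are too many. -/
theorem Four.four_invol (F : Four A S z v) (hall : ∀ x, InT A S x → x * x = 1 → InV z v x)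
    (f : Fin 4 → X) (hf : Function.Injective f) (hT : ∀ i, InT A S (f i) ∧ f i * f i = 1 ∧ f i ≠ 1) : False := by
  have key : ∀ i, f i = z ∨ f i = v ∨ f i = v * z := fun i => by
    rcases hall _ (hT i).1 (hT i).2.1 with e | e
    · exact absurd e (hT i).2.2
    · exact e
  have hfin : ({z, v, v * z} : Set X).Finite := Set.toFinite _
  have h1 : (Set.range f).ncard ≤ ({z, v, v * z} : Set X).ncard := Set.ncard_le_ncard (by
    rintro _ ⟨i, rfl⟩; exact key i) hfin
  rw [← Nat.card_coe_set_eq, Nat.card_range_of_injective hf, Nat.card_fin] at h1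
  have h2 : ({z, v, v * z} : Set X).ncard ≤ 3 := by
    refine (Set.ncard_insert_le _ _).trans ?_
    have := Set.ncard_insert_le v ({v * z} : Set X)
    rw [Set.ncard_singleton] at this
    omega
  omega

/-- A conjugate of a two-subgroup of `A` lies in `A ⊓ S`. -/
theorem Setup.conj_into (h : Setup A S t c z) {E : Subgroup A} (hE : IsPGroup 2 E) :
    ∃ g : A, ∀ e ∈ E, InT A S ((g * e * g⁻¹ : A) : X) := by
  haveI : Fact (Nat.Prime 2) := ⟨Nat.prime_two⟩
  obtain ⟨Q, hQ⟩ := hE.exists_le_sylow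
  obtain ⟨g, hg⟩ := MulAction.exists_smul_eq A Q (sylowA h.nrm S)
  refine ⟨g, fun e he => ⟨(g * e * g⁻¹ : A).2, ?_⟩⟩
  have hm : g * e * g⁻¹ ∈ (sylowA h.nrm S : Subgroup A) := by
    rw [← hg, Sylow.coe_subgroup_smul]
    exact ⟨e, hQ he, rfl⟩
  exact hm

theorem card_le_four_list {G : Type*} [Group G] {H : Subgroup G} {a b d : G}
    (hH : ∀ x ∈ H, x = 1 ∨ x = a ∨ x = b ∨ x = d) : Nat.card H ≤ 4 := by
  classical
  rw [← SetLike.coe_sort_coe, Nat.card_coe_set_eq]
  refine (Set.ncard_le_ncard (t := ↑({1, a, b, d} : Finset G)) (fun x hx => ?_) (Finset.finite_toSet _)).trans ?_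
  · simpa using hH x hx
  · rw [Set.ncard_coe_finset]
    exact Finset.card_le_four

/-- All involutions in the four group, `z` not central. -/
theorem Four.false_of_noncentral (h : Setup A S t c z) (F : Four A S z v)
    (hall : ∀ x, InT A S x → x * x = 1 → InV z v x) (hnz : ¬ ∀ a ∈ A, a * z = z * a) : False := by
  classical
  haveI : Fact (Nat.Prime 2) := ⟨Nat.prime_two⟩
  haveI := h.nrm
  set P := sylowA h.nrm S with hP
  -- no involution of `A ⊓ S` is central in `A`
  have hno : ∀ w, InV z v w → w ≠ 1 → ¬ ∀ a ∈ A, a * w = w * a := by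
    intro w hw hw1 hc
    have hc' : ∀ a ∈ A, a * (t * w * t) = t * w * t * a := fun a ha => by
      have hta : t * a * t ∈ A := by
        have := h.nrm.conj_mem a ha t
        rwa [h.t_inv] at this
      have := congrArg (fun x => t * x * t) (hc _ hta)
      beta_reduce at this
      rwa [tmul (x := t * a * t) h.t2, tmul (x := w) h.t2, tinvol h.t2] at this
    rcases hw with rfl | rfl | rfl | rfl
    · exact hw1 rfl
    · exact hnz hc
    · rw [Four.vt h F] at hc'
      exact hnz fun a ha => by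
        have e1 := hc' a ha
        rw [← mul_assoc, hc a ha, mul_assoc, mul_assoc] at e1
        exact mul_left_cancel e1
    · rw [show t * (v * z) * t = v by
        rw [tmul h.t2, Four.vt h F, ← h.zt, mul_assoc z, h.t2, mul_one, mul_assoc, h.z2, mul_one]] at hc'
      exact hnz fun a ha => by
        have e1 := hc a ha
        rw [← mul_assoc, hc' a ha, mul_assoc, mul_assoc] at e1
        exact mul_left_cancel e1
  have hpow : ∀ {x : X}, InT A S x → x ≠ 1 → ∃ l : ℕ, InV z v (x ^ l) ∧ x ^ l ≠ 1 := by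
    intro x hx hx1
    obtain ⟨l, hl⟩ := IsPGroup.iff_orderOf.mp S.2 ⟨x, hx.2⟩
    rw [Subgroup.orderOf_mk] at hl
    obtain ⟨l', rfl⟩ : ∃ l', l = l' + 1 := ⟨l - 1, by
      have : l ≠ 0 := fun e => hx1 (orderOf_eq_one_iff.mp (by rw [hl, e, pow_zero]))
      omega⟩
    refine ⟨2 ^ l', hall _ ⟨pow_mem hx.1 _, pow_mem hx.2 _⟩ (by rw [← pow_add, ← two_mul, ← pow_succ', ← hl, pow_orderOf_eq_one]),
      fun e => ?_⟩
    have := Nat.le_of_dvd (by positivity) (orderOf_dvd_of_pow_eq_one e)
    rw [hl, pow_succ] at this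
    have : 0 < 2 ^ l' := by positivity
    omega
  -- the hypotheses of the fusion theorem in `A`
  have hr2 : Cfsg.PRankLE 2 2 A := by
    intro E hEc hE2
    obtain ⟨g, hg⟩ := h.conj_into (E := E) (fun e => ⟨1, Subtype.ext (by simpa using hE2 e e.2)⟩)
    rw [← Subgroup.card_map_of_injective (f := A.subtype.comp (MulAut.conj g).toMonoidHom)
      (show Function.Injective _ from Subtype.coe_injective.comp (MulAut.conj g).injective)]
    refine (card_le_four_list (a := z) (b := v) (d := v * z) ?_).trans (by norm_num)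
    rintro _ ⟨e, he, rfl⟩
    have e2 : e * e = 1 := by rw [← pow_two]; exact hE2 e he
    refine hall _ (hg e he) ?_
    exact congrArg Subtype.val (show g * e * g⁻¹ * (g * e * g⁻¹) = 1 by
      rw [show g * e * g⁻¹ * (g * e * g⁻¹) = g * (e * e) * g⁻¹ by group, e2]; group)
  have hr1 : ¬ Cfsg.PRankLE 2 1 A := by
    intro hle
    let E : Subgroup A := ((vGroup h F).map (S : Subgroup X).subtype).subgroupOf A
    have hEmem : ∀ x : A, x ∈ E ↔ InV z v (x : X) := fun x => by
      constructor
      · rintro ⟨y, hy, e⟩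
        exact (show (y : X) = (x : X) from e) ▸ hy
      · intro hx
        exact ⟨⟨(x : X), (hx.inT h F).2⟩, hx, rfl⟩
    have hE2 : ∀ e ∈ E, e ^ 2 = 1 := fun e he => by
      rw [pow_two]; exact Subtype.ext (((hEmem e).mp he).sq h F)
    have hEc : IsMulCommutative E := ⟨⟨fun a b => by
      have ha := hE2 _ a.2; have hb := hE2 _ b.2; have hab := hE2 _ (mul_mem a.2 b.2)
      rw [pow_two] at ha hb hab
      refine Subtype.ext ?_
      show (a : A) * b = b * a
      calc (a : A) * b = ((a : A) * b)⁻¹ := (inv_eq_of_mul_eq_one_left hab).symm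
        _ = (b : A) * a := by
          rw [mul_inv_rev, inv_eq_of_mul_eq_one_left ha, inv_eq_of_mul_eq_one_left hb]⟩⟩
    have h3 : ({1, (⟨z, h.zA⟩ : A), ⟨v, F.vT.1⟩} : Finset A).card = 3 := by
      have e1 : (1 : A) ≠ ⟨z, h.zA⟩ := fun e => h.z1 (congrArg Subtype.val e).symm
      have e2 : (1 : A) ≠ ⟨v, F.vT.1⟩ := fun e => F.v1 (congrArg Subtype.val e).symm
      have e3 : (⟨z, h.zA⟩ : A) ≠ ⟨v, F.vT.1⟩ := fun e => F.vz (congrArg Subtype.val e).symm
      simp [e1, e2, e3]
    have h4 : 3 ≤ Nat.card E := by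
      refine h3.ge.trans ?_
      have e0 : Nat.card E = (E : Set A).ncard := Nat.card_coe_set_eq _
      rw [e0, ← Set.ncard_coe_finset]
      refine Set.ncard_le_ncard (fun x hx => ?_) (Set.toFinite _)
      simp only [Finset.coe_insert, Finset.coe_singleton, Set.mem_insert_iff, Set.mem_singleton_iff] at hx
      refine (hEmem x).mpr ?_
      rcases hx with rfl | rfl | rfl
      exacts [Or.inl rfl, Or.inr (Or.inl rfl), Or.inr (Or.inr (Or.inl rfl))]
    have := hle E hEc hE2
    omega
  have hiso : ∀ w : A, ¬ Cfsg.IsIsolatedInvolution w := by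
    intro w hw
    have hwc : w ∈ center A := mem_center_of_comm h.perf fun g =>
      h.sol (Cfsg.pPrimeCore 2 A) inferInstance
        (Cfsg.Agent.S0205.result (Nat.coprime_two_right.1 (CfsgLib.card_pPrimeCore_coprime 2)))
        (CfsgLib.ZStar.commutator_mem hw.1 hw.2 g)
    have hw2 : w * w = 1 := by rw [← pow_two]; exact (orderOf_eq_prime_iff.mp hw.1).1
    have hp : IsPGroup 2 (zpowers w) := pgroup_zpowers (k := 1) (by rw [pow_one, pow_two, hw2])
    obtain ⟨g, hg⟩ := h.conj_into hp
    have e := hg w (mem_zpowers w)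
    rw [mem_center_iff.mp hwc g, mul_inv_cancel_right] at e
    exact hno _ (hall _ e (congrArg Subtype.val hw2)) (fun e1 => (orderOf_eq_prime_iff.mp hw.1).2 (Subtype.ext e1))
      ((h.center_iff w.2).mp hwc)
  obtain ⟨-, -, hshape | ⟨φ, hφ⟩⟩ := CfsgLib.RankTwoSylow.main hr2 hr1 hiso P
  · rcases hshape with ⟨m, hm, ⟨f⟩⟩ | hQ | hW
    · obtain ⟨l, hl⟩ := IsPGroup.exists_card_eq P.2
      rw [Nat.card_congr f.toEquiv, DihedralGroup.nat_card] at hl
      obtain ⟨j, rfl⟩ : ∃ j, m = 2 ^ j := by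
        obtain ⟨j, -, e⟩ := (Nat.dvd_prime_pow Nat.prime_two).mp (⟨2, by rw [← hl]; ring⟩ : m ∣ 2 ^ l)
        exact ⟨j, e⟩
      rcases (show j = 1 ∨ 2 ≤ j by
        rcases j with _ | _ | j
        · norm_num at hm
        · exact Or.inl rfl
        · exact Or.inr (by omega)) with rfl | hj
      · have e : ∀ u : DihedralGroup (2 ^ 1), u * u = 1 := by decide
        have := congrArg (fun p : (P : Subgroup A) => ((p : A) : X))
          (show (⟨⟨c, h.cA⟩, h.cS⟩ : (P : Subgroup A)) * ⟨⟨c, h.cA⟩, h.cS⟩ = 1 from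
            f.injective (by rw [map_mul, map_one]; exact e _))
        exact h.z1 (h.cz.symm.trans this)
      · haveI : NeZero (2 ^ j) := ⟨by positivity⟩
        have h4 : 4 ≤ 2 ^ j := by
          calc 4 = 2 ^ 2 := by norm_num
            _ ≤ _ := Nat.pow_le_pow_right two_pos hj
        refine F.four_invol hall (fun i : Fin 4 => ((f.symm (DihedralGroup.sr (i.val : ZMod (2 ^ j))) : A) : X))
          ?_ fun i => ?_
        · intro a b e
          have e1 := f.symm.injective (Subtype.ext (Subtype.ext e))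
          have e2 : ((a.val : ℕ) : ZMod (2 ^ j)) = b.val := by simpa using e1
          have e3 := congrArg ZMod.val e2
          rw [ZMod.val_natCast_of_lt (a.isLt.trans_le h4), ZMod.val_natCast_of_lt (b.isLt.trans_le h4)] at e3
          exact Fin.ext e3
        · set p := f.symm (DihedralGroup.sr (i.val : ZMod (2 ^ j))) with hp
          refine ⟨⟨(p : A).2, p.2⟩, ?_, fun e => ?_⟩
          · exact congrArg (fun p : (P : Subgroup A) => ((p : A) : X)) (show p * p = 1 by
              rw [hp, ← map_mul, DihedralGroup.sr_mul_self, map_one])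
          · have e1 : p = 1 := Subtype.ext (Subtype.ext e)
            rw [hp, MulEquiv.map_eq_one_iff] at e1
            rw [DihedralGroup.one_def] at e1
            cases e1
    · obtain ⟨n, hn3, -, x, y, hx, hy, hrel⟩ := hQ
      have hy2 : y * y = 1 := by rw [← pow_two]; exact (orderOf_eq_prime_iff.mp hy).1
      have hyi : y⁻¹ = y := inv_eq_of_mul_eq_one_left hy2
      refine F.four_invol hall (fun i : Fin 4 => (((x ^ (2 * i.val) * y : (P : Subgroup A)) : A) : X)) ?_ fun i => ?_
      · intro a b e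
        have e1 : x ^ (2 * a.val) = x ^ (2 * b.val) := mul_right_cancel (b := y) (Subtype.ext (Subtype.ext e))
        have h8 : 2 ^ 3 ≤ 2 ^ n := Nat.pow_le_pow_right two_pos hn3
        have := pow_injOn_Iio_orderOf (G := (P : Subgroup A)) (x := x) (show 2 * a.val < orderOf x by rw [hx]; omega)
          (show 2 * b.val < orderOf x by rw [hx]; omega) e1
        exact Fin.ext (by omega)
      · set p := x ^ (2 * i.val) * y with hp
        refine ⟨⟨(p : A).2, p.2⟩, ?_, fun e => ?_⟩
        · refine congrArg (fun p : (P : Subgroup A) => ((p : A) : X)) (show p * p = 1 from ?_)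
          rw [hp, show x ^ (2 * i.val) * y * (x ^ (2 * i.val) * y) = x ^ (2 * i.val) * (y * x ^ (2 * i.val) * y) by
            group]
          nth_rw 2 [← hyi]
          rw [← conj_pow, hrel, ← pow_mul, ← pow_add, ← orderOf_dvd_iff_pow_eq_one, hx]
          obtain ⟨n', rfl⟩ : ∃ n', n = n' + 1 := ⟨n - 1, by omega⟩
          refine ⟨i.val, ?_⟩
          have h1 : 1 ≤ 2 ^ n' := Nat.one_le_two_pow
          rw [Nat.add_sub_cancel, pow_succ]
          obtain ⟨q, hq⟩ : ∃ q, 2 ^ n' = q + 1 := ⟨2 ^ n' - 1, by omega⟩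
          rw [hq, Nat.add_sub_cancel]
          ring
        · have e1 : p = 1 := Subtype.ext (Subtype.ext e)
          rw [hp] at e1
          have hcomm : Commute y x := by
            rw [eq_inv_of_mul_eq_one_right e1]
            exact ((Commute.refl x).pow_left _).inv_left
          rw [hcomm.eq, mul_inv_cancel_right] at hrel
          have h1 : (x ^ (2 ^ (n - 1) - 1 - 1)) = 1 := by
            have h8 : 2 ^ 2 ≤ 2 ^ (n - 1) := Nat.pow_le_pow_right two_pos (by omega)
            have e2 := hrel.symm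
            rw [show 2 ^ (n - 1) - 1 = 2 ^ (n - 1) - 1 - 1 + 1 by omega, pow_succ] at e2
            exact mul_eq_right.mp e2
          have h8 : 2 ^ 2 ≤ 2 ^ (n - 1) := Nat.pow_le_pow_right two_pos (by omega)
          have h2 := Nat.le_of_dvd (by omega) (orderOf_dvd_of_pow_eq_one h1)
          rw [hx] at h2
          have : 2 ^ n = 2 * 2 ^ (n - 1) := by rw [← pow_succ']; congr 1; omega
          omega
    · obtain ⟨n, hn, -, x, y, s, hx, hxy, hdis, hs, hsx⟩ := hW
      have hy : orderOf y = 2 ^ n := by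
        rw [← hsx, ← hx]
        exact orderOf_injective (MulAut.conj s).toMonoidHom (MulAut.conj s).injective x
      have hd : ∀ a b : (P : Subgroup A), a ∈ zpowers x → b ∈ zpowers y → a = b → a = 1 := fun a b ha hb e => by
        have : a ∈ zpowers x ⊓ zpowers y := ⟨ha, e ▸ hb⟩
        rwa [hdis, mem_bot] at this
      obtain ⟨n', rfl⟩ : ∃ n', n = n' + 1 := ⟨n - 1, by omega⟩
      set a := x ^ (2 ^ n') with ha
      set b := y ^ (2 ^ n') with hb
      have hlt : 2 ^ n' < 2 ^ (n' + 1) := Nat.pow_lt_pow_right (by norm_num) (by omega)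
      have ha2 : a * a = 1 := by rw [ha, ← pow_add, ← two_mul, ← pow_succ', ← hx, pow_orderOf_eq_one]
      have hb2 : b * b = 1 := by rw [hb, ← pow_add, ← two_mul, ← pow_succ', ← hy, pow_orderOf_eq_one]
      have ha1 : a ≠ 1 := pow_ne_one_of_lt_orderOf (by positivity) (by rw [hx]; exact hlt)
      have hb1 : b ≠ 1 := pow_ne_one_of_lt_orderOf (by positivity) (by rw [hy]; exact hlt)
      have hab : a * b = b * a := ((show Commute x y from hxy).pow_pow _ _).eq
      have haX : a ∈ zpowers x := pow_mem (mem_zpowers x) _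
      have hbY : b ∈ zpowers y := pow_mem (mem_zpowers y) _
      have hne : a ≠ b := fun e => ha1 (hd a b haX hbY e)
      have hs2 : s * s = 1 := by rw [← pow_two]; exact (orderOf_eq_prime_iff.mp hs).1
      have hs1 : s ≠ 1 := (orderOf_eq_prime_iff.mp hs).2
      have hab1 : a * b ≠ 1 := fun e => hne (by rw [eq_inv_of_mul_eq_one_left e, inv_eq_of_mul_eq_one_left hb2])
      -- `s` moves `x`, so it differs from the three
      have hsm : ∀ w : (P : Subgroup A), Commute w x → w ≠ s := fun w hw e => by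
        subst e
        rw [hw.eq, mul_inv_cancel_right] at hsx
        have := hd x y (mem_zpowers x) (mem_zpowers y) hsx
        rw [this, orderOf_one] at hx
        have : 2 ≤ 2 ^ (n' + 1) := Nat.le_self_pow (by omega) 2
        omega
      have hax : Commute a x := (Commute.refl x).pow_left _
      have hbx : Commute b x := (show Commute y x from hxy.symm).pow_left _
      let f : Fin 4 → (P : Subgroup A) := ![a, b, a * b, s]
      refine F.four_invol hall (fun i => ((f i : A) : X)) ?_ fun i => ⟨⟨(f i : A).2, (f i).2⟩, ?_, ?_⟩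
      · intro i j e
        have e' : f i = f j := Subtype.ext (Subtype.ext e)
        have n1 : a ≠ a * b := fun e => hb1 (mul_eq_left.mp e.symm)
        have n2 : b ≠ a * b := fun e => ha1 (mul_eq_right.mp e.symm)
        have n3 := hsm a hax
        have n4 := hsm b hbx
        have n5 := hsm (a * b) (hax.mul_left hbx)
        fin_cases i <;> fin_cases j <;>
          first
            | rfl
            | exact (hne e').elim
            | exact (hne e'.symm).elim
            | exact (n1 e').elim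
            | exact (n1 e'.symm).elim
            | exact (n2 e').elim
            | exact (n2 e'.symm).elim
            | exact (n3 e').elim
            | exact (n3 e'.symm).elim
            | exact (n4 e').elim
            | exact (n4 e'.symm).elim
            | exact (n5 e').elim
            | exact (n5 e'.symm).elim
      · refine congrArg (fun p : (P : Subgroup A) => ((p : A) : X)) (show f i * f i = 1 from ?_)
        fin_cases i
        · exact ha2
        · exact hb2
        · show a * b * (a * b) = 1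
          rw [show a * b * (a * b) = a * (b * a) * b by group, ← hab,
            show a * (a * b) * b = a * a * (b * b) by group, ha2, hb2, one_mul]
        · exact hs2
      · intro e
        have e' : f i = 1 := Subtype.ext (Subtype.ext e)
        fin_cases i
        exacts [ha1 e', hb1 e', hab1 e', hs1 e']
  -- transitive automorphism
  obtain ⟨r, Rr⟩ := Four.exists_rot h F
  let mk : ∀ x : X, InT A S x → (P : Subgroup A) := fun x hx => ⟨⟨x, hx.1⟩, hx.2⟩
  have hmk : ∀ p : (P : Subgroup A), InT A S ((p : A) : X) := fun p => ⟨(p : A).2, p.2⟩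
  let zP := mk z h.zT
  let vP := mk v F.vT
  let cP := mk c ⟨h.cA, h.cS⟩
  have hzP : orderOf zP = 2 := orderOf_eq_prime (by rw [pow_two]; exact Subtype.ext (Subtype.ext h.z2))
    fun e => h.z1 (congrArg (fun p : (P : Subgroup A) => ((p : A) : X)) e)
  have hvP : orderOf vP = 2 := orderOf_eq_prime (by rw [pow_two]; exact Subtype.ext (Subtype.ext F.v2))
    fun e => F.v1 (congrArg (fun p : (P : Subgroup A) => ((p : A) : X)) e)
  obtain ⟨k, hk⟩ := hφ zP vP hzP hvP
  set ψ := φ ^ k with hψ
  have hcw : ∀ {w : X}, InV z v w → Commute c w := by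
    intro w hw
    have hcv : Commute c v := Four.cv h F
    have hcz : Commute c z := h.zc c h.cS
    rcases hw with rfl | rfl | rfl | rfl
    exacts [Commute.one_right _, hcz, hcv, hcv.mul_right hcz]
  have hcsq : ∀ {y : X}, InV z v (c⁻¹ * y) → y * y = z := fun {y} e => by
    calc y * y = c * (c⁻¹ * y * c) * (c⁻¹ * y) := by group
      _ = c * (c * (c⁻¹ * y)) * (c⁻¹ * y) := by rw [← (hcw e).eq]
      _ = c * c * (c⁻¹ * y * (c⁻¹ * y)) := by group
      _ = z := by rw [e.sq h F, mul_one, h.cz]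
  have hsqR : ∀ x, InT A S x → InR z v r (x * x) := fun x hx => by
    by_cases hxR : InR z v r x
    · exact InR.mul h F Rr.rT hxR hxR
    · exact Rr.index x x hx hx hxR hxR
  by_cases hex : ∃ x, InT A S x ∧ InV z v (c⁻¹ * (x * x))
  · obtain ⟨x, hx, hxc⟩ := hex
    have e1 : x * x * (x * x) = z := hcsq hxc
    have e2 : ψ (mk x hx) * ψ (mk x hx) * (ψ (mk x hx) * ψ (mk x hx)) = vP := by
      rw [← map_mul, ← map_mul, ← hk]
      exact congrArg ψ (Subtype.ext (Subtype.ext e1))
    set x' : X := ((ψ (mk x hx) : A) : X) with hx'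
    have e3 : x' * x' * (x' * x') = v := congrArg (fun p : (P : Subgroup A) => ((p : A) : X)) e2
    have hxT' : InT A S x' := hmk _
    rcases Rr.invol _ (hsqR x' hxT') (by rw [e3]; exact Or.inr (Or.inr (Or.inl rfl))) with e4 | e4
    · exact F.v1 (e3.symm.trans (e4.sq h F))
    · exact F.vz (e3.symm.trans (hcsq e4))
  push Not at hex
  have hsqV : ∀ x, InT A S x → InV z v (x * x) := fun x hx => by
    have h4T : InT A S (x * x) := ⟨mul_mem hx.1 hx.1, mul_mem hx.2 hx.2⟩
    obtain ⟨l, hl⟩ := IsPGroup.iff_orderOf.mp S.2 ⟨x, hx.2⟩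
    rw [Subgroup.orderOf_mk] at hl
    -- descend along the squares
    suffices H : ∀ (m : ℕ) (y : X), InT A S y → y ^ 2 ^ m = 1 → InV z v (y * y) from
      H l x hx (by rw [← hl, pow_orderOf_eq_one])
    intro m
    induction m with
    | zero =>
      intro y _ e
      rw [pow_zero, pow_one] at e
      exact Or.inl (by rw [e, one_mul])
    | succ m ih =>
      intro y hy e
      have h1 := ih (y * y) ⟨mul_mem hy.1 hy.1, mul_mem hy.2 hy.2⟩ (by rw [← pow_two, ← pow_mul, ← pow_succ', e])
      exact (Rr.invol _ (hsqR y hy) h1).resolve_right (hex y hy)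
  have hvcT : ∀ x, InT A S x → x * v = v * x := fun x hx => by
    have hzc' : ∀ p : (P : Subgroup A), p * zP = zP * p := fun p => Subtype.ext (Subtype.ext (h.zc _ p.2))
    have := congrArg ψ (hzc' (ψ.symm (mk x hx)))
    rw [map_mul, map_mul, MulEquiv.apply_symm_apply, hk] at this
    exact congrArg (fun p : (P : Subgroup A) => ((p : A) : X)) this
  have hVc : ∀ {w x : X}, InV z v w → InT A S x → x * w = w * x := by
    intro w x hw hx
    rcases hw with rfl | rfl | rfl | rfl
    · rw [one_mul, mul_one]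
    · exact h.zc x hx.2
    · exact hvcT x hx
    · rw [← mul_assoc, hvcT x hx, mul_assoc, h.zc x hx.2, ← mul_assoc]
  have hRV : ∀ x, InT A S x → InR z v r x → InV z v x ∨ InV z v (c⁻¹ * x) := fun x hx hxR =>
    Rr.invol x hxR (hsqV x hx)
  have hcommV : ∀ x y, InT A S x → InT A S y → InV z v (x * y * x⁻¹ * y⁻¹) := fun x y hx hy => by
    have ha : InV z v (x * y * (x * y)) := hsqV _ ⟨mul_mem hx.1 hy.1, mul_mem hx.2 hy.2⟩
    have hb : InV z v (x⁻¹ * x⁻¹) := hsqV _ ⟨inv_mem hx.1, inv_mem hx.2⟩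
    have hd : InV z v (y⁻¹ * y⁻¹) := hsqV _ ⟨inv_mem hy.1, inv_mem hy.2⟩
    have e : x * y * x⁻¹ * y⁻¹ = x * y * (x * y) * (y⁻¹ * y⁻¹) * (y * (x⁻¹ * x⁻¹) * y⁻¹) := by group
    rw [e]
    exact InV.mul h F (InV.mul h F ha hd) (Four.conjV h F hy.2 hb)
  -- commutators take only one non-trivial value
  obtain ⟨e, he⟩ : ∃ e : X, ∀ x y, InT A S x → InT A S y → x * y * x⁻¹ * y⁻¹ = 1 ∨ x * y * x⁻¹ * y⁻¹ = e := by
    by_cases hallR : ∀ x, InT A S x → InR z v r x
    · refine ⟨1, fun x y hx hy => Or.inl ?_⟩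
      have hxy : Commute x y := by
        rcases hRV x hx (hallR x hx) with e1 | e1
        · exact (hVc e1 hy).symm
        · rcases hRV y hy (hallR y hy) with e2 | e2
          · exact hVc e2 hx
          · have e4 : Commute (c⁻¹ * x) (c⁻¹ * y) := hVc e2 (e1.inT h F)
            have := ((Commute.refl c).mul_left (hcw e1).symm).mul_right ((hcw e2).mul_left e4)
            rwa [mul_inv_cancel_left, mul_inv_cancel_left] at this
      rw [hxy.eq]; group
    push Not at hallR
    obtain ⟨u, hu, huR⟩ := hallR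
    refine ⟨c * u * c⁻¹ * u⁻¹, fun x y hx hy => ?_⟩
    have hcu := hcommV c u ⟨h.cA, h.cS⟩ hu
    set e := c * u * c⁻¹ * u⁻¹ with he
    have he2 : e * e = 1 := hcu.sq h F
    -- every element is `c^i u^j` times an element of the four group
    have gen : ∀ x, InT A S x → ∃ a w : X, (a = 1 ∨ a = c ∨ a = u ∨ a = c * u) ∧ InV z v w ∧ x = a * w := by
      intro x hx
      by_cases hxR : InR z v r x
      · rcases hRV x hx hxR with e1 | e1
        · exact ⟨1, x, Or.inl rfl, e1, (one_mul x).symm⟩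
        · exact ⟨c, c⁻¹ * x, Or.inr (Or.inl rfl), e1, (mul_inv_cancel_left c x).symm⟩
      · have huu := hsqV u hu
        rcases hRV (x * u) ⟨mul_mem hx.1 hu.1, mul_mem hx.2 hu.2⟩ (Rr.index x u hx hu hxR huR) with e1 | e1
        · refine ⟨u, (x * u) * (u * u), Or.inr (Or.inr (Or.inl rfl)), InV.mul h F e1 huu, ?_⟩
          rw [hVc (InV.mul h F e1 huu) hu,
            show x * u * (u * u) * u = x * ((u * u) * (u * u)) by group, huu.sq h F, mul_one]
        · refine ⟨c * u, (c⁻¹ * (x * u)) * (u * u), Or.inr (Or.inr (Or.inr rfl)), InV.mul h F e1 huu, ?_⟩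
          rw [← mul_assoc (c * u), mul_assoc c u, hVc e1 hu,
            show c * (c⁻¹ * (x * u) * u) * (u * u) = x * ((u * u) * (u * u)) by group, huu.sq h F, mul_one]
    have cu : Commute c e := (hVc hcu ⟨h.cA, h.cS⟩)
    have ue : Commute u e := hVc hcu hu
    have huc : u * c = e * (c * u) := by
      calc u * c = e⁻¹ * (c * u) := by rw [he]; group
        _ = e * (c * u) := by rw [inv_eq_of_mul_eq_one_left he2]
    obtain ⟨a, w, ha, hw, rfl⟩ := gen x hx
    obtain ⟨b, w', hb, hw', rfl⟩ := gen y hy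
    have hT : ∀ a, (a = 1 ∨ a = c ∨ a = u ∨ a = c * u) → InT A S a := by
      rintro a (rfl | rfl | rfl | rfl)
      exacts [⟨one_mem _, one_mem _⟩, ⟨h.cA, h.cS⟩, hu, ⟨mul_mem h.cA hu.1, mul_mem h.cS hu.2⟩]
    have estrip : a * w * (b * w') * (a * w)⁻¹ * (b * w')⁻¹ = a * b * a⁻¹ * b⁻¹ := by
      have c1 : Commute w b := (hVc hw (hT b hb)).symm
      have c2 : Commute w' a⁻¹ := ((show Commute a w' from hVc hw' (hT a ha)).symm).inv_right
      have c3 : Commute w w' := (hVc hw (hw'.inT h F)).symm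
      calc a * w * (b * w') * (a * w)⁻¹ * (b * w')⁻¹ = a * (w * b) * (w' * w⁻¹) * a⁻¹ * w'⁻¹ * b⁻¹ := by group
        _ = a * (b * w) * (w⁻¹ * w') * a⁻¹ * w'⁻¹ * b⁻¹ := by rw [c1.eq, (c3.inv_left).eq]
        _ = a * b * (w' * a⁻¹) * w'⁻¹ * b⁻¹ := by group
        _ = _ := by rw [c2.eq]; group
    rw [estrip]
    have key : a * b = b * a ∨ a * b = e * (b * a) := by
      have e1 : c * u = e * (u * c) := by rw [huc, ← mul_assoc, he2, one_mul]
      have e2 : c * (c * u) = e * (c * u * c) := by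
        rw [mul_assoc c u c, ← mul_assoc e, ← cu.eq, mul_assoc, ← e1]
      have e3 : c * u * c = e * (c * (c * u)) := by rw [e2, ← mul_assoc, he2, one_mul]
      have e4 : u * (c * u) = e * (c * u * u) := by rw [← mul_assoc, huc, mul_assoc]
      have e5 : c * u * u = e * (u * (c * u)) := by rw [e4, ← mul_assoc, he2, one_mul]
      rcases ha with rfl | rfl | rfl | rfl <;> rcases hb with rfl | rfl | rfl | rfl <;>
        first
          | exact Or.inl (by rw [one_mul, mul_one])
          | exact Or.inl (by rw [mul_one, one_mul])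
          | exact Or.inl rfl
          | exact Or.inr e1
          | exact Or.inr huc
          | exact Or.inr e2
          | exact Or.inr e3
          | exact Or.inr e4
          | exact Or.inr e5
    rcases key with e1 | e1
    · exact Or.inl (by rw [e1]; group)
    · exact Or.inr (by rw [e1]; group)
  by_cases hab : ∃ x y, InT A S x ∧ InT A S y ∧ x * y * x⁻¹ * y⁻¹ ≠ 1
  · obtain ⟨x, y, hx, hy, hne⟩ := hab
    set d := x * y * x⁻¹ * y⁻¹ with hd
    have hdT : InT A S d := (hcommV x y hx hy).inT h F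
    have hde : ∀ p q : (P : Subgroup A), p * q * p⁻¹ * q⁻¹ ≠ 1 → p * q * p⁻¹ * q⁻¹ = mk d hdT := by
      intro p q hpq
      have h1 := (he _ _ (hmk p) (hmk q)).resolve_left fun e0 => hpq (Subtype.ext (Subtype.ext e0))
      exact Subtype.ext (Subtype.ext (h1.trans ((he x y hx hy).resolve_left hne).symm))
    have hfix : ∀ i : ℕ, (φ ^ i) (mk d hdT) = mk d hdT := fun i => by
      have e0 : mk d hdT = mk x hx * mk y hy * (mk x hx)⁻¹ * (mk y hy)⁻¹ := rfl
      rw [e0, map_mul, map_mul, map_mul, map_inv, map_inv, ← e0]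
      refine hde _ _ fun e1 => hne ?_
      have e2 : (φ ^ i) (mk x hx * mk y hy * (mk x hx)⁻¹ * (mk y hy)⁻¹) = 1 := by
        rw [map_mul, map_mul, map_mul, map_inv, map_inv]; exact e1
      rw [MulEquiv.map_eq_one_iff] at e2
      exact congrArg (fun p : (P : Subgroup A) => ((p : A) : X)) e2
    have hdo : orderOf (mk d hdT) = 2 := orderOf_eq_prime
      (by rw [pow_two]; exact Subtype.ext (Subtype.ext ((hcommV x y hx hy).sq h F)))
      fun e0 => hne (congrArg (fun p : (P : Subgroup A) => ((p : A) : X)) e0)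
    obtain ⟨i, hi⟩ := hφ (mk d hdT) zP hdo hzP
    obtain ⟨j, hj⟩ := hφ (mk d hdT) vP hdo hvP
    rw [hfix] at hi hj
    exact F.vz (congrArg (fun p : (P : Subgroup A) => ((p : A) : X)) (hj.symm.trans hi))
  push Not at hab
  have hcomm : ∀ x y, InT A S x → InT A S y → Commute x y := fun x y hx hy =>
    mul_inv_eq_iff_eq_mul.mp (mul_inv_eq_one.mp (hab x y hx hy))
  -- `A ⊓ S` is the homocyclic group of type `(4, 4)`
  set c' : X := ((ψ cP : A) : X) with hc'
  have hc'T : InT A S c' := hmk _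
  have hcc' : c' * c' = v := by
    have e0 : cP * cP = zP := Subtype.ext (Subtype.ext h.cz)
    have := congrArg ψ e0
    rw [map_mul, hk] at this
    exact congrArg (fun p : (P : Subgroup A) => ((p : A) : X)) this
  have hcT : InT A S c := ⟨h.cA, h.cS⟩
  have pow4 : ∀ {x w : X}, x * x = w → w * w = 1 → x ^ (4 : ℤ) = 1 := fun {x w} e1 e2 => by
    rw [show (4 : ℤ) = 2 + 2 by norm_num, zpow_add, zpow_two, e1, e2]
  have hc4 := pow4 h.cz h.z2
  have hc'4 := pow4 hcc' F.v2
  have hzmod : ∀ {x : X}, x ^ (4 : ℤ) = 1 → ∀ i j : ℤ, ((i : ZMod 4) = (j : ZMod 4)) → x ^ i = x ^ j := by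
    intro x hx i j hij
    obtain ⟨o, ho⟩ := (ZMod.intCast_eq_intCast_iff_dvd_sub i j 4).mp hij
    rw [show j = i + 4 * o by push_cast at ho; linarith, zpow_add, zpow_mul, hx, one_zpow, mul_one]
  let g0 : Multiplicative (ZMod (2 ^ 2) × ZMod (2 ^ 2)) → (P : Subgroup A) := fun w =>
    mk (c ^ ((Multiplicative.toAdd w).1.val : ℤ) * c' ^ ((Multiplicative.toAdd w).2.val : ℤ))
      ⟨mul_mem (zpow_mem hcT.1 _) (zpow_mem hc'T.1 _), mul_mem (zpow_mem hcT.2 _) (zpow_mem hc'T.2 _)⟩
  let gh : Multiplicative (ZMod (2 ^ 2) × ZMod (2 ^ 2)) →* (P : Subgroup A) := MonoidHom.mk' g0 fun a b => by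
    refine Subtype.ext (Subtype.ext ?_)
    set a' := Multiplicative.toAdd a
    set b' := Multiplicative.toAdd b
    show c ^ ((a' + b').1.val : ℤ) * c' ^ ((a' + b').2.val : ℤ) =
      c ^ (a'.1.val : ℤ) * c' ^ (a'.2.val : ℤ) * (c ^ (b'.1.val : ℤ) * c' ^ (b'.2.val : ℤ))
    have k1 : ∀ p q : ZMod (2 ^ 2), ((((p + q).val : ℕ) : ℤ) : ZMod 4) = (((p.val : ℤ) + (q.val : ℤ) : ℤ) : ZMod 4) := by
      decide
    rw [Prod.fst_add, Prod.snd_add, hzmod hc4 _ _ (k1 a'.1 b'.1), hzmod hc'4 _ _ (k1 a'.2 b'.2), zpow_add, zpow_add]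
    have := ((hcomm c c' hcT hc'T).zpow_zpow (b'.1.val : ℤ) (a'.2.val : ℤ)).eq
    rw [show c ^ (a'.1.val : ℤ) * c ^ (b'.1.val : ℤ) * (c' ^ (a'.2.val : ℤ) * c' ^ (b'.2.val : ℤ)) =
      c ^ (a'.1.val : ℤ) * (c ^ (b'.1.val : ℤ) * c' ^ (a'.2.val : ℤ)) * c' ^ (b'.2.val : ℤ) by group, this]
    group
  have hinj : Function.Injective gh := by
    rw [injective_iff_map_eq_one]
    intro w hw
    have e0 : c ^ ((Multiplicative.toAdd w).1.val : ℤ) * c' ^ ((Multiplicative.toAdd w).2.val : ℤ) = 1 :=
      congrArg (fun p : (P : Subgroup A) => ((p : A) : X)) hw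
    set i := (Multiplicative.toAdd w).1.val with hi
    set j := (Multiplicative.toAdd w).2.val with hj
    have hi4 : i < 4 := ZMod.val_lt (Multiplicative.toAdd w).1
    have hj4 : j < 4 := ZMod.val_lt (Multiplicative.toAdd w).2
    have esq : z ^ (i : ℤ) * v ^ (j : ℤ) = 1 := by
      have cc := (hcomm c c' hcT hc'T).zpow_zpow (i : ℤ) (j : ℤ)
      calc z ^ (i : ℤ) * v ^ (j : ℤ) = c ^ (i : ℤ) * c ^ (i : ℤ) * (c' ^ (j : ℤ) * c' ^ (j : ℤ)) := by
            rw [← h.cz, ← hcc', (Commute.refl c).mul_zpow, (Commute.refl c').mul_zpow]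
        _ = c ^ (i : ℤ) * (c ^ (i : ℤ) * c' ^ (j : ℤ)) * c' ^ (j : ℤ) := by group
        _ = c ^ (i : ℤ) * (c' ^ (j : ℤ) * c ^ (i : ℤ)) * c' ^ (j : ℤ) := by rw [cc.eq]
        _ = c ^ (i : ℤ) * c' ^ (j : ℤ) * (c ^ (i : ℤ) * c' ^ (j : ℤ)) := by group
        _ = 1 := by rw [e0, one_mul]
    have hvz1 : v * z ≠ 1 := fun e1 => F.vz (by rw [eq_inv_of_mul_eq_one_left e1, inv_eq_of_mul_eq_one_left h.z2])
    have hzv1 : z * v ≠ 1 := fun e1 => hvz1 (by rw [h.zc v F.vT.2, e1])
    have hij : i = 0 ∧ j = 0 := by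
      interval_cases i <;> interval_cases j <;> simp [zpow_ofNat, pow_succ, h.z2, F.v2, h.z1, F.v1, hzv1] at esq e0 ⊢ <;>
        simp [h.cz, hcc', h.z1, F.v1, hzv1] at e0
    apply Multiplicative.toAdd.injective
    exact Prod.ext (ZMod.val_injective _ (by simpa [← hi] using hij.1)) (ZMod.val_injective _ (by simpa [← hj] using hij.2))
  have hsurj : Function.Surjective gh := by
    intro p
    have hc1 : c = ((gh (Multiplicative.ofAdd (1, 0)) : A) : X) := by
      show c = c ^ (((1 : ZMod (2 ^ 2)).val : ℕ) : ℤ) * c' ^ (((0 : ZMod (2 ^ 2)).val : ℕ) : ℤ)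
      rw [show ((1 : ZMod (2 ^ 2)).val) = 1 by decide, show ((0 : ZMod (2 ^ 2)).val) = 0 by decide]
      simp
    have hc2 : c' = ((gh (Multiplicative.ofAdd (0, 1)) : A) : X) := by
      show c' = c ^ (((0 : ZMod (2 ^ 2)).val : ℕ) : ℤ) * c' ^ (((1 : ZMod (2 ^ 2)).val : ℕ) : ℤ)
      rw [show ((1 : ZMod (2 ^ 2)).val) = 1 by decide, show ((0 : ZMod (2 ^ 2)).val) = 0 by decide]
      simp
    let G := (gh.range.map ((A.subtype).comp (P : Subgroup A).subtype))
    have cG : c ∈ G := ⟨_, ⟨_, rfl⟩, hc1.symm⟩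
    have c'G : c' ∈ G := ⟨_, ⟨_, rfl⟩, hc2.symm⟩
    have hVG : ∀ w, InV z v w → w ∈ G := by
      rintro w (rfl | rfl | rfl | rfl)
      exacts [one_mem _, h.cz ▸ mul_mem cG cG, hcc' ▸ mul_mem c'G c'G,
        mul_mem (hcc' ▸ mul_mem c'G c'G) (h.cz ▸ mul_mem cG cG)]
    have hx := hmk p
    obtain ⟨q, hq, hqs⟩ : ∃ q ∈ G, q * q = ((p : A) : X) * p := by
      rcases hsqV _ hx with e0 | e0 | e0 | e0
      · exact ⟨1, one_mem _, by rw [e0, one_mul]⟩
      · exact ⟨c, cG, by rw [e0, h.cz]⟩
      · exact ⟨c', c'G, by rw [e0, hcc']⟩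
      · refine ⟨c' * c, mul_mem c'G cG, ?_⟩
        rw [e0, show c' * c * (c' * c) = c' * (c * c') * c by group, (hcomm c c' hcT hc'T).eq,
          show c' * (c' * c) * c = c' * c' * (c * c) by group, hcc', h.cz]
    have hqT : InT A S q := by
      obtain ⟨w, -, rfl⟩ := hq
      exact hmk w
    have hd2 : ((p : A) : X) * q⁻¹ * (((p : A) : X) * q⁻¹) = 1 := by
      have cc := hcomm _ _ ⟨inv_mem hqT.1, inv_mem hqT.2⟩ hx
      calc ((p : A) : X) * q⁻¹ * (((p : A) : X) * q⁻¹) = ((p : A) : X) * (q⁻¹ * (p : A)) * q⁻¹ := by group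
        _ = ((p : A) : X) * ((p : A) * q⁻¹) * q⁻¹ := by rw [cc.eq]
        _ = ((p : A) : X) * p * (q * q)⁻¹ := by group
        _ = 1 := by rw [hqs, mul_inv_cancel]
    have hpG : ((p : A) : X) ∈ G := by
      have := mul_mem (hVG _ (hall _ ⟨mul_mem hx.1 (inv_mem hqT.1), mul_mem hx.2 (inv_mem hqT.2)⟩ hd2)) hq
      rwa [inv_mul_cancel_right] at this
    obtain ⟨_, ⟨w, rfl⟩, e⟩ := hpG
    exact ⟨w, Subtype.ext (Subtype.ext e)⟩
  -- Brauer's theorem in `A / Z(A)`
  let π := QuotientGroup.mk' (center A)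
  have hπ : Function.Surjective π := QuotientGroup.mk'_surjective _
  set P' := P.mapSurjective hπ with hP'
  have hπinj : Function.Injective (π.subgroupMap (P : Subgroup A)) := by
    rw [injective_iff_map_eq_one]
    intro p hp
    by_contra hp1
    obtain ⟨l, hlV, hl1⟩ := hpow (hmk p) (fun e0 => hp1 (Subtype.ext (Subtype.ext e0)))
    refine hno _ hlV hl1 ?_
    have hc : (p : A) ∈ center A := (QuotientGroup.eq_one_iff _).mp (congrArg Subtype.val hp)
    exact (h.center_iff (pow_mem (p : A).2 l)).mp (show ((p : A) ^ l : A) ∈ center A from pow_mem hc l)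
  have hP'eq : (P' : Subgroup (A ⧸ center A)) = (P : Subgroup A).map π := Sylow.coe_mapSurjective hπ P
  let e' : (P' : Subgroup (A ⧸ center A)) ≃* Multiplicative (ZMod (2 ^ 2) × ZMod (2 ^ 2)) :=
    (MulEquiv.subgroupCongr hP'eq).trans
      ((MulEquiv.ofBijective (π.subgroupMap (P : Subgroup A)) ⟨hπinj, MonoidHom.subgroupMap_surjective _ _⟩).symm.trans
        (MulEquiv.ofBijective gh ⟨hinj, hsurj⟩).symm)
  have hOdd : ∀ N : Subgroup (A ⧸ center A), N.Normal → Odd (Nat.card N) → N = ⊥ := by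
    intro N hN ho
    haveI := hN
    haveI := Cfsg.Agent.S0205.result ho
    let f : ↥(N.comap π) →* N := π.subgroupComap N
    haveI : Group.IsSolvable ↥f.ker := isSolvable_of_comm fun a b => Subtype.ext (Subtype.ext (by
      have ha : ((a : ↥(N.comap π)) : A) ∈ center A := (QuotientGroup.eq_one_iff _).mp (congrArg Subtype.val a.2)
      exact (mem_center_iff.mp ha _).symm))
    have hle := h.sol (N.comap π) inferInstance (Group.isSolvable_of_ker_le_range f.ker.subtype f (by rw [range_subtype]))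
    rw [eq_bot_iff]
    intro w hw
    obtain ⟨x, rfl⟩ := hπ w
    exact mem_bot.mpr ((QuotientGroup.eq_one_iff x).mpr (hle hw))
  obtain ⟨hPn, -, hidx⟩ := Cfsg.Agent.S0949.result P' 2 le_rfl e' hOdd
  haveI := hPn
  have hperf : commutator (A ⧸ center A) = ⊤ := by
    have e0 := congrArg (Subgroup.map π) h.perf
    rw [_root_.commutator_def, Subgroup.map_commutator, Subgroup.map_top_of_surjective π hπ] at e0
    rw [_root_.commutator_def]; exact e0
  have hPtop : (P' : Subgroup (A ⧸ center A)) = ⊤ := by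
    rw [eq_top_iff, ← hperf, _root_.commutator_def, Subgroup.commutator_le]
    intro a _ b _
    have hcard : Nat.card ((A ⧸ center A) ⧸ (P' : Subgroup (A ⧸ center A))) = 1 ∨
        Nat.card ((A ⧸ center A) ⧸ (P' : Subgroup (A ⧸ center A))) = 3 := hidx
    haveI : IsCyclic ((A ⧸ center A) ⧸ (P' : Subgroup (A ⧸ center A))) := by
      rcases hcard with h1 | h3
      · haveI : Subsingleton ((A ⧸ center A) ⧸ (P' : Subgroup (A ⧸ center A))) := (Nat.card_eq_one_iff_unique.mp h1).1
        infer_instance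
      · haveI : Fact (Nat.Prime 3) := ⟨Nat.prime_three⟩
        exact isCyclic_of_prime_card h3
    rw [← QuotientGroup.eq_one_iff, ← QuotientGroup.mk'_apply, map_commutatorElement,
      commutatorElement_eq_one_iff_mul_comm]
    exact IsCyclic.commutative.is_comm.comm _ _
  -- a perfect abelian group is trivial
  have hab' : ∀ a b : A ⧸ center A, a * b = b * a := fun a b => by
    have := e'.injective (show e' (⟨a, hPtop ▸ mem_top a⟩ * ⟨b, hPtop ▸ mem_top b⟩) =
      e' (⟨b, hPtop ▸ mem_top b⟩ * ⟨a, hPtop ▸ mem_top a⟩) by rw [map_mul, map_mul, mul_comm])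
    exact congrArg Subtype.val this
  have hbot : commutator (A ⧸ center A) ≤ ⊥ := by
    rw [_root_.commutator_def, Subgroup.commutator_le]
    intro a _ b _
    rw [mem_bot, commutatorElement_eq_one_iff_mul_comm]
    exact hab' a b
  rw [hperf] at hbot
  exact hnz fun a ha => ((h.center_iff h.zA).mp ((QuotientGroup.eq_one_iff _).mp
    (mem_bot.mp (hbot (mem_top (π ⟨z, h.zA⟩)))))) a ha

/-- **`A ⊓ S` has no involution other than `z`.** -/
theorem Setup.false_of_second (h : Setup A S t c z) {a : X} (ha : InT A S a) (ha2 : a * a = 1) (ha1 : a ≠ 1)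
    (haz : a ≠ z) : False := by
  obtain ⟨v, F⟩ := h.exists_four ha ha2 ha1 haz
  by_cases hall : ∀ x, InT A S x → x * x = 1 → InV z v x
  · by_cases hz : ∀ x ∈ A, x * z = z * x
    · exact F.false_of_central h hall hz
    · exact F.false_of_noncentral h hall hz
  · push Not at hall
    obtain ⟨u, hu, hu2, huV⟩ := hall
    exact Four.false_of_out h F hu hu2 huV

end CfsgLib.CyclicFourFixed
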