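import Cfsg.Agent.Lib.CyclicFourFixed.Setup

/-!
S1914: a Sylow subgroup of maximal class (dihedral or semidihedral) is impossible.

* `Max`: a cyclic subgroup `⟨r⟩` of index two in `A ⊓ S` and an involution `y` outside it.
* `false_of_max`.
-/

set_option autoImplicit false
set_option linter.unusedSectionVars false
set_option linter.style.haveILetI false

namespace CfsgLib.CyclicFourFixed

open Subgroup

universe u

variable {X : Type u} [Group X] [Finite X] {A : Subgroup X} {S : Sylow 2 X} {t c z : X}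

/-- A dihedral or semidihedral `A ⊓ S`. -/
structure Max (A : Subgroup X) (S : Sylow 2 X) (r y : X) (k : ℕ) (e : ℤ) : Prop where
  rT : InT A S r
  yT : InT A S y
  ord : orderOf r = 2 ^ (k + 2)
  y2 : y * y = 1
  ynot : y ∉ zpowers r
  cover : ∀ x, InT A S x → x ∈ zpowers r ∨ x * y ∈ zpowers r
  rel : y * r * y⁻¹ = r ^ e
  ee : e = -1 ∨ (1 ≤ k ∧ e = 2 ^ (k + 1) - 1)

variable {r y : X} {k : ℕ} {e : ℤ}

theorem Max.zpow_eq (M : Max A S r y k e) {i j : ℤ} : r ^ i = r ^ j ↔ (2 : ℤ) ^ (k + 2) ∣ i - j := by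
  rw [← mul_inv_eq_one, ← zpow_neg, ← zpow_add, ← orderOf_dvd_iff_zpow_eq_one, M.ord]
  push_cast
  rw [sub_eq_add_neg]

theorem Max.zpow_one_iff (M : Max A S r y k e) {i : ℤ} : r ^ i = 1 ↔ (2 : ℤ) ^ (k + 2) ∣ i := by
  rw [← zpow_zero r, M.zpow_eq, sub_zero]

theorem Max.e_succ (M : Max A S r y k e) : (2 : ℤ) ^ (k + 1) ∣ e + 1 := by
  rcases M.ee with rfl | ⟨-, rfl⟩ <;> simp

theorem Max.conj_zpow (M : Max A S r y k e) (i : ℤ) : y * r ^ i * y⁻¹ = r ^ (e * i) := by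
  rw [zpow_mul, ← M.rel, _root_.conj_zpow]

theorem Max.sq_out (M : Max A S r y k e) (i : ℤ) : r ^ i * y * (r ^ i * y) = r ^ (i * (e + 1)) := by
  have h2 : y⁻¹ = y := inv_eq_of_mul_eq_one_left M.y2
  have h3 := M.conj_zpow i
  rw [h2] at h3
  calc r ^ i * y * (r ^ i * y) = r ^ i * (y * r ^ i * y) := by group
    _ = r ^ (i * (e + 1)) := by rw [h3, ← zpow_add]; congr 1; ring

theorem Max.form (M : Max A S r y k e) {x : X} (hx : InT A S x) :
    (∃ i : ℤ, x = r ^ i) ∨ ∃ i : ℤ, x = r ^ i * y := by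
  rcases M.cover x hx with h1 | h1
  · obtain ⟨i, hi⟩ := mem_zpowers_iff.mp h1
    exact Or.inl ⟨i, hi.symm⟩
  · obtain ⟨i, hi⟩ := mem_zpowers_iff.mp h1
    exact Or.inr ⟨i, by rw [hi, mul_assoc, M.y2, mul_one]⟩

theorem Max.inT_zpow (M : Max A S r y k e) (i : ℤ) : InT A S (r ^ i) :=
  ⟨zpow_mem M.rT.1 i, zpow_mem M.rT.2 i⟩

/-- Squares of elements of `A ⊓ S` lie in `⟨r⟩`. -/
theorem Max.sq_mem (M : Max A S r y k e) {x : X} (hx : InT A S x) : x * x ∈ zpowers r := by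
  rcases M.form hx with ⟨i, rfl⟩ | ⟨i, rfl⟩
  · exact mul_mem (zpow_mem (mem_zpowers r) i) (zpow_mem (mem_zpowers r) i)
  · rw [M.sq_out]; exact zpow_mem (mem_zpowers r) _

variable (h : Setup A S t c z) (M : Max A S r y k e)
include h M

theorem Max.z_eq : z = r ^ ((2 : ℤ) ^ (k + 1)) := by
  obtain ⟨j, hj⟩ := mem_zpowers_iff.mp (M.sq_mem ⟨h.cA, h.cS⟩)
  rw [h.cz] at hj
  have h2 : (2 : ℤ) ^ (k + 2) ∣ j + j := M.zpow_one_iff.mp (by rw [zpow_add, hj, h.z2])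
  have h3 : ¬ (2 : ℤ) ^ (k + 2) ∣ j := fun hd => h.z1 (hj ▸ M.zpow_one_iff.mpr hd)
  obtain ⟨q, hq⟩ := h2
  rcases Int.even_or_odd q with ⟨p, hp⟩ | ⟨p, hp⟩
  · exact absurd ⟨p, by subst hp; linarith⟩ h3
  · rw [← hj, M.zpow_eq]
    refine ⟨p, ?_⟩
    subst hp
    have : (2 : ℤ) ^ (k + 2) = 2 * 2 ^ (k + 1) := by ring
    rw [this] at hq ⊢
    linarith

/-- The only involution of `⟨r⟩` is `z`. -/
theorem Max.inv_mem_zpowers {x : X} (hx : x ∈ zpowers r) (hx2 : x * x = 1) (hx1 : x ≠ 1) : x = z := by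
  obtain ⟨j, rfl⟩ := mem_zpowers_iff.mp hx
  rw [← zpow_add, M.zpow_one_iff] at hx2
  obtain ⟨q, hq⟩ := hx2
  have h3 : ¬ (2 : ℤ) ^ (k + 2) ∣ j := fun hd => hx1 (M.zpow_one_iff.mpr hd)
  rcases Int.even_or_odd q with ⟨p, hp⟩ | ⟨p, hp⟩
  · exact absurd ⟨p, by subst hp; linarith⟩ h3
  · rw [M.z_eq h, M.zpow_eq]
    refine ⟨p, ?_⟩
    subst hp
    have : (2 : ℤ) ^ (k + 2) = 2 * 2 ^ (k + 1) := by ring
    rw [this] at hq ⊢
    linarith

/-- A central `z` contradicts the transfer. -/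
theorem Max.not_central (hcen : ∀ a ∈ A, a * z = z * a) : False := by
  obtain ⟨g, hg, hgT, hgr⟩ := h.transferA (zpowers r) M.yT M.ynot (fun x hx => (M.cover x hx).symm) M.yT M.y2
  have hy1 : y ≠ 1 := fun e0 => M.ynot (e0 ▸ one_mem _)
  have e1 := M.inv_mem_zpowers h hgr (by rw [show g * y * g⁻¹ * (g * y * g⁻¹) = g * (y * y) * g⁻¹ by group, M.y2]; group)
    fun e0 => hy1 (conj_eq_one_iff.mp e0)
  apply M.ynot
  have : y = z := by
    calc y = g⁻¹ * (g * y * g⁻¹) * g := by group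
      _ = g⁻¹ * z * g := by rw [e1]
      _ = g⁻¹ * (z * g) := mul_assoc _ _ _
      _ = z := by rw [← hcen g hg]; group
  rw [this, M.z_eq h]
  exact zpow_mem (mem_zpowers r) _

/-- Squares in `S` reduce to those of elements `t x`. -/
theorem Max.squares (hout : ∀ x, InT A S x → t * x * (t * x) ∈ zpowers r) :
    ∀ s ∈ (S : Subgroup X), s * s * (s * s) = 1 → s * s ≠ 1 → s * s = z := by
  intro s hs h2 h1
  refine M.inv_mem_zpowers h ?_ h2 h1
  rcases h.split s with hA | hA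
  · exact M.sq_mem ⟨hA, hs⟩
  · have e0 : t * (s * t) * t = t * s := by rw [show t * (s * t) * t = t * s * (t * t) by group, h.t2, mul_one]
    have hx : InT A S (t * s) := ⟨e0 ▸ (h.tconj ⟨hA, mul_mem hs h.tS⟩).1, mul_mem h.tS hs⟩
    have := hout _ hx
    rwa [show t * (t * s) = t * t * s by group, h.t2, one_mul] at this

end CfsgLib.CyclicFourFixed
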