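import Cfsg.Agent.Lib.CyclicFourFixed.MaxRefl
import Cfsg.Agent.S3224

/-!
S1914, maximal class: assembly.
-/

set_option autoImplicit false
set_option linter.unusedSectionVars false
set_option linter.style.haveILetI false

namespace CfsgLib.CyclicFourFixed

open Subgroup

universe u

variable {X : Type u} [Group X] [Finite X] {A : Subgroup X} {S : Sylow 2 X} {t c z r y : X} {k : ℕ} {e : ℤ}

theorem Max.false_of (h : Setup A S t c z) (M : Max A S r y k e) : False := by
  by_cases hnc : ∀ a ∈ A, a * z = z * a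
  · exact M.not_central h hnc
  rcases Nat.eq_zero_or_pos k with hk | hk
  · exact M.rot_small h hk hnc
  by_cases hc : c ∈ zpowers r
  · exact M.rot_big h hk hc
  obtain ⟨i, hi⟩ := (M.form ⟨h.cA, h.cS⟩).resolve_left fun ⟨i, hi⟩ => hc (hi ▸ zpow_mem (mem_zpowers r) i)
  have hy2 : y⁻¹ = y := inv_eq_of_mul_eq_one_left M.y2
  have he : e = 2 ^ (k + 1) - 1 := (M.ee.resolve_left fun he => h.z1 (by
    rw [← h.cz, hi, M.sq_out, he, show i * (-1 + 1) = (0 : ℤ) by ring, zpow_zero])).2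
  obtain ⟨a, ha, haa⟩ := M.exists_a h hk
  obtain ⟨l, rfl⟩ : ∃ l, k = l + 1 := ⟨k - 1, by omega⟩
  have hL : (2 : ℤ) ^ (l + 1 + 2) = 8 * 2 ^ l := by ring
  have hL1 : (2 : ℤ) ^ (l + 1 + 1) = 4 * 2 ^ l := by ring
  have haodd : ∃ b, a = 2 * b + 1 := by
    rcases Int.even_or_odd a with ⟨q, hq⟩ | hq
    · exfalso
      obtain ⟨o, ho⟩ := haa
      rw [hL, hq] at ho
      have : (2 : ℤ) ∣ 1 := ⟨2 * q * q - 4 * 2 ^ l * o, by linarith⟩
      norm_num at this
    · exact hq
  obtain ⟨b, hb⟩ := haodd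
  have htrz : ∀ j : ℤ, t * r ^ j * t = r ^ (a * j) := fun j => by rw [tzpow h.t2, ha, ← zpow_mul]
  have hbodd : ∃ q, b = 2 * q + 1 := by
    rcases Int.even_or_odd b with ⟨q, hq⟩ | hq
    · exfalso
      set x := r ^ ((2 : ℤ) ^ (l + 1)) with hx
      have hxt : x * t = t * x := by
        have e0 : t * x * t = x := by
          rw [hx, htrz, M.zpow_eq, hL, hb, hq]
          exact ⟨q, by ring⟩
        calc x * t = t * x * t * t := by rw [e0]
          _ = t * x := by rw [mul_assoc, h.t2, mul_one]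
      have hzr : z ∈ zpowers r := by rw [M.z_eq h]; exact zpow_mem (mem_zpowers r) _
      rcases h.fixed x (M.inT_zpow _).1 (M.inT_zpow _).2 hxt with e0 | e0 | e0 | e0
      · obtain ⟨o, ho⟩ := M.zpow_one_iff.mp e0
        rw [hL, show (2 : ℤ) ^ (l + 1) = 2 ^ l * 2 by ring, mul_comm (8 : ℤ), mul_assoc] at ho
        have := mul_left_cancel₀ (show (2 : ℤ) ^ l ≠ 0 by positivity) ho
        omega
      · exact hc (e0 ▸ zpow_mem (mem_zpowers r) _)
      · rw [M.z_eq h] at e0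
        obtain ⟨o, ho⟩ := M.zpow_eq.mp e0
        rw [hL, hL1, show (2 : ℤ) ^ (l + 1) - 4 * 2 ^ l = 2 ^ l * (-2) by ring, mul_comm (8 : ℤ), mul_assoc] at ho
        have := mul_left_cancel₀ (show (2 : ℤ) ^ l ≠ 0 by positivity) ho
        omega
      · refine hc ?_
        have : c = z * x := by rw [e0, ← mul_assoc, h.z2, one_mul]
        rw [this]
        exact mul_mem hzr (zpow_mem (mem_zpowers r) _)
    · exact hq
  obtain ⟨q, hq⟩ := hbodd
  obtain ⟨o, ho⟩ : (2 : ℤ) ^ (l + 1 + 1) ∣ a + 1 := by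
    have h1 : (2 : ℤ) ^ (l + 1 + 2) ∣ (2 ^ 3) * ((2 * q + 1) * (q + 1)) := by
      rwa [show (2 : ℤ) ^ 3 * ((2 * q + 1) * (q + 1)) = a * a - 1 by rw [hb, hq]; ring]
    rw [show l + 1 + 2 = 3 + l by omega, pow_add, mul_dvd_mul_iff_left (by norm_num)] at h1
    have h2 : IsCoprime ((2 : ℤ) ^ l) (2 * q + 1) := IsCoprime.pow_left ⟨-q, 1, by ring⟩
    rw [hL1, show a + 1 = 4 * (q + 1) by rw [hb, hq]; ring]
    exact mul_dvd_mul_left 4 (h2.dvd_of_dvd_mul_left h1)
  have hrc : ∀ j : ℤ, r ^ j * c = c * r ^ (((2 : ℤ) ^ (l + 1 + 1) - 1) * j) := fun j => by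
    have h3 := M.conj_zpow j
    rw [hy2, he] at h3
    rw [hi, ← h3]
    calc r ^ j * (r ^ i * y) = r ^ i * r ^ j * y := by rw [← mul_assoc, ← zpow_add, add_comm, zpow_add]
      _ = r ^ i * (y * y) * r ^ j * y := by rw [M.y2, mul_one]
      _ = _ := by group
  have hform : ∀ x, InT A S x → (∃ j : ℤ, x = r ^ j) ∨ ∃ j : ℤ, x = c * r ^ j := by
    intro x hx
    rcases M.form hx with h1 | ⟨j, hj⟩
    · exact Or.inl h1
    · refine Or.inr ⟨(2 ^ (l + 1 + 1) - 1) * (j - i), ?_⟩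
      rw [← hrc, hj, hi, ← mul_assoc, ← zpow_add, sub_add_cancel]
  rcases Int.even_or_odd o with ⟨p, hp⟩ | ⟨p, hp⟩
  · have R : Refl A S t c z r (l + 1) (-1) := ⟨h, by omega, M.rT, fun j => M.zpow_one_iff, M.z_eq h, hc, hform, hrc,
      fun j => by
        rw [htrz, M.zpow_eq]
        refine ⟨p * j, ?_⟩
        rw [show a = 2 ^ (l + 1 + 1) * (p + p) - 1 by rw [← hp]; linarith]
        ring⟩
    exact R.false_inverted
  · have R : Refl A S t c z r (l + 1) (2 ^ (l + 1 + 1) - 1) := ⟨h, by omega, M.rT, fun j => M.zpow_one_iff, M.z_eq h,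
      hc, hform, hrc, fun j => by
        rw [htrz, M.zpow_eq]
        refine ⟨p * j, ?_⟩
        rw [show a = 2 ^ (l + 1 + 1) * (2 * p + 1) - 1 by rw [← hp]; linarith]
        ring⟩
    exact R.false_twisted hnc

omit [Finite X] in
theorem coe_zpowers_iff {H : Subgroup X} {a b : H} : (a : X) ∈ zpowers (b : X) ↔ a ∈ zpowers b := by
  simp [mem_zpowers_iff, Subtype.ext_iff]

/-- No involution of `A ⊓ S` has a centraliser of order four there, unless `z` is the only involution. -/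
theorem Setup.not_small (h : Setup A S t c z) {a : X} (ha : InT A S a) (ha2 : a * a = 1) (ha1 : a ≠ 1) (haz : a ≠ z)
    (x : ↥(A ⊓ (S : Subgroup X))) (hx : orderOf x = 2)
    (hC : Nat.card ↥(centralizer ({x} : Set ↥(A ⊓ (S : Subgroup X)))) = 4) : False := by
  classical
  revert x
  set T := A ⊓ (S : Subgroup X) with hT
  intro x hx hC
  haveI : Fact (Nat.Prime 2) := ⟨Nat.prime_two⟩
  have hTp : IsPGroup 2 T := S.2.to_le inf_le_right
  let cT : T := ⟨c, h.cA, h.cS⟩
  have hc4 : orderOf cT = 4 := by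
    rw [show (4 : ℕ) = 2 ^ (1 + 1) by norm_num]
    refine orderOf_eq_prime_pow ?_ ?_
    · intro e
      rw [pow_one, pow_two] at e
      exact h.z1 (h.cz.symm.trans (congrArg Subtype.val e))
    · refine Subtype.ext ?_
      show c ^ (2 ^ (1 + 1)) = 1
      rw [show c ^ (2 ^ (1 + 1)) = c * c * (c * c) by simp [pow_succ, mul_assoc], h.cz, h.z2]
  rcases Cfsg.Agent.S3224.result hTp x hx hC with ⟨n, ⟨f⟩⟩ | hQ | h4
  · have hn0 : n ≠ 0 := by
      rintro rfl
      haveI : Finite (DihedralGroup 0) := Finite.of_equiv _ f.toEquiv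
      exact not_finite (DihedralGroup 0)
    obtain ⟨j, hj⟩ := hTp.exists_card_eq
    rw [Nat.card_congr f.toEquiv, DihedralGroup.nat_card] at hj
    obtain ⟨j', hn⟩ : ∃ j', n = 2 ^ j' := by
      obtain ⟨j', -, e0⟩ := (Nat.dvd_prime_pow Nat.prime_two).mp (⟨2, by rw [← hj]; ring⟩ : n ∣ 2 ^ j)
      exact ⟨j', e0⟩
    subst hn
    obtain ⟨k, rfl⟩ : ∃ k, j' = k + 2 := by
      refine ⟨j' - 2, ?_⟩
      by_contra hlt
      have hj2 : j' ≤ 1 := by omega
      have hexp : ∀ u : DihedralGroup (2 ^ j'), u ^ 2 = 1 := by interval_cases j' <;> decide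
      have : orderOf cT ∣ 2 := orderOf_dvd_of_pow_eq_one (f.injective (by rw [map_pow, map_one]; exact hexp _))
      rw [hc4] at this
      norm_num at this
    let r0 := f.symm (DihedralGroup.r 1)
    let y0 := f.symm (DihedralGroup.sr 0)
    refine Max.false_of h (r := (r0 : X)) (y := (y0 : X)) (k := k) (e := -1)
      ⟨r0.2, y0.2, ?_, ?_, ?_, ?_, ?_, Or.inl rfl⟩
    · rw [Subgroup.orderOf_coe, MulEquiv.orderOf_eq, DihedralGroup.orderOf_r_one]
    · refine congrArg Subtype.val (show y0 * y0 = 1 from f.injective ?_)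
      rw [map_mul, map_one, MulEquiv.apply_symm_apply, DihedralGroup.sr_mul_self]
    · intro hy
      obtain ⟨i, hi⟩ := mem_zpowers_iff.mp (coe_zpowers_iff.mp hy)
      have := congrArg f hi
      rw [map_zpow, MulEquiv.apply_symm_apply, MulEquiv.apply_symm_apply, DihedralGroup.r_one_zpow] at this
      simp at this
    · intro v hv
      obtain ⟨i, hi⟩ | ⟨i, hi⟩ : (∃ i, f ⟨v, hv⟩ = DihedralGroup.r i) ∨ ∃ i, f ⟨v, hv⟩ = DihedralGroup.sr i := by
        cases f ⟨v, hv⟩ <;> simp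
      · refine Or.inl ((coe_zpowers_iff (a := (⟨v, hv⟩ : T))).mpr ?_)
        refine ⟨(i.val : ℤ), f.injective ?_⟩
        rw [map_zpow, MulEquiv.apply_symm_apply, hi, zpow_natCast, DihedralGroup.r_one_pow, ZMod.natCast_zmod_val]
      · refine Or.inr ((coe_zpowers_iff (a := (⟨v, hv⟩ : T) * y0)).mpr ?_)
        refine ⟨((0 - i).val : ℤ), f.injective ?_⟩
        rw [map_zpow, MulEquiv.apply_symm_apply, map_mul, MulEquiv.apply_symm_apply, hi, DihedralGroup.sr_mul_sr,
          zpow_natCast, DihedralGroup.r_one_pow, ZMod.natCast_zmod_val]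
    · refine congrArg Subtype.val (show y0 * r0 * y0⁻¹ = r0 ^ (-1 : ℤ) from f.injective ?_)
      rw [map_zpow, map_mul, map_mul, map_inv, MulEquiv.apply_symm_apply, MulEquiv.apply_symm_apply,
        DihedralGroup.sr_mul_r, DihedralGroup.inv_sr, DihedralGroup.sr_mul_sr, zpow_neg, zpow_one, DihedralGroup.inv_r]
      simp
  · obtain ⟨n, hn3, hcard, r0, y0, hr0, hy0, hrel⟩ := hQ
    obtain ⟨k, rfl⟩ : ∃ k, n = k + 2 := ⟨n - 2, by omega⟩
    have hy2 : y0 * y0 = 1 := by rw [← pow_two, ← hy0, pow_orderOf_eq_one]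
    have hyn : y0 ∉ zpowers r0 := by
      intro hy
      obtain ⟨i, hi⟩ := mem_zpowers_iff.mp hy
      have e1 : y0 * r0 * y0⁻¹ = r0 := by
        rw [← hi, ((Commute.refl r0).zpow_left i).eq, mul_inv_cancel_right]
      rw [hrel] at e1
      have e2 : r0 ^ (2 ^ (k + 2 - 1) - 1 - 1) = 1 := by
        have h1 : 2 ≤ 2 ^ (k + 2 - 1) := Nat.le_self_pow (by omega) 2
        have := e1
        rw [show 2 ^ (k + 2 - 1) - 1 = (2 ^ (k + 2 - 1) - 1 - 1) + 1 by omega, pow_succ] at this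
        exact mul_eq_right.mp this
      have h1 : 4 ≤ 2 ^ (k + 2 - 1) := by
        calc 4 = 2 ^ 2 := by norm_num
          _ ≤ _ := Nat.pow_le_pow_right two_pos (by omega)
      have h2 := Nat.le_of_dvd (by omega) (hr0 ▸ orderOf_dvd_of_pow_eq_one e2)
      have : 2 ^ (k + 2) = 2 * 2 ^ (k + 2 - 1) := by rw [← pow_succ']; congr 1
      omega
    have hidx : (zpowers r0).index = 2 := by
      have hm := (zpowers r0).card_mul_index
      rw [Nat.card_zpowers, hr0, hcard, pow_succ 2 (k + 2)] at hm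
      exact Nat.eq_of_mul_eq_mul_left (by positivity) hm
    refine Max.false_of h (r := (r0 : X)) (y := (y0 : X)) (k := k) (e := 2 ^ (k + 1) - 1)
      ⟨r0.2, y0.2, by rw [Subgroup.orderOf_coe, hr0], congrArg Subtype.val hy2, fun hy => hyn (coe_zpowers_iff.mp hy),
        ?_, ?_, Or.inr ⟨by omega, rfl⟩⟩
    · intro v hv
      by_cases hvz : (⟨v, hv⟩ : T) ∈ zpowers r0
      · exact Or.inl (coe_zpowers_iff.mpr hvz)
      · refine Or.inr ((coe_zpowers_iff (a := (⟨v, hv⟩ : T) * y0)).mpr ?_)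
        exact (Subgroup.mul_mem_iff_of_index_two hidx).mpr ⟨fun e => absurd e hvz, fun e => absurd e hyn⟩
    · refine congrArg Subtype.val (show y0 * r0 * y0⁻¹ = r0 ^ ((2 : ℤ) ^ (k + 1) - 1) from ?_)
      rw [hrel, ← zpow_natCast, show k + 2 - 1 = k + 1 by omega, Nat.cast_sub (Nat.one_le_two_pow)]
      norm_num
  · -- order four
    haveI : IsCyclic T := isCyclic_of_orderOf_eq_card cT (hc4.trans h4.symm)
    have htop : zpowers cT = ⊤ := Subgroup.eq_top_of_card_eq _ (by rw [Nat.card_zpowers, hc4, h4])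
    obtain ⟨i, hi⟩ := mem_zpowers_iff.mp (htop ▸ Subgroup.mem_top (⟨a, ha⟩ : T))
    have hi' : c ^ i = a := congrArg Subtype.val hi
    have hat : a * t = t * a := hi' ▸ ((show Commute c t from h.ct).zpow_left i).eq
    exact (h.inv_fixed ha ha2 hat).elim ha1 haz

end CfsgLib.CyclicFourFixed
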