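import Cfsg.Agent.Lib.CyclicFourFixed.MaxRot

/-!
S1914, maximal class: the fixed element `c` of order four is outside `⟨r⟩` (semidihedral).

* `Refl`: the normal form `c⁻¹ r c = r^(H-1)`, `t r t = r^a`, `H = 2^(k+1)`.
-/

set_option autoImplicit false
set_option linter.unusedSectionVars false
set_option linter.style.haveILetI false

namespace CfsgLib.CyclicFourFixed

open Subgroup

universe u

variable {X : Type u} [Group X] [Finite X] {A : Subgroup X} {S : Sylow 2 X} {t c z r : X} {k : ℕ}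

/-- `c` outside the cyclic subgroup. -/
structure Refl (A : Subgroup X) (S : Sylow 2 X) (t c z r : X) (k : ℕ) (a : ℤ) : Prop where
  setup : Setup A S t c z
  hk : 1 ≤ k
  rT : InT A S r
  ord : ∀ i : ℤ, r ^ i = 1 ↔ (2 : ℤ) ^ (k + 2) ∣ i
  hz : z = r ^ ((2 : ℤ) ^ (k + 1))
  cnot : c ∉ zpowers r
  form : ∀ x, InT A S x → (∃ i : ℤ, x = r ^ i) ∨ ∃ i : ℤ, x = c * r ^ i
  rc : ∀ i : ℤ, r ^ i * c = c * r ^ ((2 ^ (k + 1) - 1) * i)
  tr : ∀ i : ℤ, t * r ^ i * t = r ^ (a * i)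

variable {a : ℤ}

namespace Refl

variable (R : Refl A S t c z r k a)
include R

theorem eq_iff {i j : ℤ} : r ^ i = r ^ j ↔ (2 : ℤ) ^ (k + 2) ∣ i - j := by
  rw [← R.ord, zpow_sub, mul_inv_eq_one]

theorem inT (i : ℤ) : InT A S (r ^ i) := ⟨zpow_mem R.rT.1 i, zpow_mem R.rT.2 i⟩

theorem cT (i : ℤ) : InT A S (c * r ^ i) := ⟨mul_mem R.setup.cA (R.inT i).1, mul_mem R.setup.cS (R.inT i).2⟩

theorem tc : t * c * t = c := by rw [← R.setup.ct, mul_assoc, R.setup.t2, mul_one]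

/-- `(c r^i)(c r^j)`. -/
theorem cc (i j : ℤ) : c * r ^ i * (c * r ^ j) = r ^ (2 ^ (k + 1) + ((2 ^ (k + 1) - 1) * i + j)) := by
  rw [show c * r ^ i * (c * r ^ j) = c * (r ^ i * c) * r ^ j by group, R.rc,
    show c * (c * r ^ ((2 ^ (k + 1) - 1) * i)) * r ^ j = c * c * (r ^ ((2 ^ (k + 1) - 1) * i) * r ^ j) by group,
    R.setup.cz, R.hz, ← zpow_add, ← zpow_add]

theorem tt (i : ℤ) : r ^ i * t = t * r ^ (a * i) := by
  rw [← R.tr, show t * (t * r ^ i * t) = t * t * (r ^ i * t) by group, R.setup.t2, one_mul]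

/-- An involution `c r^i` has `i` odd. -/
theorem odd_of_inv {i : ℤ} (h2 : c * r ^ i * (c * r ^ i) = 1) : ∃ j, i = 2 * j + 1 := by
  rw [R.cc, R.ord] at h2
  rcases Int.even_or_odd i with ⟨q, rfl⟩ | h
  · exfalso
    rw [show (2 : ℤ) ^ (k + 1) + ((2 ^ (k + 1) - 1) * (q + q) + (q + q)) = 2 ^ (k + 2) * q + 2 ^ (k + 1) by ring,
      dvd_add_right (dvd_mul_right _ _)] at h2
    have := Int.le_of_dvd (by positivity) h2
    have : (0 : ℤ) < 2 ^ (k + 1) := by positivity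
    have : (2 : ℤ) ^ (k + 2) = 2 * 2 ^ (k + 1) := by ring
    linarith
  · exact h

theorem mem_iff_even {i j : ℤ} (h : r ^ i = r ^ j) : Even i ↔ Even j := by
  obtain ⟨q, hq⟩ := R.eq_iff.mp h
  have : Even (i - j) := hq ▸ (even_two.pow_of_ne_zero (by omega)).mul_right q
  exact Int.even_sub.mp this

theorem c_ne (i j : ℤ) : c * r ^ i ≠ r ^ j := fun e0 => R.cnot (by
  rw [show c = r ^ j * (r ^ i)⁻¹ by rw [← e0, mul_inv_cancel_right], ← zpow_neg, ← zpow_add]
  exact zpow_mem (mem_zpowers r) _)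

end Refl

/-- The square trick: `a = H - 1`. -/
theorem Refl.false_twisted (R : Refl A S t c z r k (2 ^ (k + 1) - 1)) (hnc : ¬ ∀ a ∈ A, a * z = z * a) : False := by
  have h := R.setup
  obtain ⟨g, hg, hgT, hne⟩ := h.other hnc
  have hinv : ∀ x ∈ zpowers r, x * x = 1 → x ≠ 1 → x = z := by
    intro x hx hx2 hx1
    obtain ⟨j, rfl⟩ := mem_zpowers_iff.mp hx
    rw [← zpow_add, R.ord] at hx2
    obtain ⟨q, hq⟩ := hx2
    rcases Int.even_or_odd q with ⟨p, rfl⟩ | ⟨p, rfl⟩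
    · exact absurd ((R.ord j).mpr ⟨p, by linarith⟩) hx1
    · rw [R.hz, R.eq_iff]
      refine ⟨p, ?_⟩
      have : (2 : ℤ) ^ (k + 2) = 2 * 2 ^ (k + 1) := by ring
      rw [this] at hq ⊢
      linarith
  have hsq : ∀ s ∈ (S : Subgroup X), s * s * (s * s) = 1 → s * s ≠ 1 → s * s = z := by
    intro s hs h2 h1
    refine hinv _ ?_ h2 h1
    have hT : ∀ x, InT A S x → x * x ∈ zpowers r ∧ t * x * t * x ∈ zpowers r := by
      intro x hx
      rcases R.form x hx with ⟨i, rfl⟩ | ⟨i, rfl⟩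
      · refine ⟨?_, ?_⟩
        · exact mul_mem (zpow_mem (mem_zpowers r) _) (zpow_mem (mem_zpowers r) _)
        · rw [R.tr]; exact mul_mem (zpow_mem (mem_zpowers r) _) (zpow_mem (mem_zpowers r) _)
      · refine ⟨?_, ?_⟩
        · rw [R.cc]; exact zpow_mem (mem_zpowers r) _
        · rw [tmul h.t2, R.tc, R.tr, R.cc]; exact zpow_mem (mem_zpowers r) _
    rcases h.split s with hA | hA
    · exact (hT s ⟨hA, hs⟩).1
    · have e0 : t * (s * t) * t = t * s := by rw [show t * (s * t) * t = t * s * (t * t) by group, h.t2, mul_one]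
      have hx : InT A S (t * s) := ⟨e0 ▸ (h.tconj ⟨hA, mul_mem hs h.tS⟩).1, mul_mem h.tS hs⟩
      have := (hT _ hx).2
      rwa [show t * (t * s) * t * (t * s) = t * t * s * (t * t) * s by group, h.t2, one_mul, mul_one] at this
  have hy2 : g * z * g⁻¹ * (g * z * g⁻¹) = 1 := by
    rw [show g * z * g⁻¹ * (g * z * g⁻¹) = g * (z * z) * g⁻¹ by group, h.z2]; group
  rcases R.form _ hgT with ⟨j, hj⟩ | ⟨j, hj⟩
  · exact hne (hinv _ (hj ▸ zpow_mem (mem_zpowers r) j) hy2 fun e0 => h.z1 (conj_eq_one_iff.mp e0))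
  · obtain ⟨q, hq⟩ := R.odd_of_inv (hj ▸ hy2)
    refine hne (h.squareX hsq (g := g) (w := t * r ^ j) ?_ ?_)
    · rw [hj]
      calc t * r ^ j * (c * r ^ j) = t * (r ^ j * c) * r ^ j := by group
        _ = t * c * (r ^ ((2 ^ (k + 1) - 1) * j) * r ^ j) := by rw [R.rc]; group
        _ = c * t * (r ^ ((2 ^ (k + 1) - 1) * j) * r ^ j) := by rw [h.ct]
        _ = c * (t * r ^ ((2 ^ (k + 1) - 1) * j)) * r ^ j := by group
        _ = c * r ^ j * (t * r ^ j) := by rw [← R.tt]; group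
    · rw [show t * r ^ j * (t * r ^ j) = t * r ^ j * t * r ^ j by group, R.tr, ← zpow_add, R.hz, R.eq_iff]
      refine ⟨q, ?_⟩
      rw [hq]; ring

/-- The transfer: `a = -1`. -/
theorem Refl.false_inverted (R : Refl A S t c z r k (-1)) : False := by
  have h := R.setup
  haveI := h.nrm
  obtain ⟨l, rfl⟩ : ∃ l, k = l + 1 := ⟨k - 1, by have := R.hk; omega⟩
  have hH : (2 : ℤ) ^ (l + 1 + 2) = 2 * 2 ^ (l + 1 + 1) := by ring
  have hcomm : ∀ i : ℤ, r ^ i * t = t * r ^ (-i) := fun i => by rw [R.tt, neg_one_mul]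
  have hzcomm : ∀ s ∈ (S : Subgroup X), s * z = z * s := h.zc
  -- `u = t r`
  set u := t * r with hu
  have hr1 : r ^ (1 : ℤ) = r := zpow_one r
  have hur : ∀ i : ℤ, u * r ^ i * u = r ^ (-i) := fun i => by
    calc u * r ^ i * u = t * ((r ^ (1 : ℤ) * r ^ i) * t) * r ^ (1 : ℤ) := by rw [hu, hr1]; group
      _ = t * (t * r ^ (-(1 + i))) * r ^ (1 : ℤ) := by rw [← zpow_add, hcomm]
      _ = t * t * (r ^ (-(1 + i)) * r ^ (1 : ℤ)) := by group
      _ = r ^ (-i) := by rw [h.t2, one_mul, ← zpow_add]; congr 1; ring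
  have huc : ∀ i : ℤ, u * (c * r ^ i) * u = c * r ^ (-(((2 : ℤ) ^ (l + 1 + 1) - 1) + i) + 1) := fun i => by
    calc u * (c * r ^ i) * u = t * (r ^ (1 : ℤ) * c) * r ^ i * t * r ^ (1 : ℤ) := by rw [hu, hr1]; group
      _ = t * c * ((r ^ (((2 : ℤ) ^ (l + 1 + 1) - 1) * 1) * r ^ i) * t) * r ^ (1 : ℤ) := by rw [R.rc]; group
      _ = t * c * (t * r ^ (-(((2 : ℤ) ^ (l + 1 + 1) - 1) * 1 + i))) * r ^ (1 : ℤ) := by rw [← zpow_add, hcomm]
      _ = t * c * t * (r ^ (-(((2 : ℤ) ^ (l + 1 + 1) - 1) * 1 + i)) * r ^ (1 : ℤ)) := by group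
      _ = _ := by rw [R.tc, ← zpow_add]; congr 2; ring
  have hu2 : u * u = 1 := by
    have := hur 0
    rwa [zpow_zero, mul_one, neg_zero, zpow_zero] at this
  -- the subgroup `P` of index two in `A ⊓ S`
  let P : X → Prop := fun x => ∃ q : ℤ, x = r ^ (2 * q) ∨ x = c * r ^ (2 * q + 1)
  have hPA : ∀ x, P x → InT A S x := by
    rintro x ⟨q, rfl | rfl⟩
    exacts [R.inT _, R.cT _]
  have hP1 : P 1 := ⟨0, Or.inl (by rw [mul_zero, zpow_zero])⟩
  have hPm : ∀ x y, P x → P y → P (x * y) := by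
    rintro x y ⟨p, rfl | rfl⟩ ⟨q, rfl | rfl⟩
    · exact ⟨p + q, Or.inl (by rw [← zpow_add]; congr 1; ring)⟩
    · refine ⟨((2 : ℤ) ^ (l + 1 + 1) - 1) * p + q, Or.inr ?_⟩
      rw [← mul_assoc, R.rc, mul_assoc, ← zpow_add]; congr 2; ring
    · exact ⟨p + q, Or.inr (by rw [mul_assoc, ← zpow_add]; congr 2; ring)⟩
    · refine ⟨2 ^ (l + 1) + 2 ^ (l + 1 + 1) * p + 2 ^ (l + 1) - p + q, Or.inl ?_⟩
      rw [R.cc]; congr 1; ring
  have hPi : ∀ x, P x → P x⁻¹ := by
    rintro x ⟨p, rfl | rfl⟩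
    · exact ⟨-p, Or.inl (by rw [← zpow_neg]; congr 1; ring)⟩
    · refine ⟨p - 2 ^ (l + 1 + 1) * (p + 1), Or.inr ?_⟩
      rw [inv_eq_iff_mul_eq_one, R.cc, R.ord]
      exact ⟨0, by ring⟩
  have hPu : ∀ x, P x → P (u * x * u) := by
    rintro x ⟨p, rfl | rfl⟩
    · exact ⟨-p, Or.inl (by rw [hur]; congr 1; ring)⟩
    · exact ⟨-p - 2 ^ (l + 1) + 0, Or.inr (by rw [huc]; congr 2; ring)⟩
  let M : Subgroup (S : Subgroup X) :=
    { carrier := {s | P (s : X) ∨ P ((s : X) * u)}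
      one_mem' := Or.inl hP1
      mul_mem' := fun {a b} ha hb => by
        rcases ha with ha | ha <;> rcases hb with hb | hb
        · exact Or.inl (hPm _ _ ha hb)
        · refine Or.inr ?_
          rw [show ((a * b : (S : Subgroup X)) : X) * u = a * (b * u) from mul_assoc _ _ _]
          exact hPm _ _ ha hb
        · refine Or.inr ?_
          have e0 : ((a * b : (S : Subgroup X)) : X) * u = (a : X) * u * (u * b * u) := by
            rw [show (a : X) * u * (u * b * u) = a * (u * u) * b * u by group, hu2, mul_one]; rfl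
          rw [e0]
          exact hPm _ _ ha (hPu _ hb)
        · refine Or.inl ?_
          have e0 : ((a * b : (S : Subgroup X)) : X) = (a : X) * u * (u * (b * u) * u) := by
            rw [show (a : X) * u * (u * (b * u) * u) = a * (u * u) * b * (u * u) by group, hu2, mul_one, mul_one]; rfl
          rw [e0]
          exact hPm _ _ ha (hPu _ hb)
      inv_mem' := fun {a} ha => by
        rcases ha with ha | ha
        · exact Or.inl (hPi _ ha)
        · refine Or.inr ?_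
          have e0 : ((a⁻¹ : (S : Subgroup X)) : X) * u = u * ((a : X) * u)⁻¹ * u := by
            rw [mul_inv_rev, show u * (u⁻¹ * (a : X)⁻¹) * u = (a : X)⁻¹ * u by group]; rfl
          rw [e0]
          exact hPu _ (hPi _ ha) }
  have hMmem : ∀ s : (S : Subgroup X), s ∈ M ↔ P (s : X) ∨ P ((s : X) * u) := fun s => Iff.rfl
  have rnot : ¬ P r := by
    rintro ⟨q, hq | hq⟩
    · have := (R.mem_iff_even (show r ^ (1 : ℤ) = r ^ (2 * q) by rw [hr1]; exact hq)).mpr (even_two_mul q)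
      simp at this
    · exact R.c_ne (2 * q + 1) 1 (hq.symm.trans hr1.symm)
  have tnot : (⟨t, h.tS⟩ : (S : Subgroup X)) ∉ M := by
    rintro (hP | hP)
    · exact h.tA (hPA _ hP).1
    · refine rnot ?_
      change P (t * (t * r)) at hP
      rwa [← mul_assoc, h.t2, one_mul] at hP
  have uS : u ∈ (S : Subgroup X) := mul_mem h.tS R.rT.2
  have hidx : M.index = 2 := by
    rw [index_eq_two_iff_exists_notMem_and]
    refine ⟨⟨t, h.tS⟩, tnot, fun b => ?_⟩
    rcases h.split (b : X) with hA | hA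
    · rcases R.form _ ⟨hA, b.2⟩ with ⟨i, hi⟩ | ⟨i, hi⟩
      · rcases Int.even_or_odd i with ⟨q, hq⟩ | ⟨q, hq⟩
        · exact Or.inr (Or.inl ⟨q, Or.inl (by rw [hi, hq]; congr 1; ring)⟩)
        · refine Or.inl (Or.inr ⟨q + 1 - (i - i), Or.inl ?_⟩)
          show (b : X) * t * (t * r) = _
          rw [show (b : X) * t * (t * r) = b * (t * t) * r by group, h.t2, mul_one, hi, hq, ← zpow_add_one]
          congr 1; ring
      · rcases Int.even_or_odd i with ⟨q, hq⟩ | ⟨q, hq⟩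
        · refine Or.inl (Or.inr ⟨q, Or.inr ?_⟩)
          show (b : X) * t * (t * r) = _
          rw [show (b : X) * t * (t * r) = b * (t * t) * r by group, h.t2, mul_one, hi, hq, mul_assoc, ← zpow_add_one]
          congr 2; ring
        · exact Or.inr (Or.inl ⟨q, Or.inr (by rw [hi, hq])⟩)
    · rcases R.form _ ⟨hA, mul_mem b.2 h.tS⟩ with ⟨i, hi⟩ | ⟨i, hi⟩
      · rcases Int.even_or_odd i with ⟨q, hq⟩ | ⟨q, hq⟩
        · exact Or.inl (Or.inl ⟨q, Or.inl (show (b : X) * t = _ by rw [hi, hq]; congr 1; ring)⟩)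
        · refine Or.inr (Or.inr ⟨q + 1, Or.inl ?_⟩)
          rw [hu, ← mul_assoc, hi, hq, ← zpow_add_one]
          congr 1; ring
      · rcases Int.even_or_odd i with ⟨q, hq⟩ | ⟨q, hq⟩
        · refine Or.inr (Or.inr ⟨q, Or.inr ?_⟩)
          rw [hu, ← mul_assoc, hi, hq, mul_assoc, ← zpow_add_one]
          congr 2; ring
        · exact Or.inl (Or.inl ⟨q, Or.inr (show (b : X) * t = _ by rw [hi, hq])⟩)
  -- fours
  have four : ∀ {k₀ p q : X}, q = k₀⁻¹ * t * k₀ → p * p = 1 → p ∈ A → p ≠ 1 → p ≠ z → p * z = z * p →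
      p * q = q * p → z * q = q * z → False := by
    intro k₀ p q hq hp2 hpA hp1 hpz hpzc hpq hzq
    have cj : ∀ x y : X, x * y = y * x → k₀ * x * k₀⁻¹ * (k₀ * y * k₀⁻¹) = k₀ * y * k₀⁻¹ * (k₀ * x * k₀⁻¹) :=
      fun x y e0 => by
        rw [show k₀ * x * k₀⁻¹ * (k₀ * y * k₀⁻¹) = k₀ * (x * y) * k₀⁻¹ by group, e0]; group
    have sq : ∀ x : X, x * x = 1 → k₀ * x * k₀⁻¹ * (k₀ * x * k₀⁻¹) = 1 := fun x e0 => by
      rw [show k₀ * x * k₀⁻¹ * (k₀ * x * k₀⁻¹) = k₀ * (x * x) * k₀⁻¹ by group, e0]; group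
    have ht : k₀ * q * k₀⁻¹ = t := by rw [hq]; group
    have e0 := h.noFour (k₀ * p * k₀⁻¹) (h.nrm.conj_mem _ hpA k₀) (k₀ * z * k₀⁻¹) (h.nrm.conj_mem _ h.zA k₀)
      (sq p hp2) (sq z h.z2) (fun e => hp1 (conj_eq_one_iff.mp e)) (fun e => h.z1 (conj_eq_one_iff.mp e))
      (cj _ _ hpzc) (by have := cj _ _ hpq; rwa [ht] at this) (by have := cj _ _ hzq; rwa [ht] at this)
    exact hpz (mul_left_cancel (mul_right_cancel e0))
  -- the shape of a conjugate in `S` of an involution outside `A`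
  have shape : ∀ {v : X} (y : (S : Subgroup X)) (k₀ : X), v ∉ A → v * v = 1 → k₀⁻¹ * v * k₀ = (y : X) →
      (∃ q : ℤ, (y : X) = t * r ^ (2 * q)) ∨
        ((y ∈ M) ∧ ∃ p, p * p = 1 ∧ p ∈ A ∧ p ≠ 1 ∧ p ≠ z ∧ p * z = z * p ∧ p * (y : X) = (y : X) * p) := by
    intro v y k₀ hvA hv2 hk
    have hyA : (y : X) ∉ A := fun hA => hvA (by
      have := h.nrm.conj_mem _ hA k₀
      rw [← hk, show k₀ * (k₀⁻¹ * v * k₀) * k₀⁻¹ = v by group] at this
      exact this)
    have hy2 : (y : X) * y = 1 := by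
      rw [← hk, show k₀⁻¹ * v * k₀ * (k₀⁻¹ * v * k₀) = k₀⁻¹ * (v * v) * k₀ by group, hv2]; group
    have e0 : t * ((y : X) * t) * t = t * y := by
      rw [show t * ((y : X) * t) * t = t * y * (t * t) by group, h.t2, mul_one]
    have hx : InT A S (t * y) := ⟨e0 ▸ (h.tconj ⟨(h.split y).resolve_left hyA, mul_mem y.2 h.tS⟩).1, mul_mem h.tS y.2⟩
    have hty : (y : X) = t * (t * y) := by rw [← mul_assoc, h.t2, one_mul]
    have hne : ∀ i : ℤ, c * r ^ i ≠ 1 ∧ c * r ^ i ≠ z := fun i =>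
      ⟨fun e => R.c_ne i 0 (by rw [e, zpow_zero]), fun e => R.c_ne i _ (e.trans R.hz)⟩
    have hcz : ∀ i : ℤ, c * r ^ i * z = z * (c * r ^ i) := fun i => hzcomm _ (R.cT i).2
    rcases R.form _ hx with ⟨i, hi⟩ | ⟨i, hi⟩
    · rw [hi] at hty
      rcases Int.even_or_odd i with ⟨q, hq⟩ | ⟨q, hq⟩
      · exact Or.inl ⟨q, by rw [hty, hq]; congr 2; ring⟩
      · refine Or.inr ⟨Or.inr ⟨-q, Or.inl ?_⟩, c * r ^ (i - 2 ^ (l + 1)), ?_, (R.cT _).1, (hne _).1, (hne _).2,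
          hcz _, ?_⟩
        · rw [hu, hty, hq]
          calc t * r ^ (2 * q + 1) * (t * r) = t * (r ^ (2 * q + 1) * t) * r ^ (1 : ℤ) := by rw [hr1]; group
            _ = t * t * (r ^ (-(2 * q + 1)) * r ^ (1 : ℤ)) := by rw [hcomm]; group
            _ = _ := by rw [h.t2, one_mul, ← zpow_add]; congr 1; ring
        · rw [R.cc, R.ord]
          exact ⟨q + 1 - 2 ^ l, by rw [hq]; ring⟩
        · rw [hty]
          calc c * r ^ (i - 2 ^ (l + 1)) * (t * r ^ i) = c * (r ^ (i - 2 ^ (l + 1)) * t) * r ^ i := by group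
            _ = t * c * (r ^ (-(i - 2 ^ (l + 1))) * r ^ i) := by rw [hcomm, ← h.ct]; group
            _ = t * c * r ^ (((2 : ℤ) ^ (l + 1 + 1) - 1) * i + (i - 2 ^ (l + 1))) := by
              rw [← zpow_add]; congr 1
              rw [R.eq_iff]; exact ⟨-q, by rw [hq]; ring⟩
            _ = t * r ^ i * (c * r ^ (i - 2 ^ (l + 1))) := by
              rw [show t * r ^ i * (c * r ^ (i - 2 ^ (l + 1))) = t * (r ^ i * c) * r ^ (i - 2 ^ (l + 1)) by group, R.rc,
                zpow_add]; group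
    · rw [hi] at hty
      have hinv : t * (c * r ^ i) * (t * (c * r ^ i)) = 1 := by rw [← hty]; exact hy2
      rw [show t * (c * r ^ i) * (t * (c * r ^ i)) = t * (c * r ^ i) * t * (c * r ^ i) by group, tmul h.t2, R.tc,
        R.tr, R.cc, R.ord] at hinv
      obtain ⟨o, ho⟩ := hinv
      obtain ⟨q, hq⟩ : Even i := by
        rcases Int.even_or_odd i with h' | ⟨q, hq⟩
        · exact h'
        · exfalso
          rw [hq, show (2 : ℤ) ^ (l + 1 + 1) + (((2 : ℤ) ^ (l + 1 + 1) - 1) * (-1 * (2 * q + 1)) + (2 * q + 1)) =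
              4 * q + 2 - 2 * q * 2 ^ (l + 1 + 1) by ring, show (2 : ℤ) ^ (l + 1 + 1) = 4 * 2 ^ l by ring,
            show (2 : ℤ) ^ (l + 1 + 2) = 4 * (2 * 2 ^ l) by ring] at ho
          have : (4 : ℤ) ∣ 2 := ⟨2 * 2 ^ l * o + 2 * q * 2 ^ l - q, by linarith⟩
          norm_num at this
      refine Or.inr ⟨Or.inr ⟨-q, Or.inr ?_⟩, c * r ^ (1 : ℤ), ?_, (R.cT _).1, (hne _).1, (hne _).2, hcz _, ?_⟩
      · rw [hu, hty]
        calc t * (c * r ^ i) * (t * r) = t * c * (r ^ i * t) * r ^ (1 : ℤ) := by rw [hr1]; group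
          _ = t * c * t * (r ^ (-i) * r ^ (1 : ℤ)) := by rw [hcomm]; group
          _ = _ := by rw [R.tc, ← zpow_add]; congr 2; rw [hq]; ring
      · rw [R.cc, R.ord]
        exact ⟨1, by ring⟩
      · rw [hty]
        calc c * r ^ (1 : ℤ) * (t * (c * r ^ i)) = c * (r ^ (1 : ℤ) * t) * (c * r ^ i) := by group
          _ = t * ((c * r ^ (-1 : ℤ)) * (c * r ^ i)) := by rw [hcomm, ← mul_assoc c, h.ct]; group
          _ = t * (c * r ^ i * (c * r ^ (1 : ℤ))) := by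
            rw [R.cc, R.cc]; congr 1; rw [R.eq_iff]
            refine ⟨o - 1, ?_⟩
            rw [hq] at ho ⊢
            linear_combination ho
          _ = t * (c * r ^ i) * (c * r ^ (1 : ℤ)) := by group
  -- conjugates of `t`
  have tclass : ∀ y : (S : Subgroup X), (∃ k₀ : X, k₀⁻¹ * t * k₀ = y) → (y ∈ M ↔ false = true) := by
    rintro y ⟨k₀, hk⟩
    simp only [Bool.false_eq_true, iff_false]
    rcases shape y k₀ h.tA h.t2 hk with ⟨q, hq⟩ | ⟨-, p, hp2, hpA, hp1, hpz, hpzc, hpy⟩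
    · rintro (hP | hP)
      · refine h.tA ?_
        have := mul_mem (hPA _ hP).1 (inv_mem (R.inT (2 * q)).1)
        rwa [hq, mul_inv_cancel_right] at this
      · rw [hq, hu] at hP
        refine rnot ?_
        have e0 : t * r ^ (2 * q) * (t * r) = r ^ (2 * -q) * r := by
          calc t * r ^ (2 * q) * (t * r) = t * (r ^ (2 * q) * t) * r := by group
            _ = t * t * r ^ (-(2 * q)) * r := by rw [hcomm]; group
            _ = _ := by rw [h.t2, one_mul, show 2 * -q = -(2 * q) by ring]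
        rw [e0] at hP
        have := hPm _ _ (⟨q, Or.inl rfl⟩ : P (r ^ (2 * q))) hP
        rwa [← mul_assoc, ← zpow_add, show 2 * q + 2 * -q = (0 : ℤ) by ring, zpow_zero, one_mul] at this
    · exact (four hk.symm hp2 hpA hp1 hpz hpzc hpy (hzcomm _ y.2).symm).elim
  -- `w = u`
  have uA : u ∉ A := fun hA => h.tA (by
    have := mul_mem hA (inv_mem R.rT.1)
    rwa [hu, mul_inv_cancel_right] at this)
  have unot : ∀ k₀ : X, k₀⁻¹ * t * k₀ ≠ u := by
    intro k₀ hk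
    obtain hh | ⟨-, p, hp2, hpA, hp1, hpz, hpzc, hpy⟩ := shape ⟨u, uS⟩ k₀ h.tA h.t2 hk
    · obtain ⟨q, hq⟩ := hh
      have := (R.mem_iff_even (show r ^ (1 : ℤ) = r ^ (2 * q) by rw [hr1]; exact mul_left_cancel hq)).mpr (even_two_mul q)
      simp at this
    · exact four hk.symm hp2 hpA hp1 hpz hpzc hpy (hzcomm _ uS).symm
  have uclass : ∀ y : (S : Subgroup X), (∃ k₀ : X, k₀⁻¹ * u * k₀ = y) → (y ∈ M ↔ true = true) := by
    rintro y ⟨k₀, hk⟩
    simp only [iff_true]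
    rcases shape y k₀ uA hu2 hk with ⟨q, hq⟩ | ⟨hy, -⟩
    · exfalso
      refine unot (r ^ q * k₀⁻¹) ?_
      have e0 : r ^ (-q) * t * r ^ q = t * r ^ (2 * q) := by
        rw [hcomm, mul_assoc, ← zpow_add]; congr 2; ring
      calc (r ^ q * k₀⁻¹)⁻¹ * t * (r ^ q * k₀⁻¹) = k₀ * (r ^ (-q) * t * r ^ q) * k₀⁻¹ := by group
        _ = k₀ * (k₀⁻¹ * u * k₀) * k₀⁻¹ := by rw [e0, hk, hq]
        _ = u := by group
    · exact hy
  have V1 := transfer_value S M hidx h.t2 false tclass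
  have V2 := transfer_value S M hidx hu2 true uclass
  have hr' := eq_one_of_perfect h.perf ((MonoidHom.transfer (sign M hidx)).comp A.subtype) ⟨r, R.rT.1⟩
  change MonoidHom.transfer (sign M hidx) r = 1 at hr'
  rw [hu, map_mul, V1, hr'] at V2
  simp at V2

end CfsgLib.CyclicFourFixed
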