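import Cfsg.Agent.Lib.CyclicFourFixed.Max

/-!
S1914, maximal class: the fixed element `c` of order four is a rotation.
-/

set_option autoImplicit false
set_option linter.unusedSectionVars false
set_option linter.style.haveILetI false

namespace CfsgLib.CyclicFourFixed

open Subgroup

universe u

variable {X : Type u} [Group X] [Finite X] {A : Subgroup X} {S : Sylow 2 X} {t c z : X}

omit [Finite X] in
theorem tmul {x y : X} (ht : t * t = 1) : t * (x * y) * t = t * x * t * (t * y * t) := by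
  rw [show t * x * t * (t * y * t) = t * x * (t * t) * y * t by group, ht]; group

omit [Finite X] in
theorem tzpow {x : X} (ht : t * t = 1) (i : ℤ) : t * x ^ i * t = (t * x * t) ^ i := by
  have e : t⁻¹ = t := inv_eq_of_mul_eq_one_left ht
  have := (_root_.conj_zpow (a := t) (b := x) (i := i)).symm
  rwa [e] at this

omit [Finite X] in
theorem tinvol {x : X} (ht : t * t = 1) : t * (t * x * t) * t = x := by
  rw [show t * (t * x * t) * t = t * t * x * (t * t) by group, ht, one_mul, mul_one]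

variable {r y : X} {k : ℕ} {e : ℤ} (h : Setup A S t c z) (M : Max A S r y k e)
include h M

/-- `t` normalises `⟨r⟩` above order four. -/
theorem Max.exists_a (hk : 1 ≤ k) :
    ∃ a : ℤ, t * r * t = r ^ a ∧ (2 : ℤ) ^ (k + 2) ∣ a * a - 1 := by
  rcases M.form (h.tconj M.rT) with ⟨a, ha⟩ | ⟨i, hi⟩
  · refine ⟨a, ha, ?_⟩
    rw [← M.zpow_eq, zpow_one, zpow_mul, ← ha, ← tzpow h.t2, ← ha]
    exact tinvol h.t2
  · exfalso
    have h4 : (t * r * t) * (t * r * t) * ((t * r * t) * (t * r * t)) = 1 := by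
      rw [hi, M.sq_out, ← zpow_add, M.zpow_one_iff]
      obtain ⟨q, hq⟩ := M.e_succ
      exact ⟨i * q, by rw [hq]; ring⟩
    rw [← tmul h.t2, ← tmul h.t2] at h4
    have h5 : r ^ (4 : ℤ) = 1 := by
      have e0 := congrArg (fun x => t * x * t) h4
      beta_reduce at e0
      rw [tinvol h.t2, mul_one, h.t2] at e0
      rw [← e0, show (4 : ℤ) = 1 + 1 + (1 + 1) by norm_num, zpow_add, zpow_add, zpow_one]
    have h6 := Int.le_of_dvd (by norm_num) (M.zpow_one_iff.mp h5)
    have : (2 : ℤ) ^ 3 ≤ 2 ^ (k + 2) := pow_le_pow_right₀ (by norm_num) (by omega)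
    linarith

theorem Max.rot_big (hk : 1 ≤ k) (hc : c ∈ zpowers r) : False := by
  obtain ⟨i, hi⟩ := mem_zpowers_iff.mp hc
  obtain ⟨a, ha, haa⟩ := M.exists_a h hk
  have hP : (2 : ℤ) ^ (k + 1) = 2 * 2 ^ k := by ring
  have hP2 : (2 : ℤ) ^ (k + 2) = 4 * 2 ^ k := by ring
  -- the exponent of `c`
  have hi2 : r ^ (i + i) = r ^ ((2 : ℤ) ^ (k + 1)) := by rw [zpow_add, hi, h.cz, M.z_eq h]
  obtain ⟨q, hq⟩ := M.zpow_eq.mp hi2
  have hiq : i = 2 ^ k * (2 * q + 1) := by rw [hP, hP2] at hq; linarith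
  -- `c` is fixed
  have hfix : r ^ (a * i) = r ^ i := by
    rw [zpow_mul, ← ha, ← tzpow h.t2, hi]
    calc t * c * t = c * t * t := by rw [h.ct]
      _ = c := by rw [mul_assoc, h.t2, mul_one]
  obtain ⟨b, hb⟩ : (4 : ℤ) ∣ a - 1 := by
    have h1 := M.zpow_eq.mp hfix
    rw [hP2, hiq, show a * (2 ^ k * (2 * q + 1)) - 2 ^ k * (2 * q + 1) = 2 ^ k * ((a - 1) * (2 * q + 1)) by ring,
      mul_comm (4 : ℤ), mul_dvd_mul_iff_left (by positivity)] at h1
    exact (show IsCoprime (4 : ℤ) (2 * q + 1) by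
      simpa using IsCoprime.pow_left (m := 2) (show IsCoprime (2 : ℤ) (2 * q + 1) from ⟨-q, 1, by ring⟩)).dvd_of_dvd_mul_right h1
  obtain ⟨l, rfl⟩ : ∃ l, k = l + 1 := ⟨k - 1, by omega⟩
  have hL : (2 : ℤ) ^ (l + 1 + 2) = 8 * 2 ^ l := by ring
  have hL1 : (2 : ℤ) ^ (l + 1 + 1) = 4 * 2 ^ l := by ring
  have hfixed : ∀ x ∈ A, x ∈ (S : Subgroup X) → t * x * t = x → ∃ j : ℤ, x = r ^ (2 ^ (l + 1) * j) := by
    intro x hxA hxS hx
    have hxt : x * t = t * x := by
      calc x * t = t * x * t * t := by rw [hx]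
        _ = t * x := by rw [mul_assoc, h.t2, mul_one]
    have hz : z = r ^ (2 ^ (l + 1) * (2 : ℤ)) := by rw [M.z_eq h]; congr 1
    rcases h.fixed x hxA hxS hxt with e0 | e0 | e0 | e0
    · exact ⟨0, by rw [e0, mul_zero, zpow_zero]⟩
    · exact ⟨2 * q + 1, by rw [e0, ← hi, hiq]⟩
    · exact ⟨2, e0.trans hz⟩
    · exact ⟨2 * q + 3, by rw [e0, hz, ← hi, hiq, ← zpow_add]; congr 1; ring⟩
  rcases Int.even_or_odd b with ⟨p, hp⟩ | ⟨p, hp⟩
  · obtain ⟨j, hj⟩ := hfixed (r ^ ((2 : ℤ) ^ l)) (M.inT_zpow _).1 (M.inT_zpow _).2 (by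
      rw [tzpow h.t2, ha, ← zpow_mul, M.zpow_eq, hL]
      exact ⟨p, by rw [show a = 4 * b + 1 by linarith, hp]; ring⟩)
    obtain ⟨o, ho⟩ := M.zpow_eq.mp hj
    rw [hL, show (2 : ℤ) ^ l - 2 ^ (l + 1) * j = 2 ^ l * (1 - 2 * j) by ring, mul_comm (8 : ℤ), mul_assoc] at ho
    have := mul_left_cancel₀ (show (2 : ℤ) ^ l ≠ 0 by positivity) ho
    omega
  · have hl : l = 0 := by
      rw [hL, show a * a - 1 = 8 * (b * (2 * b + 1)) by rw [show a = 4 * b + 1 by linarith]; ring,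
        mul_dvd_mul_iff_left (by norm_num)] at haa
      by_contra hl
      have : (2 : ℤ) ∣ b * (2 * b + 1) := (dvd_pow_self 2 hl).trans haa
      rcases Int.prime_two.dvd_mul.mp this with hd | hd <;> omega
    subst hl
    have ha5 : t * r * t = r ^ (5 : ℤ) := by
      rw [ha, M.zpow_eq]
      exact ⟨p, by norm_num; linarith⟩
    obtain ⟨β, hβ⟩ : ∃ β : ℤ, t * y * t = r ^ β * y := by
      refine (M.form (h.tconj M.yT)).resolve_left ?_
      rintro ⟨j, hj⟩
      refine M.ynot ?_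
      rw [show y = r ^ (5 * j) by rw [← tinvol (x := y) h.t2, hj, tzpow h.t2, ha5, ← zpow_mul]]
      exact zpow_mem (mem_zpowers r) _
    have hββ : r ^ (5 * β + β) = 1 := by
      have e0 : y = r ^ (5 * β + β) * y := by
        conv_lhs => rw [← tinvol (x := y) h.t2, hβ, tmul h.t2, tzpow h.t2, ha5, ← zpow_mul, hβ]
        rw [← mul_assoc, ← zpow_add]
      exact mul_eq_right.mp e0.symm
    obtain ⟨o, ho⟩ := M.zpow_one_iff.mp hββ
    norm_num at ho
    obtain ⟨p', hp'⟩ : (4 : ℤ) ∣ β := ⟨β - o, by omega⟩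
    obtain ⟨j, hj⟩ := hfixed (r ^ p' * y) (mul_mem (M.inT_zpow _).1 M.yT.1) (mul_mem (M.inT_zpow _).2 M.yT.2) (by
      rw [tmul h.t2, tzpow h.t2, ha5, hβ, ← zpow_mul, ← mul_assoc, ← zpow_add]
      congr 1
      rw [M.zpow_eq]
      exact ⟨p', by norm_num; linarith⟩)
    refine M.ynot ?_
    rw [show y = r ^ (-p') * (r ^ p' * y) by rw [← mul_assoc, ← zpow_add]; simp, hj]
    exact mul_mem (zpow_mem (mem_zpowers r) _) (zpow_mem (mem_zpowers r) _)

/-- Order eight: the square trick with `w = t c`. -/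
theorem Max.rot_small (hk : k = 0) (hnc : ¬ ∀ a ∈ A, a * z = z * a) : False := by
  subst hk
  have he : e = -1 := M.ee.resolve_right fun h1 => absurd h1.1 (by omega)
  have hrel : ∀ i : ℤ, y * r ^ i * y⁻¹ = r ^ (-i) := fun i => by rw [M.conj_zpow, he, neg_one_mul]
  have hz : z = r ^ (2 : ℤ) := by rw [M.z_eq h]; norm_num
  obtain ⟨i, hi⟩ : c ∈ zpowers r := by
    rcases M.form ⟨h.cA, h.cS⟩ with ⟨i, hi⟩ | ⟨i, hi⟩
    · exact ⟨i, hi.symm⟩
    · exact absurd (by rw [← h.cz, hi, M.sq_out, he, show i * (-1 + 1) = (0 : ℤ) by ring, zpow_zero]) h.z1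
  have hi' : r ^ i = c := hi
  have hi2 : r ^ (i + i) = r ^ (2 : ℤ) := by rw [zpow_add, hi', h.cz, hz]
  obtain ⟨q, hq⟩ := M.zpow_eq.mp hi2
  norm_num at hq
  have hci : r = c ^ i := by
    rw [← hi', ← zpow_mul]
    conv_lhs => rw [← zpow_one r]
    rw [M.zpow_eq]
    exact ⟨-(q + q * q * 1) , by norm_num; rw [show i = 2 * q + 1 by linarith]; ring⟩
  have htc : t * c * t = c := by rw [← h.ct, mul_assoc, h.t2, mul_one]
  have htr : t * r * t = r := by rw [hci, tzpow h.t2, htc]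
  have htrz : ∀ j : ℤ, t * r ^ j * t = r ^ j := fun j => by rw [tzpow h.t2, htr]
  have hy2 : y⁻¹ = y := inv_eq_of_mul_eq_one_left M.y2
  -- action on the outside
  have hty : t * y * t = z * y := by
    obtain ⟨β, hβ⟩ : ∃ β : ℤ, t * y * t = r ^ β * y := by
      refine (M.form (h.tconj M.yT)).resolve_left ?_
      rintro ⟨j, hj⟩
      refine M.ynot ?_
      rw [show y = r ^ j by rw [← tinvol (x := y) h.t2, hj, htrz]]
      exact zpow_mem (mem_zpowers r) _
    have hββ : r ^ (β + β) = 1 := by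
      have e0 : y = r ^ (β + β) * y := by
        conv_lhs => rw [← tinvol (x := y) h.t2, hβ, tmul h.t2, htrz, hβ]
        rw [← mul_assoc, ← zpow_add]
      exact mul_eq_right.mp e0.symm
    obtain ⟨o, ho⟩ := M.zpow_one_iff.mp hββ
    norm_num at ho
    rcases Int.even_or_odd o with ⟨p, hp⟩ | ⟨p, hp⟩
    · exfalso
      have hy1 : t * y * t = y := by
        rw [hβ, M.zpow_one_iff.mpr ⟨p, by norm_num; linarith⟩, one_mul]
      have hyt : y * t = t * y := by
        calc y * t = t * y * t * t := by rw [hy1]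
          _ = t * y := by rw [mul_assoc, h.t2, mul_one]
      rcases h.inv_fixed M.yT M.y2 hyt with e0 | e0
      · exact M.ynot (e0 ▸ one_mem _)
      · exact M.ynot (e0.trans hz ▸ zpow_mem (mem_zpowers r) _)
    · rw [hβ, hz]; congr 1; rw [M.zpow_eq]; exact ⟨p, by norm_num; linarith⟩
  have hout : ∀ x, InT A S x → t * x * (t * x) ∈ zpowers r := by
    intro x hx
    rw [← mul_assoc]
    rcases M.form hx with ⟨j, rfl⟩ | ⟨j, rfl⟩
    · rw [htrz]; exact mul_mem (zpow_mem (mem_zpowers r) _) (zpow_mem (mem_zpowers r) _)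
    · rw [tmul h.t2, htrz, hty, hz, show r ^ j * (r ^ (2 : ℤ) * y) * (r ^ j * y) = r ^ j * r ^ (2 : ℤ) * (y * r ^ j * y) by group]
      conv_lhs => rfl
      have := hrel j
      rw [hy2] at this
      rw [this]
      exact mul_mem (mul_mem (zpow_mem (mem_zpowers r) _) (zpow_mem (mem_zpowers r) _)) (zpow_mem (mem_zpowers r) _)
  obtain ⟨g, hg, hgT, hne⟩ := h.other hnc
  refine hne (h.squareX (M.squares h hout) (g := g) (w := t * c) ?_ ?_)
  · rcases M.form hgT with ⟨j, hj⟩ | ⟨j, hj⟩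
    · refine absurd (M.inv_mem_zpowers h (hj ▸ zpow_mem (mem_zpowers r) j) ?_ ?_) hne
      · rw [show g * z * g⁻¹ * (g * z * g⁻¹) = g * (z * z) * g⁻¹ by group, h.z2]; group
      · exact fun e0 => h.z1 (conj_eq_one_iff.mp e0)
    · rw [hj]
      have e1 : r ^ j * y * c = c⁻¹ * (r ^ j * y) := by
        have h1 := hrel i
        rw [hi', zpow_neg, hi'] at h1
        calc r ^ j * y * c = r ^ j * (y * c * y⁻¹) * y := by group
          _ = r ^ (j + -i) * y := by rw [h1, ← hi', ← zpow_neg, ← zpow_add]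
          _ = r ^ (-i + j) * y := by rw [add_comm]
          _ = c⁻¹ * (r ^ j * y) := by rw [zpow_add, zpow_neg, hi', mul_assoc]
      have e2 : t * (r ^ j * y) * t = z * (r ^ j * y) := by
        rw [tmul h.t2, htrz, hty, ← mul_assoc, ← mul_assoc, hz, ← zpow_add, ← zpow_add, add_comm]
      calc t * c * (r ^ j * y) = t * (c * c) * (c⁻¹ * (r ^ j * y)) := by group
        _ = t * (z * (r ^ j * y)) * c := by rw [h.cz, ← e1]; group
        _ = t * (t * (r ^ j * y) * t) * c := by rw [e2]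
        _ = t * t * (r ^ j * y) * (t * c) := by group
        _ = r ^ j * y * (t * c) := by rw [h.t2, one_mul]
  · rw [show t * c * (t * c) = (t * c * t) * c by group, htc, h.cz]

end CfsgLib.CyclicFourFixed
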