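import Cfsg.Agent.Lib.CyclicFourFixed.Structure

/-!
S1914: an involution of `A ⊓ S` outside the four group gives a dihedral or quasi-dihedral extension of it, which is
impossible.

* `Outer`: `r` inverted by `t` and `u`, centralising `v`, `A ⊓ S = ⟨r⟩⟨v⟩⟨u⟩`.
* `Four.false_of_out`.
-/

set_option autoImplicit false
set_option linter.unusedSectionVars false
set_option linter.style.haveILetI false

namespace CfsgLib.CyclicFourFixed

open Subgroup

universe u

variable {X : Type u} [Group X] [Finite X] {A : Subgroup X} {S : Sylow 2 X} {t c z v u r q : X}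

/-- The shape of `A ⊓ S` with an involution outside the four group. -/
structure Outer (A : Subgroup X) (S : Sylow 2 X) (t c z v u r q : X) : Prop where
  setup : Setup A S t c z
  four : Four A S z v
  uT : InT A S u
  u2 : u * u = 1
  rT : InT A S r
  rv : r * v = v * r
  ur : u * r * u = r⁻¹
  uV : u ∉ zpowers r ∧ ∀ i : ℤ, u ≠ r ^ i * v
  vr : v ∉ zpowers r
  qr : q ∈ zpowers r
  q2 : q * q = z
  inv1 : ∀ x ∈ zpowers r, x * x = 1 → x = 1 ∨ x = z
  zr : ∃ l : ℕ, 1 ≤ l ∧ z = r ^ ((2 : ℤ) ^ l)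
  form : ∀ x, InT A S x → ∃ i : ℤ, x = r ^ i ∨ x = r ^ i * v ∨ x = r ^ i * u ∨ x = r ^ i * v * u

namespace Outer

variable (O : Outer A S t c z v u r q)
include O

theorem u_inv : u⁻¹ = u := inv_eq_of_mul_eq_one_left O.u2

theorem ri (i : ℤ) : InT A S (r ^ i) := ⟨zpow_mem O.rT.1 i, zpow_mem O.rT.2 i⟩

theorem rvi (i : ℤ) : r ^ i * v = v * r ^ i := ((show Commute r v from O.rv).zpow_left i).eq

theorem uri (i : ℤ) : u * r ^ i = r ^ (-i) * u := by
  have e : u * r ^ i * u = r ^ (-i) := by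
    have := (_root_.conj_zpow (a := u) (b := r) (i := i)).symm
    rw [O.u_inv, O.ur, inv_zpow'] at this
    exact this
  rw [← e, mul_assoc (u * r ^ i), O.u2, mul_one]

theorem z_mem : z ∈ zpowers r := O.q2 ▸ mul_mem O.qr O.qr

theorem qu : u * q = q * z * u := by
  obtain ⟨j, hj⟩ := mem_zpowers_iff.mp O.qr
  rw [← hj, O.uri, hj]
  have e : r ^ (-j) = q * z := by
    rw [zpow_neg, hj]
    refine inv_eq_of_mul_eq_one_right ?_
    rw [← mul_assoc, O.q2, O.setup.z2]
  rw [e]

theorem qv : q * v = v * q := by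
  obtain ⟨j, hj⟩ := mem_zpowers_iff.mp O.qr
  rw [← hj]; exact O.rvi j

theorem qri (i : ℤ) : q * r ^ i = r ^ i * q := by
  obtain ⟨j, hj⟩ := mem_zpowers_iff.mp O.qr
  rw [← hj, ← zpow_add, ← zpow_add, add_comm]

theorem zcomm {x : X} (hx : InT A S x) : x * z = z * x := O.setup.zc x hx.2

theorem qT : InT A S q := by
  obtain ⟨j, hj⟩ := mem_zpowers_iff.mp O.qr
  exact hj ▸ O.ri j

/-- The square of `r^i v^e u^f`. -/
theorem sq_r (i : ℤ) : r ^ i * v * (r ^ i * v) = r ^ (i + i) := by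
  rw [show r ^ i * v * (r ^ i * v) = r ^ i * (v * r ^ i) * v by group, ← O.rvi,
    show r ^ i * (r ^ i * v) * v = r ^ i * r ^ i * (v * v) by group, O.four.v2, mul_one, ← zpow_add]

theorem sq_u (i : ℤ) : r ^ i * u * (r ^ i * u) = 1 := by
  rw [show r ^ i * u * (r ^ i * u) = r ^ i * (u * r ^ i) * u by group, O.uri,
    show r ^ i * (r ^ (-i) * u) * u = r ^ i * r ^ (-i) * (u * u) by group, O.u2, mul_one, ← zpow_add, add_neg_cancel,
    zpow_zero]

theorem sq_vu (i : ℤ) : r ^ i * v * u * (r ^ i * v * u) = v * (u * v * u) := by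
  rw [show r ^ i * v * u * (r ^ i * v * u) = r ^ i * v * (u * r ^ i) * (v * u) by group, O.uri,
    show r ^ i * v * (r ^ (-i) * u) * (v * u) = r ^ i * (v * r ^ (-i)) * (u * v * u) by group, ← O.rvi,
    ← mul_assoc (r ^ i), ← zpow_add, add_neg_cancel, zpow_zero, one_mul]

/-- Involutions of `A ⊓ S` inside `⟨r⟩⟨v⟩`. -/
theorem inv_rv (i : ℤ) (h2 : r ^ i * v * (r ^ i * v) = 1) : r ^ i * v = v ∨ r ^ i * v = v * z := by
  rw [O.sq_r, zpow_add] at h2
  rcases O.inv1 _ (zpow_mem (mem_zpowers r) i) h2 with e | e <;> rw [e]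
  · exact Or.inl (one_mul v)
  · exact Or.inr (O.zcomm O.four.vT).symm

end Outer

/-- The inverted case `u v u = v z`, central `z`. -/
theorem Outer.moved_central (O : Outer A S t c z v u r q) (hm : u * v * u = v * z) (hcen : ∀ a ∈ A, a * z = z * a) :
    False := by
  have h := O.setup
  have huv : u * v = v * z * u := by rw [← hm, mul_assoc (u * v), O.u2, mul_one]
  obtain ⟨jz, hjz⟩ := mem_zpowers_iff.mp O.z_mem
  let M : Subgroup X :=
    { carrier := {x | ∃ i : ℤ, x = r ^ i ∨ x = r ^ i * v * u}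
      one_mem' := ⟨0, Or.inl (zpow_zero r).symm⟩
      mul_mem' := by
        rintro a b ⟨i, rfl | rfl⟩ ⟨j, rfl | rfl⟩
        · exact ⟨i + j, Or.inl (zpow_add r i j).symm⟩
        · exact ⟨i + j, Or.inr (by rw [zpow_add]; group)⟩
        · refine ⟨i - j, Or.inr ?_⟩
          rw [mul_assoc (r ^ i * v), O.uri, show r ^ i * v * (r ^ (-j) * u) = r ^ i * (v * r ^ (-j)) * u by group,
            ← O.rvi, sub_eq_add_neg, zpow_add]; group
        · refine ⟨i - j + jz, Or.inl ?_⟩
          calc r ^ i * v * u * (r ^ j * v * u) = r ^ i * v * (u * r ^ j) * (v * u) := by group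
            _ = r ^ i * (v * r ^ (-j)) * (u * v * u) := by rw [O.uri]; group
            _ = r ^ i * r ^ (-j) * (v * v) * z := by rw [← O.rvi, hm]; group
            _ = _ := by rw [O.four.v2, mul_one, ← hjz, ← zpow_add, ← zpow_add, sub_eq_add_neg]
      inv_mem' := by
        rintro a ⟨i, rfl | rfl⟩
        · exact ⟨-i, Or.inl (zpow_neg r i).symm⟩
        · refine ⟨i + jz, Or.inr ?_⟩
          rw [inv_eq_iff_mul_eq_one]
          calc r ^ i * v * u * (r ^ (i + jz) * v * u) = r ^ i * v * (u * r ^ (i + jz)) * (v * u) := by group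
            _ = r ^ i * (v * r ^ (-(i + jz))) * (u * v * u) := by rw [O.uri]; group
            _ = r ^ i * r ^ (-(i + jz)) * (v * v) * z := by rw [← O.rvi, hm]; group
            _ = 1 := by
              rw [O.four.v2, mul_one, ← hjz, ← zpow_add, ← zpow_add,
                show i + -(i + jz) + jz = (0 : ℤ) by ring, zpow_zero] }
  have hvM : v ∉ M := by
    rintro ⟨i, e | e⟩
    · exact O.vr (e ▸ zpow_mem (mem_zpowers r) i)
    · rw [O.rvi] at e
      refine O.uV.1 ?_
      have e2 : r ^ i * u = 1 := mul_left_cancel (a := v) (by rw [mul_one, ← mul_assoc]; exact e.symm)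
      rw [eq_inv_of_mul_eq_one_right e2]
      exact inv_mem (zpow_mem (mem_zpowers r) i)
  obtain ⟨g, hg, -, j, hgj⟩ := h.transferA M O.four.vT hvM (fun x hx => by
    obtain ⟨i, e | e | e | e⟩ := O.form x hx
    · exact Or.inr ⟨i, Or.inl e⟩
    · exact Or.inl ⟨i, Or.inl (by rw [e, mul_assoc, O.four.v2, mul_one])⟩
    · refine Or.inl ⟨i + jz, Or.inr ?_⟩
      rw [e, mul_assoc, huv, zpow_add, hjz, ← mul_assoc, ← mul_assoc, mul_assoc (r ^ i) v z, O.zcomm O.four.vT]
      group
    · exact Or.inr ⟨i, Or.inr e⟩) O.uT O.u2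
  have hy2 : g * u * g⁻¹ * (g * u * g⁻¹) = 1 := by
    rw [show g * u * g⁻¹ * (g * u * g⁻¹) = g * (u * u) * g⁻¹ by group, O.u2]; group
  have hu1 : u ≠ 1 := fun e => O.uV.1 (e ▸ one_mem _)
  rcases hgj with e | e
  · rcases O.inv1 _ (e ▸ zpow_mem (mem_zpowers r) j) hy2 with e0 | e0
    · exact hu1 (conj_eq_one_iff.mp e0)
    · refine O.uV.1 ?_
      have : u = z := by
        calc u = g⁻¹ * (g * u * g⁻¹) * g := by group
          _ = g⁻¹ * (z * g) := by rw [e0]; group
          _ = z := by rw [← hcen g hg]; group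
      exact this ▸ O.z_mem
  · rw [e, O.sq_vu, hm, ← mul_assoc, O.four.v2, one_mul] at hy2
    exact h.z1 hy2

/-- The inverted case, `z` not central: the square trick. -/
theorem Outer.moved_noncentral (O : Outer A S t c z v u r q) (hm : u * v * u = v * z)
    (hnc : ¬ ∀ a ∈ A, a * z = z * a) : False := by
  have h := O.setup
  have huv : u * v = v * z * u := by rw [← hm, mul_assoc (u * v), O.u2, mul_one]
  have hsq : ∀ x, InT A S x → x * x * (x * x) = 1 → x * x ≠ 1 → x * x = z := by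
    intro x hx h4 h1
    refine (O.inv1 _ ?_ h4).resolve_left h1
    obtain ⟨i, e | e | e | e⟩ := O.form x hx <;> rw [e]
    · exact mul_mem (zpow_mem (mem_zpowers r) i) (zpow_mem (mem_zpowers r) i)
    · rw [O.sq_r]; exact zpow_mem (mem_zpowers r) _
    · rw [O.sq_u]; exact one_mem _
    · rw [O.sq_vu, hm, ← mul_assoc, O.four.v2, one_mul]; exact O.z_mem
  obtain ⟨g, hg, hgT, hne⟩ := h.other hnc
  have hy2 : g * z * g⁻¹ * (g * z * g⁻¹) = 1 := by
    rw [show g * z * g⁻¹ * (g * z * g⁻¹) = g * (z * z) * g⁻¹ by group, h.z2]; group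
  have hy1 : g * z * g⁻¹ ≠ 1 := fun e => h.z1 (conj_eq_one_iff.mp e)
  obtain ⟨i, e | e | e | e⟩ := O.form _ hgT
  · exact hne ((O.inv1 _ (e ▸ zpow_mem (mem_zpowers r) i) hy2).resolve_left hy1)
  · refine hne (h.squareA hsq hg O.qT.1 ?_ O.q2)
    rw [e, ← mul_assoc, O.qri, mul_assoc, O.qv, ← mul_assoc]
  · refine hne (h.squareA hsq hg (w := v * q) (mul_mem O.four.vT.1 O.qT.1) ?_ ?_)
    · rw [e]
      calc v * q * (r ^ i * u) = v * (q * r ^ i) * u := by group
        _ = r ^ i * (v * q) * u := by rw [O.qri, ← mul_assoc, ← O.rvi]; group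
        _ = r ^ i * (v * q * (u * u) * u) := by rw [O.u2, mul_one]; group
        _ = r ^ i * (u * (v * z * (q * z))) := by
          have e1 : u * (v * z * (q * z)) = v * q * u := by
            calc u * (v * z * (q * z)) = u * v * (z * q) * z := by group
              _ = v * z * u * (q * z) * z := by rw [huv, ← O.zcomm O.qT]
              _ = v * z * (u * q) * (z * z) := by group
              _ = v * (z * q) * z * u := by rw [h.z2, mul_one, O.qu]; group
              _ = v * q * (z * z) * u := by rw [← O.zcomm O.qT]; group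
              _ = v * q * u := by rw [h.z2, mul_one]
          rw [e1, O.u2, mul_one]
        _ = r ^ i * u * (v * q) := by
          rw [show v * z * (q * z) = v * (z * q) * z by group, ← O.zcomm O.qT,
            show v * (q * z) * z = v * q * (z * z) by group, h.z2, mul_one, ← mul_assoc]
    · rw [show v * q * (v * q) = v * (q * v) * q by group, O.qv, show v * (v * q) * q = v * v * (q * q) by group,
        O.four.v2, one_mul, O.q2]
  · rw [e, O.sq_vu, hm, ← mul_assoc, O.four.v2, one_mul] at hy2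
    exact h.z1 hy2

/-! ### `u` centralises `v` -/

/-- `v` centralises `A ⊓ S`. -/
theorem Outer.v_central (O : Outer A S t c z v u r q) (hc : u * v = v * u) {x : X} (hx : InT A S x) :
    x * v = v * x := by
  obtain ⟨i, e | e | e | e⟩ := O.form x hx <;> rw [e]
  · exact O.rvi i
  · rw [O.rvi, mul_assoc, O.rvi]
  · rw [mul_assoc, hc, ← mul_assoc, O.rvi, mul_assoc]
  · rw [mul_assoc, hc, ← mul_assoc, O.rvi, mul_assoc (v) (r ^ i) v, O.rvi]
    group

/-- `A ⊓ S` modulo `⟨r⟩` is abelian. -/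
theorem Outer.comm_mem (O : Outer A S t c z v u r q) (hc : u * v = v * u) {x y : X} (hx : InT A S x)
    (hy : InT A S y) : x * y * x⁻¹ * y⁻¹ ∈ zpowers r := by
  have nr : ∀ s, (s = 1 ∨ s = v ∨ s = u ∨ s = v * u) → ∀ i : ℤ, ∃ j : ℤ, s * r ^ i = r ^ j * s := by
    intro s hs i
    rcases hs with e | e | e | e <;> rw [e]
    · exact ⟨i, by group⟩
    · exact ⟨i, (O.rvi i).symm⟩
    · exact ⟨-i, O.uri i⟩
    · exact ⟨-i, by rw [mul_assoc, O.uri, ← mul_assoc, ← O.rvi, mul_assoc]⟩
  have split : ∀ x, InT A S x → ∃ (i : ℤ) (s : X), (s = 1 ∨ s = v ∨ s = u ∨ s = v * u) ∧ x = r ^ i * s := fun x hx => by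
    obtain ⟨i, e | e | e | e⟩ := O.form x hx
    · exact ⟨i, 1, Or.inl rfl, by rw [e, mul_one]⟩
    · exact ⟨i, v, Or.inr (Or.inl rfl), e⟩
    · exact ⟨i, u, Or.inr (Or.inr (Or.inl rfl)), e⟩
    · exact ⟨i, v * u, Or.inr (Or.inr (Or.inr rfl)), by rw [e, mul_assoc]⟩
  obtain ⟨i, s, hs, rfl⟩ := split x hx
  obtain ⟨j, s', hs', rfl⟩ := split y hy
  obtain ⟨j', hj⟩ := nr s hs j
  obtain ⟨i', hi⟩ := nr s' hs' i
  have hss : s * s' = s' * s := by
    have cvu : Commute v u := hc.symm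
    rcases hs with rfl | rfl | rfl | rfl <;> rcases hs' with rfl | rfl | rfl | rfl <;>
      first
        | exact (Commute.one_left _).eq
        | exact (Commute.one_right _).eq
        | rfl
        | exact cvu.eq
        | exact cvu.symm.eq
        | exact ((Commute.refl _).mul_right cvu).eq
        | exact (cvu.symm.mul_right (Commute.refl _)).eq
        | exact ((Commute.refl _).mul_left cvu.symm).eq
        | exact (cvu.mul_left (Commute.refl _)).eq
  have e1 : r ^ i * s * (r ^ j * s') = r ^ i * r ^ j' * (s * s') := by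
    rw [show r ^ i * s * (r ^ j * s') = r ^ i * (s * r ^ j) * s' by group, hj]; group
  have e2 : r ^ j * s' * (r ^ i * s) = r ^ j * r ^ i' * (s * s') := by
    rw [show r ^ j * s' * (r ^ i * s) = r ^ j * (s' * r ^ i) * s by group, hi, hss]; group
  rw [show r ^ i * s * (r ^ j * s') * (r ^ i * s)⁻¹ * (r ^ j * s')⁻¹ =
    r ^ i * s * (r ^ j * s') * (r ^ j * s' * (r ^ i * s))⁻¹ by group, e1, e2,
    show r ^ i * r ^ j' * (s * s') * (r ^ j * r ^ i' * (s * s'))⁻¹ = r ^ i * r ^ j' * (r ^ j * r ^ i')⁻¹ by group]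
  exact mul_mem (mul_mem (zpow_mem (mem_zpowers r) _) (zpow_mem (mem_zpowers r) _))
    (inv_mem (mul_mem (zpow_mem (mem_zpowers r) _) (zpow_mem (mem_zpowers r) _)))

/-- The normaliser of `A ⊓ S` in `A` fixes `z`. -/
theorem Outer.fix_z (O : Outer A S t c z v u r q) (hc : u * v = v * u) {n : X}
    (hn : ∀ x, InT A S x → InT A S (n * x * n⁻¹)) : n * z * n⁻¹ = z := by
  obtain ⟨l, hl, hz⟩ := O.zr
  obtain ⟨l', rfl⟩ : ∃ l', l = l' + 1 := ⟨l - 1, by omega⟩
  have e1 : r * u * r⁻¹ * u⁻¹ = r ^ (2 : ℤ) := by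
    have e0 := O.uri (-1)
    rw [zpow_neg, zpow_one, neg_neg, zpow_one] at e0
    rw [O.u_inv, mul_assoc r u r⁻¹, e0, mul_assoc, mul_assoc, O.u2, mul_one, zpow_two]
  have e2 : z = (r * u * r⁻¹ * u⁻¹) ^ ((2 : ℤ) ^ l') := by
    rw [e1, ← zpow_mul, hz]; congr 1; ring
  have e3 : n * z * n⁻¹ ∈ zpowers r := by
    rw [e2, ← _root_.conj_zpow,
      show n * (r * u * r⁻¹ * u⁻¹) * n⁻¹ = n * r * n⁻¹ * (n * u * n⁻¹) * (n * r * n⁻¹)⁻¹ * (n * u * n⁻¹)⁻¹ by group]
    exact zpow_mem (O.comm_mem hc (hn r O.rT) (hn u O.uT)) _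
  rcases O.inv1 _ e3 (by rw [show n * z * n⁻¹ * (n * z * n⁻¹) = n * (z * z) * n⁻¹ by group, O.setup.z2]; group) with e | e
  · exact absurd (conj_eq_one_iff.mp e) O.setup.z1
  · exact e

/-- `v` is not conjugate to `v z`. -/
theorem Outer.not_conj_vz (O : Outer A S t c z v u r q) (hc : u * v = v * u) {g : X} (hg : g ∈ A)
    (e : g * v * g⁻¹ = v * z) : False := by
  have h := O.setup
  refine h.swapA (a := v) (b := v * z) O.four.vT ⟨mul_mem O.four.vT.1 h.zA, mul_mem O.four.vT.2 h.zS⟩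
    (fun x hx => O.v_central hc hx) (fun x hx => by rw [← mul_assoc, O.v_central hc hx, mul_assoc, O.zcomm hx, ← mul_assoc])
    (fun e0 => h.z1 (mul_eq_left.mp e0.symm)) hg e fun n _ hn hne => ?_
  rw [show n * (v * z) * n⁻¹ = n * v * n⁻¹ * (n * z * n⁻¹) by group, hne, O.fix_z hc hn, mul_assoc, h.z2, mul_one]

/-- `z` is not conjugate to a central involution `w ≠ z`. -/
theorem Outer.not_conj_z (O : Outer A S t c z v u r q) (hc : u * v = v * u) {w g : X} (hwT : InT A S w)
    (hwc : ∀ x, InT A S x → x * w = w * x) (hwz : z ≠ w) (hg : g ∈ A) (e : g * z * g⁻¹ = w) : False := by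
  have h := O.setup
  exact h.swapA (a := z) (b := w) h.zT hwT (fun x hx => h.zc x hx.2) hwc hwz hg e fun n _ hn hne =>
    absurd ((O.fix_z hc hn).symm.trans hne) hwz

/-- The dihedral subgroup on `r' = r v^α`, `u' = u v^β`. -/
def dih (O : Outer A S t c z v u r q) (r' u' : X) (hu' : u' * u' = 1) (hru : u' * r' * u' = r'⁻¹) : Subgroup X where
  carrier := {x | ∃ i : ℤ, x = r' ^ i ∨ x = r' ^ i * u'}
  one_mem' := ⟨0, Or.inl (zpow_zero r').symm⟩
  mul_mem' := by
    have hu : u'⁻¹ = u' := inv_eq_of_mul_eq_one_left hu'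
    have key : ∀ j : ℤ, u' * r' ^ j = r' ^ (-j) * u' := fun j => by
      have := (_root_.conj_zpow (a := u') (b := r') (i := j)).symm
      rw [hu, hru, inv_zpow'] at this
      rw [← this, mul_assoc (u' * r' ^ j), hu', mul_one]
    rintro a b ⟨i, rfl | rfl⟩ ⟨j, rfl | rfl⟩
    · exact ⟨i + j, Or.inl (zpow_add r' i j).symm⟩
    · exact ⟨i + j, Or.inr (by rw [zpow_add, mul_assoc])⟩
    · exact ⟨i - j, Or.inr (by rw [mul_assoc, key, ← mul_assoc, ← zpow_add, sub_eq_add_neg])⟩
    · refine ⟨i - j, Or.inl ?_⟩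
      rw [show r' ^ i * u' * (r' ^ j * u') = r' ^ i * (u' * r' ^ j) * u' by group, key,
        show r' ^ i * (r' ^ (-j) * u') * u' = r' ^ i * r' ^ (-j) * (u' * u') by group, hu', mul_one, ← zpow_add,
        sub_eq_add_neg]
  inv_mem' := by
    have hu : u'⁻¹ = u' := inv_eq_of_mul_eq_one_left hu'
    rintro a ⟨i, rfl | rfl⟩
    · exact ⟨-i, Or.inl (zpow_neg r' i).symm⟩
    · refine ⟨i, Or.inr ?_⟩
      have := (_root_.conj_zpow (a := u') (b := r') (i := -i)).symm
      rw [hu, hru, inv_zpow', neg_neg] at this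
      rw [mul_inv_rev, hu, ← zpow_neg, ← this, mul_assoc (u' * r' ^ (-i)), hu', mul_one]

/-- `g x g⁻¹ = y` for some `g ∈ A`. -/
def Fus (A : Subgroup X) (x y : X) : Prop := ∃ g ∈ A, g * x * g⁻¹ = y

omit [Finite X] in
theorem Fus.trans {x y w : X} (h1 : Fus A x y) (h2 : Fus A y w) : Fus A x w := by
  obtain ⟨g, hg, rfl⟩ := h1
  obtain ⟨k, hk, rfl⟩ := h2
  exact ⟨k * g, mul_mem hk hg, by group⟩

omit [Finite X] in
theorem Fus.symm {x y : X} (h1 : Fus A x y) : Fus A y x := by
  obtain ⟨g, hg, rfl⟩ := h1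
  exact ⟨g⁻¹, inv_mem hg, by group⟩

/-- Conjugates under `r`: only the parity of the exponent matters. -/
theorem Outer.fus_parity (O : Outer A S t c z v u r q) {s : X} (hs : ∀ i : ℤ, s * r ^ i = r ^ (-i) * s) (i j : ℤ) :
    Fus A (r ^ i * s) (r ^ (i + 2 * j) * s) := by
  refine ⟨r ^ j, (O.ri j).1, ?_⟩
  rw [← zpow_neg, show r ^ j * (r ^ i * s) * r ^ (-j) = r ^ j * r ^ i * (s * r ^ (-j)) by group, hs, ← mul_assoc,
    ← zpow_add, ← zpow_add]
  congr 2; ring

/-- Multiplication by `z` is a conjugation. -/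
theorem Outer.fus_z (O : Outer A S t c z v u r q) {s : X} (hsT : InT A S s) (hs : s * q = q * z * s) (i : ℤ) :
    Fus A (r ^ i * s) (r ^ i * s * z) := by
  refine ⟨q⁻¹, inv_mem O.qT.1, ?_⟩
  calc q⁻¹ * (r ^ i * s) * q⁻¹⁻¹ = q⁻¹ * r ^ i * (s * q) := by group
    _ = q⁻¹ * (r ^ i * q) * (z * s) := by rw [hs]; group
    _ = r ^ i * (z * s) := by rw [← O.qri]; group
    _ = r ^ i * s * z := by rw [← O.zcomm hsT, mul_assoc]

/-- The four transfers. -/
theorem Outer.class_half (O : Outer A S t c z v u r q) (hc : u * v = v * u) {w : X} (hw : w = v ∨ w = v * z)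
    (hwr : ∀ g ∈ A, g * w * g⁻¹ ≠ z) :
    (Fus A w u ∧ Fus A w (v * u)) ∨ (Fus A w (r * u) ∧ Fus A w (r * v * u)) := by
  have h := O.setup
  have hwT : InT A S w := by
    rcases hw with rfl | rfl
    exacts [O.four.vT, ⟨mul_mem O.four.vT.1 h.zA, mul_mem O.four.vT.2 h.zS⟩]
  have hw2 : w * w = 1 := by
    rcases hw with rfl | rfl
    · exact O.four.v2
    · rw [show v * z * (v * z) = v * (z * v) * z by group, ← O.zcomm O.four.vT,
        show v * (v * z) * z = v * v * (z * z) by group, O.four.v2, one_mul, h.z2]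
  have hw1 : w ≠ 1 := by
    rcases hw with rfl | rfl
    · exact O.four.v1
    · exact fun e => O.four.vz (by rw [eq_inv_of_mul_eq_one_left e, inv_eq_of_mul_eq_one_left h.z2])
  have hvu : Commute v u := hc.symm
  have hvr : Commute v r := O.rv.symm
  have hrr : ∀ (α : ℤ) (i : ℤ), (r * v ^ α) ^ i = r ^ i * v ^ (α * i) := fun α i => by
    rw [(hvr.symm.zpow_right α).mul_zpow, zpow_mul]
  have huv2 : ∀ β : ℤ, u * v ^ β * (u * v ^ β) = 1 := fun β => by
    rw [show u * v ^ β * (u * v ^ β) = u * (v ^ β * u) * v ^ β by group, (hvu.zpow_left β).eq,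
      show u * (u * v ^ β) * v ^ β = u * u * (v ^ β * v ^ β) by group, O.u2, one_mul, ← zpow_add, ← two_mul, zpow_mul,
      zpow_two, O.four.v2, one_zpow]
  have hv2j : ∀ j : ℤ, v ^ (2 * j) = 1 := fun j => by rw [zpow_mul, zpow_two, O.four.v2, one_zpow]
  have hvpar : ∀ j k : ℤ, (j - k) % 2 = 0 → v ^ j = v ^ k := fun j k e => by
    obtain ⟨o, ho⟩ : (2 : ℤ) ∣ j - k := Int.dvd_of_emod_eq_zero e
    rw [show j = 2 * o + k by linarith, zpow_add, hv2j, one_mul]
  have key : ∀ α β : ℤ, Fus A w (v ^ β * u) ∨ Fus A w (r * v ^ (α + β) * u) := by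
    intro α β
    have hru : u * v ^ β * (r * v ^ α) * (u * v ^ β) = (r * v ^ α)⁻¹ := by
      have hr1 : u * r = r⁻¹ * u := by
        have := O.uri 1
        rwa [zpow_one, zpow_neg, zpow_one] at this
      calc u * v ^ β * (r * v ^ α) * (u * v ^ β) = u * (v ^ β * r) * (v ^ α * u) * v ^ β := by group
        _ = u * r * (v ^ β * u) * (v ^ α * v ^ β) := by
          rw [(hvr.zpow_left β).eq, (hvu.zpow_left α).eq]; group
        _ = r⁻¹ * (u * u) * (v ^ β * (v ^ α * v ^ β)) := by rw [(hvu.zpow_left β).eq, hr1]; group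
        _ = r⁻¹ * v ^ (-α) := by
          rw [O.u2, mul_one, ← zpow_add, ← zpow_add]
          exact congrArg _ (hvpar _ _ (by omega))
        _ = (r * v ^ α)⁻¹ := by
          rw [mul_inv_rev, ← zpow_neg, ((hvr.zpow_left (-α)).inv_right).eq]
    set M := dih O (r * v ^ α) (u * v ^ β) (huv2 β) hru
    have hMem : ∀ x, x ∈ M ↔ ∃ i : ℤ, x = r ^ i * v ^ (α * i) ∨ x = r ^ i * v ^ (α * i + β) * u := fun x => by
      constructor
      · rintro ⟨i, e | e⟩
        · exact ⟨i, Or.inl (by rw [e, hrr])⟩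
        · exact ⟨i, Or.inr (by rw [e, hrr, zpow_add, ← (hvu.zpow_left β).eq]; group)⟩
      · rintro ⟨i, e | e⟩
        · exact ⟨i, Or.inl (by rw [e, hrr])⟩
        · exact ⟨i, Or.inr (by rw [e, hrr, zpow_add, ← (hvu.zpow_left β).eq]; group)⟩
    have hvM : v ∉ M := by
      intro hvm
      rcases (hMem v).mp hvm with ⟨i, e | e⟩
      · rcases Int.even_or_odd (α * i) with ⟨o, ho⟩ | ⟨o, ho⟩
        · rw [ho, ← two_mul, hv2j, mul_one] at e
          exact O.vr (e ▸ zpow_mem (mem_zpowers r) i)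
        · rw [ho, zpow_add, hv2j, one_mul, zpow_one] at e
          have hi0 : r ^ i = 1 := mul_eq_right.mp e.symm
          obtain ⟨l, hl, hz⟩ := O.zr
          -- `r ^ i = 1` with `i` odd forces `r = 1`
          have hi : ∃ o', i = 2 * o' + 1 := by
            rcases Int.even_or_odd i with ⟨o', ho'⟩ | h'
            · exfalso
              rw [ho'] at ho
              have : (2 : ℤ) ∣ 1 := ⟨α * o' - o, by linarith⟩
              norm_num at this
            · exact h'
          obtain ⟨o', ho'⟩ := hi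
          refine O.setup.z1 ?_
          have hz2 : r ^ ((2 : ℤ) ^ (l + 1)) = 1 := by
            rw [pow_succ, mul_comm, zpow_mul', zpow_two, ← hz, h.z2]
          obtain ⟨a', b', hab⟩ : IsCoprime ((2 : ℤ) ^ (l + 1)) i := IsCoprime.pow_left ⟨-o', 1, by rw [ho']; ring⟩
          have hr1 : r = 1 := by
            calc r = r ^ (a' * 2 ^ (l + 1) + b' * i) := by rw [hab, zpow_one]
              _ = 1 := by rw [zpow_add, mul_comm a', zpow_mul, hz2, one_zpow, one_mul, mul_comm b', zpow_mul, hi0, one_zpow]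
          rw [hz, hr1, one_zpow]
      · rcases Int.even_or_odd (α * i + β) with ⟨o, ho⟩ | ⟨o, ho⟩
        · rw [ho, ← two_mul, hv2j, mul_one] at e
          refine O.uV.2 (-i) ?_
          rw [e]; group
        · rw [ho, zpow_add, hv2j, one_mul, zpow_one, O.rvi] at e
          refine O.uV.1 ?_
          have e2 : r ^ i * u = 1 := mul_left_cancel (a := v) (by rw [mul_one, ← mul_assoc]; exact e.symm)
          rw [eq_inv_of_mul_eq_one_right e2]
          exact inv_mem (zpow_mem (mem_zpowers r) i)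
    obtain ⟨g, hg, -, hgM⟩ := h.transferA M O.four.vT hvM (fun x hx => by
      obtain ⟨i, e | e | e | e⟩ := O.form x hx
      all_goals rw [hMem, hMem]
      · rcases Int.even_or_odd (α * i) with ⟨o, ho⟩ | ⟨o, ho⟩
        · exact Or.inr ⟨i, Or.inl (by rw [e, ho, ← two_mul, hv2j, mul_one])⟩
        · exact Or.inl ⟨i, Or.inl (by rw [e, ho, zpow_add, hv2j, one_mul, zpow_one])⟩
      · rcases Int.even_or_odd (α * i) with ⟨o, ho⟩ | ⟨o, ho⟩
        · exact Or.inl ⟨i, Or.inl (by rw [e, ho, ← two_mul, hv2j, mul_assoc, O.four.v2])⟩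
        · exact Or.inr ⟨i, Or.inl (by rw [e, ho, zpow_add, hv2j, one_mul, zpow_one])⟩
      · rcases Int.even_or_odd (α * i + β) with ⟨o, ho⟩ | ⟨o, ho⟩
        · exact Or.inr ⟨i, Or.inr (by rw [e, ho, ← two_mul, hv2j, mul_one])⟩
        · exact Or.inl ⟨i, Or.inr (by rw [e, ho, zpow_add, hv2j, one_mul, zpow_one, mul_assoc, hc, ← mul_assoc])⟩
      · rcases Int.even_or_odd (α * i + β) with ⟨o, ho⟩ | ⟨o, ho⟩
        · refine Or.inl ⟨i, Or.inr ?_⟩
          rw [e, ho, ← two_mul, hv2j, mul_one, mul_assoc (r ^ i * v), hc,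
            show r ^ i * v * (v * u) = r ^ i * (v * v) * u by group, O.four.v2, mul_one]
        · exact Or.inr ⟨i, Or.inr (by rw [e, ho, zpow_add, hv2j, one_mul, zpow_one])⟩) hwT hw2
    have hy2 : g * w * g⁻¹ * (g * w * g⁻¹) = 1 := by
      rw [show g * w * g⁻¹ * (g * w * g⁻¹) = g * (w * w) * g⁻¹ by group, hw2]; group
    rcases (hMem _).mp hgM with ⟨i, e | e⟩
    · exfalso
      have hri : r ^ i = 1 ∨ r ^ i = z := by
        refine O.inv1 _ (zpow_mem (mem_zpowers r) i) ?_
        rw [e, show r ^ i * v ^ (α * i) * (r ^ i * v ^ (α * i)) = r ^ i * (v ^ (α * i) * r ^ i) * v ^ (α * i) by group,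
          (hvr.zpow_zpow (α * i) i).eq,
          show r ^ i * (r ^ i * v ^ (α * i)) * v ^ (α * i) = r ^ i * r ^ i * (v ^ (α * i) * v ^ (α * i)) by group,
          ← zpow_add v, ← two_mul, hv2j, mul_one] at hy2
        exact hy2
      -- the exponent is even
      obtain ⟨l, hl, hz⟩ := O.zr
      have hev : v ^ (α * i) = 1 := by
        rcases Int.even_or_odd i with ⟨o, rfl⟩ | ⟨o, ho⟩
        · rw [show α * (o + o) = 2 * (α * o) by ring, hv2j]
        · exfalso
          refine h.z1 ?_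
          have hz2 : r ^ ((2 : ℤ) ^ (l + 1)) = 1 := by rw [pow_succ, mul_comm, zpow_mul', zpow_two, ← hz, h.z2]
          obtain ⟨a', b', hab⟩ : IsCoprime ((2 : ℤ) ^ (l + 1)) i := IsCoprime.pow_left ⟨-o, 1, by rw [ho]; ring⟩
          have hrz : r = 1 ∨ r = z := by
            have hr1 : r = (r ^ i) ^ b' := by
              rw [← zpow_mul]
              calc r = r ^ (a' * 2 ^ (l + 1) + b' * i) := by rw [hab, zpow_one]
                _ = r ^ (i * b') := by rw [zpow_add, mul_comm a', zpow_mul, hz2, one_zpow, one_mul, mul_comm b']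
            rcases hri with e0 | e0 <;> rw [e0] at hr1
            · exact Or.inl (hr1.trans (one_zpow _))
            · rcases Int.even_or_odd b' with ⟨p, hp⟩ | ⟨p, hp⟩
              · exact Or.inl (by rw [hr1, hp, ← two_mul, zpow_mul, zpow_two, h.z2, one_zpow])
              · exact Or.inr (by rw [hr1, hp, zpow_add, zpow_mul, zpow_two, h.z2, one_zpow, one_mul, zpow_one])
          obtain ⟨l', rfl⟩ : ∃ l', l = l' + 1 := ⟨l - 1, by omega⟩
          rcases hrz with e0 | e0
          · rw [hz, e0, one_zpow]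
          · rw [hz, e0, pow_succ, mul_comm, zpow_mul, zpow_two, h.z2, one_zpow]
      rw [hev, mul_one] at e
      rcases hri with e0 | e0 <;> rw [e0] at e
      · exact hw1 (conj_eq_one_iff.mp e)
      · exact hwr g hg e
    · have f1 : Fus A w (r ^ i * v ^ (α * i + β) * u) := ⟨g, hg, e⟩
      have hs : ∀ (k : ℤ) (j : ℤ), v ^ k * u * r ^ j = r ^ (-j) * (v ^ k * u) := fun k j => by
        rw [mul_assoc, O.uri, ← mul_assoc, (hvr.zpow_zpow k (-j)).eq, mul_assoc]
      rcases Int.even_or_odd i with ⟨o, ho⟩ | ⟨o, ho⟩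
      · left
        refine f1.trans ?_
        have := O.fus_parity (hs (α * i + β)) i (-o)
        rw [show i + 2 * -o = (0 : ℤ) by rw [ho]; ring, zpow_zero, one_mul, ← mul_assoc] at this
        rwa [hvpar (α * i + β) β (by rw [ho, show α * (o + o) + β - β = 2 * (α * o) by ring, Int.mul_emod_right])] at this ⊢
      · right
        refine f1.trans ?_
        have := O.fus_parity (hs (α * i + β)) i (-o)
        rw [show i + 2 * -o = (1 : ℤ) by rw [ho]; ring, zpow_one, ← mul_assoc, ← mul_assoc] at this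
        rwa [hvpar (α * i + β) (α + β) (by
          rw [ho, show α * (2 * o + 1) + β - (α + β) = 2 * (α * o) by ring, Int.mul_emod_right])] at this ⊢
  have hv0 : v ^ (0 : ℤ) = 1 := zpow_zero v
  have hv1 : v ^ (1 : ℤ) = v := zpow_one v
  have hv2 : v ^ (1 + 1 : ℤ) = 1 := hv2j 1
  have k00 := key 0 0
  have k10 := key 1 0
  have k01 := key 0 1
  have k11 := key 1 1
  rw [zero_add, hv0, one_mul, mul_one] at k00
  rw [add_zero, hv0, hv1, one_mul] at k10
  rw [zero_add, hv1] at k01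
  rw [hv2, hv1, mul_one] at k11
  tauto

end CfsgLib.CyclicFourFixed
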