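import Cfsg.Agent.Lib.CyclicFourFixed.Out

/-!
S1914: an involution of `A ⊓ S` outside the four group: assembly.
-/

set_option autoImplicit false
set_option linter.unusedSectionVars false
set_option linter.style.haveILetI false

namespace CfsgLib.CyclicFourFixed

open Subgroup

universe u

variable {X : Type u} [Group X] [Finite X] {A : Subgroup X} {S : Sylow 2 X} {t c z v u r q : X}

theorem Outer.false_of (O : Outer A S t c z v u r q) : False := by
  have h := O.setup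
  have hvzT : InT A S (v * z) := ⟨mul_mem O.four.vT.1 h.zA, mul_mem O.four.vT.2 h.zS⟩
  rcases O.four.nrm u O.uT.2 with e | e <;> rw [O.u_inv] at e
  swap
  · by_cases hcen : ∀ a ∈ A, a * z = z * a
    · exact O.moved_central e hcen
    · exact O.moved_noncentral e hcen
  have hc : u * v = v * u := by
    calc u * v = u * v * u * u := by rw [mul_assoc (u * v), O.u2, mul_one]
      _ = v * u := by rw [e]
  have hvu : Commute v u := hc.symm
  by_cases hcen : ∀ a ∈ A, a * z = z * a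
  · have hru : u * r * u = r⁻¹ := O.ur
    have hvM : v ∉ dih O r u O.u2 hru := by
      rintro ⟨i, e0 | e0⟩
      · exact O.vr (e0 ▸ zpow_mem (mem_zpowers r) i)
      · exact O.uV.2 (-i) (by rw [e0]; group)
    obtain ⟨g, hg, -, i, hgi⟩ := h.transferA (dih O r u O.u2 hru) O.four.vT hvM (fun x hx => by
      obtain ⟨i, e0 | e0 | e0 | e0⟩ := O.form x hx
      · exact Or.inr ⟨i, Or.inl e0⟩
      · exact Or.inl ⟨i, Or.inl (by rw [e0, mul_assoc, O.four.v2, mul_one])⟩
      · exact Or.inr ⟨i, Or.inr e0⟩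
      · refine Or.inl ⟨i, Or.inr ?_⟩
        rw [e0, mul_assoc (r ^ i * v), hc, show r ^ i * v * (v * u) = r ^ i * (v * v) * u by group, O.four.v2,
          mul_one]) O.four.vT O.four.v2
    have hy2 : g * v * g⁻¹ * (g * v * g⁻¹) = 1 := by
      rw [show g * v * g⁻¹ * (g * v * g⁻¹) = g * (v * v) * g⁻¹ by group, O.four.v2]; group
    rcases hgi with e0 | e0
    · rcases O.inv1 _ (e0 ▸ zpow_mem (mem_zpowers r) i) hy2 with e1 | e1
      · exact O.four.v1 (conj_eq_one_iff.mp e1)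
      · refine O.four.vz ?_
        calc v = g⁻¹ * (g * v * g⁻¹) * g := by group
          _ = g⁻¹ * (z * g) := by rw [e1]; group
          _ = z := by rw [← hcen g hg]; group
    · have f1 : Fus A v (r ^ i * u) := ⟨g, hg, e0⟩
      have f2 : Fus A (v * z) (r ^ i * u * z) := ⟨g, hg, by
        rw [show g * (v * z) * g⁻¹ = g * v * g⁻¹ * (g * z * g⁻¹) by group, e0, hcen g hg, mul_inv_cancel_right]⟩
      obtain ⟨k, hk, hke⟩ := (f1.trans (O.fus_z O.uT O.qu i)).trans f2.symm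
      exact O.not_conj_vz hc hk hke
  · have hvc : ∀ x, InT A S x → x * v = v * x := fun x hx => O.v_central hc hx
    have hvzc : ∀ x, InT A S x → x * (v * z) = v * z * x := fun x hx => by
      rw [← mul_assoc, hvc x hx, mul_assoc, O.zcomm hx, ← mul_assoc]
    have hvzz : z ≠ v * z := fun e0 => O.four.v1 (mul_eq_right.mp e0.symm)
    have nzv : ∀ {w : X}, (w = v ∨ w = v * z) → ¬ Fus A z w := by
      rintro w (rfl | rfl) ⟨g, hg, e0⟩
      · exact O.not_conj_z hc O.four.vT hvc O.four.vz.symm hg e0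
      · exact O.not_conj_z hc hvzT hvzc hvzz hg e0
    have h1 := O.class_half hc (Or.inl rfl) fun g hg e0 => nzv (Or.inl rfl) (Fus.symm ⟨g, hg, e0⟩)
    have h2 := O.class_half hc (Or.inr rfl) fun g hg e0 => nzv (Or.inr rfl) (Fus.symm ⟨g, hg, e0⟩)
    have nvv : ¬ Fus A v (v * z) := fun ⟨g, hg, e0⟩ => O.not_conj_vz hc hg e0
    have hrep : ∀ s, (s = u ∨ s = v * u ∨ s = r * u ∨ s = r * v * u) → ¬ Fus A z s := by
      intro s hs f
      rcases h1 with ⟨a, b⟩ | ⟨a, b⟩ <;> rcases h2 with ⟨a', b'⟩ | ⟨a', b'⟩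
      · exact nvv (a.trans a'.symm)
      · rcases hs with rfl | rfl | rfl | rfl
        exacts [nzv (Or.inl rfl) (f.trans a.symm), nzv (Or.inl rfl) (f.trans b.symm),
          nzv (Or.inr rfl) (f.trans a'.symm), nzv (Or.inr rfl) (f.trans b'.symm)]
      · rcases hs with rfl | rfl | rfl | rfl
        exacts [nzv (Or.inr rfl) (f.trans a'.symm), nzv (Or.inr rfl) (f.trans b'.symm),
          nzv (Or.inl rfl) (f.trans a.symm), nzv (Or.inl rfl) (f.trans b.symm)]
      · exact nvv (a.trans a'.symm)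
    obtain ⟨g, hg, hgT, hne⟩ := h.other hcen
    have hy2 : g * z * g⁻¹ * (g * z * g⁻¹) = 1 := by
      rw [show g * z * g⁻¹ * (g * z * g⁻¹) = g * (z * z) * g⁻¹ by group, h.z2]; group
    have fz : Fus A z (g * z * g⁻¹) := ⟨g, hg, rfl⟩
    obtain ⟨i, e0 | e0 | e0 | e0⟩ := O.form _ hgT
    · exact hne ((O.inv1 _ (e0 ▸ zpow_mem (mem_zpowers r) i) hy2).resolve_left fun e1 => h.z1 (conj_eq_one_iff.mp e1))
    · rcases O.inv_rv i (e0 ▸ hy2) with e1 | e1
      · exact nzv (Or.inl rfl) (e1 ▸ e0 ▸ fz)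
      · exact nzv (Or.inr rfl) (e1 ▸ e0 ▸ fz)
    · rw [e0] at fz
      rcases Int.even_or_odd i with ⟨o, ho⟩ | ⟨o, ho⟩
      · have f := fz.trans (O.fus_parity (fun j => O.uri j) i (-o))
        rw [show i + 2 * -o = (0 : ℤ) by rw [ho]; ring, zpow_zero, one_mul] at f
        exact hrep u (Or.inl rfl) f
      · have f := fz.trans (O.fus_parity (fun j => O.uri j) i (-o))
        rw [show i + 2 * -o = (1 : ℤ) by rw [ho]; ring, zpow_one] at f
        exact hrep _ (Or.inr (Or.inr (Or.inl rfl))) f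
    · have hs : ∀ j : ℤ, v * u * r ^ j = r ^ (-j) * (v * u) := fun j => by
        rw [mul_assoc, O.uri, ← mul_assoc, ← O.rvi, mul_assoc]
      rw [e0, mul_assoc] at fz
      rcases Int.even_or_odd i with ⟨o, ho⟩ | ⟨o, ho⟩
      · have f := fz.trans (O.fus_parity hs i (-o))
        rw [show i + 2 * -o = (0 : ℤ) by rw [ho]; ring, zpow_zero, one_mul] at f
        exact hrep _ (Or.inr (Or.inl rfl)) f
      · have f := fz.trans (O.fus_parity hs i (-o))
        rw [show i + 2 * -o = (1 : ℤ) by rw [ho]; ring, zpow_one, ← mul_assoc] at f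
        exact hrep _ (Or.inr (Or.inr (Or.inr rfl))) f

/-- **No involution of `A ⊓ S` outside the four group.** -/
theorem Four.false_of_out (h : Setup A S t c z) (F : Four A S z v) (huT : InT A S u) (hu2 : u * u = 1)
    (hu : ¬ InV z v u) : False := by
  classical
  haveI : Fact (Nat.Prime 2) := ⟨Nat.prime_two⟩
  haveI := Four.vnormal h F
  set V := vGroup h F with hV
  obtain ⟨r, Rr⟩ := Four.exists_rot h F
  have hui : u⁻¹ = u := inv_eq_of_mul_eq_one_left hu2
  have hti := h.t_inv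
  set k := t * u * t with hk
  have hkT : InT A S k := h.tconj huT
  have hk2 : k * k = 1 := by rw [hk, ← tmul h.t2, hu2, mul_one, h.t2]
  have hkV : ¬ InV z v k := fun e => hu (by
    have := Four.conjV h F h.tS e
    rwa [hti, tinvol h.t2] at this)
  have outR : ∀ x, InT A S x → x * x = 1 → ¬ InV z v x → ¬ InR z v r x := by
    intro x hx hx2 hxV hR
    rcases Rr.invol x hR (Or.inl hx2) with e | e
    · exact hxV e
    · have hcw : Commute c (c⁻¹ * x) := by
        have hcv : Commute c v := Four.cv h F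
        have hcz : Commute c z := h.zc c h.cS
        rcases e with e0 | e0 | e0 | e0 <;> rw [e0]
        exacts [Commute.one_right _, hcz, hcv, hcv.mul_right hcz]
      apply h.z1
      calc z = c * c * (c⁻¹ * x * (c⁻¹ * x)) := by rw [e.sq h F, mul_one, h.cz]
        _ = c * (c * (c⁻¹ * x)) * (c⁻¹ * x) := by group
        _ = c * (c⁻¹ * x * c) * (c⁻¹ * x) := by rw [hcw.eq]
        _ = x * x := by group
        _ = 1 := hx2
  set r0 := u * k with hr0
  have hr0T : InT A S r0 := ⟨mul_mem huT.1 hkT.1, mul_mem huT.2 hkT.2⟩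
  have hr0R : InR z v r r0 := Rr.index u k huT hkT (outR u huT hu2 hu) (outR k hkT hk2 hkV)
  have ht0 : t * r0 * t = r0⁻¹ := by
    rw [hr0, tmul h.t2, hk, tinvol h.t2, mul_inv_rev, hui, inv_eq_of_mul_eq_one_left (hk ▸ hk2)]
  have hu0 : u * r0 * u = r0⁻¹ := by
    rw [hr0, mul_inv_rev, hui, inv_eq_of_mul_eq_one_left hk2, ← mul_assoc, hu2, one_mul]
  have hr0v : r0 * v = v * r0 := by
    have hzu : u * z * u = z := by rw [h.zc u huT.2, mul_assoc, hu2, mul_one]
    have hkv : k * v * k = u * v * u := by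
      rw [show k * v * k = t * (u * (t * v * t) * u) * t by rw [hk]; group, Four.vt h F,
        show u * (v * z) * u = u * v * (u * u) * z * u by rw [hu2, mul_one]; group,
        show u * v * (u * u) * z * u = u * v * u * (u * z * u) by group, hzu]
      rcases F.nrm u huT.2 with e | e <;> rw [hui] at e <;> rw [e]
      · rw [tmul h.t2, Four.vt h F, ← h.zt, mul_assoc z, h.t2, mul_one, mul_assoc, h.z2, mul_one]
      · rw [mul_assoc v, h.z2, mul_one, Four.vt h F]
    calc r0 * v = u * (k * v * k) * u * r0 := by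
          rw [hr0, show u * (k * v * k) * u * (u * k) = u * (k * v * k) * (u * u) * k by group, hu2, mul_one,
            show u * (k * v * k) * k = u * k * v * (k * k) by group, hk2, mul_one]
      _ = v * r0 := by rw [hkv, show u * (u * v * u) * u = u * u * v * (u * u) by group, hu2, one_mul, mul_one]
  -- congruences modulo `V`
  let π := QuotientGroup.mk' V
  let rS : (S : Subgroup X) := ⟨r, Rr.rT.2⟩
  let tS : (S : Subgroup X) := ⟨t, h.tS⟩
  let uS : (S : Subgroup X) := ⟨u, huT.2⟩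
  let r0S : (S : Subgroup X) := ⟨r0, hr0T.2⟩
  have heq : ∀ a b : (S : Subgroup X), π a = π b ↔ InV z v ((a : X)⁻¹ * b) := fun a b =>
    (QuotientGroup.eq (s := V))
  have hone : ∀ a : (S : Subgroup X), π a = 1 ↔ InV z v (a : X) := fun a => QuotientGroup.eq_one_iff a
  have hofR : ∀ x : (S : Subgroup X), InR z v r (x : X) ↔ ∃ i : ℤ, π rS ^ i = π x := fun x => by
    constructor
    · rintro ⟨i, hi⟩
      exact ⟨i, by rw [← map_zpow]; exact (heq _ x).mpr hi⟩
    · rintro ⟨i, hi⟩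
      rw [← map_zpow] at hi
      exact ⟨i, (heq _ x).mp hi⟩
  obtain ⟨j, hj⟩ := (hofR r0S).mp hr0R
  obtain ⟨a, ha⟩ := (hofR (tS * rS * tS)).mp Rr.tR
  obtain ⟨N, hN⟩ := IsPGroup.iff_orderOf.mp (S.2.to_quotient V) (π rS)
  have hord : ∀ i : ℤ, π rS ^ i = 1 ↔ (2 : ℤ) ^ N ∣ i := fun i => by
    rw [← orderOf_dvd_iff_zpow_eq_one, hN]; push_cast; rfl
  obtain ⟨K, rfl⟩ : ∃ K, N = K + 1 := ⟨N - 1, by
    rcases Nat.eq_zero_or_pos N with h0 | h0
    · exfalso
      obtain ⟨i, hi⟩ := (hofR ⟨c, h.cS⟩).mp Rr.cR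
      rw [(hord i).mpr (by rw [h0, pow_zero]; exact one_dvd i)] at hi
      exact Four.c_not h F ((hone ⟨c, h.cS⟩).mp hi.symm)
    · omega⟩
  have ha_conj : ∀ i : ℤ, π tS * π rS ^ i * π tS = π rS ^ (a * i) := fun i => by
    have e1 : (π tS)⁻¹ = π tS := by rw [← map_inv]; exact congrArg π (Subtype.ext hti)
    rw [zpow_mul, ha, map_mul, map_mul]
    have := (_root_.conj_zpow (a := π tS) (b := π rS) (i := i)).symm
    rwa [e1] at this
  have hfix : ∀ i : ℤ, (2 : ℤ) ^ (K + 1) ∣ (a - 1) * i → (2 : ℤ) ^ (K + 1) ∣ i + i := by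
    intro i hi
    have e1 : π tS * π (rS ^ i) * π tS = π (rS ^ i) := by
      rw [map_zpow, ha_conj, ← mul_inv_eq_one, ← zpow_neg, ← zpow_add, hord]
      rwa [show a * i + -i = (a - 1) * i by ring]
    rw [← map_mul, ← map_mul] at e1
    have hd : InV z v ((r ^ i)⁻¹ * (t * r ^ i * t)) := by
      have := (heq (rS ^ i) (tS * rS ^ i * tS)).mp e1.symm
      simpa [rS, tS] using this
    have hiT : InT A S (r ^ i) := ⟨zpow_mem Rr.rT.1 i, zpow_mem Rr.rT.2 i⟩
    rw [← hord, zpow_add, ← map_zpow, ← map_mul, hone]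
    show InV z v (((rS ^ i * rS ^ i : (S : Subgroup X))) : X)
    rw [Subgroup.coe_mul, SubgroupClass.coe_zpow]
    rcases Four.fixed_mod h F hiT hd with e | e
    · exact Or.inl (e.sq h F)
    · have hcw : Commute c (c⁻¹ * r ^ i) := by
        have hcv : Commute c v := Four.cv h F
        have hcz : Commute c z := h.zc c h.cS
        rcases e with e0 | e0 | e0 | e0 <;> rw [e0]
        exacts [Commute.one_right _, hcz, hcv, hcv.mul_right hcz]
      refine Or.inr (Or.inl ?_)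
      calc r ^ i * r ^ i = c * (c⁻¹ * r ^ i * c) * (c⁻¹ * r ^ i) := by group
        _ = c * (c * (c⁻¹ * r ^ i)) * (c⁻¹ * r ^ i) := by rw [hcw.eq]
        _ = c * c * (c⁻¹ * r ^ i * (c⁻¹ * r ^ i)) := by group
        _ = z := by rw [e.sq h F, mul_one, h.cz]
  -- `j` is odd
  obtain ⟨j', hj'⟩ : ∃ j', j = 2 * j' + 1 := by
    rcases Int.even_or_odd j with ⟨p, hp⟩ | hp
    swap
    · exact hp
    exfalso
    -- a solution of `j + (a - 1) i ≡ 0`
    obtain ⟨i, hi⟩ : ∃ i : ℤ, (2 : ℤ) ^ (K + 1) ∣ j + (a - 1) * i := by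
      rcases Nat.eq_zero_or_pos K with rfl | hK
      · exact ⟨0, by rw [hp, mul_zero, add_zero]; exact ⟨p, by ring⟩⟩
      obtain ⟨L, rfl⟩ : ∃ L, K = L + 1 := ⟨K - 1, by omega⟩
      have hP : (2 : ℤ) ^ (L + 1 + 1) = 4 * 2 ^ L := by ring
      have haodd : ∃ b, a = 2 * b + 1 := by
        rcases Int.even_or_odd a with ⟨b, hb⟩ | hb
        · exfalso
          have e1 : π rS ^ (a * a) = π rS ^ (1 : ℤ) := by
            rw [← ha_conj, ← mul_one a, ← ha_conj, zpow_one,
              show π tS * (π tS * π rS * π tS) * π tS = π tS * π tS * π rS * (π tS * π tS) by group,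
              show π tS * π tS = 1 by rw [← map_mul, ← map_one π]; exact congrArg π (Subtype.ext h.t2), one_mul, mul_one]
          rw [← mul_inv_eq_one, ← zpow_neg, ← zpow_add, hord] at e1
          obtain ⟨o, ho⟩ := e1
          rw [hb, hP] at ho
          have : (2 : ℤ) ∣ 1 := ⟨2 * b * b - 2 * 2 ^ L * o, by linarith⟩
          norm_num at this
        · exact hb
      obtain ⟨b, hb⟩ := haodd
      obtain ⟨b', hb'⟩ : ∃ b', b = 2 * b' + 1 := by
        rcases Int.even_or_odd b with ⟨b', hb'⟩ | h'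
        · exfalso
          obtain ⟨o, ho⟩ := hfix ((2 : ℤ) ^ L) ⟨b', by rw [hb, hb', hP]; ring⟩
          rw [hP] at ho
          have : (1 : ℤ) = 2 * o := mul_left_cancel₀ (show (2 : ℤ) ^ L ≠ 0 by positivity) (by linarith)
          omega
        · exact h'
      obtain ⟨x, y, hxy⟩ : IsCoprime ((2 : ℤ) ^ (L + 1)) b := IsCoprime.pow_left ⟨-b', 1, by rw [hb']; ring⟩
      refine ⟨-p * y, p * x, ?_⟩
      rw [hb, hp, show (2 : ℤ) ^ (L + 1 + 1) = 2 * 2 ^ (L + 1) by ring]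
      linear_combination (-2 * p) * hxy
    -- then `u r ^ i` is fixed modulo `V`
    set x : (S : Subgroup X) := uS * rS ^ i with hx
    have hxX : (x : X) = u * r ^ i := by rw [hx, Subgroup.coe_mul, SubgroupClass.coe_zpow]
    have e1 : π tS * π x * π tS = π x := by
      have htt : π tS * π tS = 1 := by rw [← map_mul, ← map_one π]; exact congrArg π (Subtype.ext h.t2)
      have e2 : π tS * π uS * π tS = π uS * π rS ^ j := by
        rw [hj, ← map_mul, ← map_mul, ← map_mul]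
        refine congrArg π (Subtype.ext ?_)
        show t * u * t = u * r0
        rw [hr0, ← hk, ← mul_assoc, hu2, one_mul]
      calc π tS * π x * π tS = π tS * π uS * π tS * (π tS * π rS ^ i * π tS) := by
            rw [hx, map_mul, map_zpow, show π tS * π uS * π tS * (π tS * π rS ^ i * π tS) =
              π tS * π uS * (π tS * π tS) * π rS ^ i * π tS by group, htt, mul_one]
            group
        _ = π uS * π rS ^ (j + a * i) := by rw [e2, ha_conj, zpow_add]; group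
        _ = π x := by
          rw [hx, map_mul, map_zpow, mul_right_inj, ← mul_inv_eq_one, ← zpow_neg, ← zpow_add, hord]
          rwa [show j + a * i + -i = j + (a - 1) * i by ring]
    rw [← map_mul, ← map_mul] at e1
    have hd : InV z v ((u * r ^ i)⁻¹ * (t * (u * r ^ i) * t)) := by
      have := (heq x (tS * x * tS)).mp e1.symm
      simpa [hxX, tS] using this
    have hiT : InT A S (u * r ^ i) := ⟨mul_mem huT.1 (zpow_mem Rr.rT.1 i), mul_mem huT.2 (zpow_mem Rr.rT.2 i)⟩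
    apply outR u huT hu2 hu
    have hxR : ∃ l : ℤ, π rS ^ l = π x := by
      rcases Four.fixed_mod h F hiT hd with e | e
      · exact ⟨0, by rw [zpow_zero, eq_comm, hone, hxX]; exact e⟩
      · obtain ⟨l, hl⟩ := (hofR ⟨c, h.cS⟩).mp Rr.cR
        refine ⟨l, hl.trans ((heq _ x).mpr ?_)⟩
        rw [hxX]; exact e
    obtain ⟨l, hl⟩ := hxR
    refine (hofR uS).mpr ⟨l - i, ?_⟩
    rw [zpow_sub, hl, hx, map_mul, map_zpow, mul_inv_cancel_right]
  -- `r` is a power of `r0` modulo `V`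
  obtain ⟨l, hl⟩ : ∃ l : ℤ, π r0S ^ l = π rS := by
    obtain ⟨x, y, hxy⟩ : IsCoprime ((2 : ℤ) ^ (K + 1)) j := IsCoprime.pow_left ⟨-j', 1, by rw [hj']; ring⟩
    refine ⟨y, ?_⟩
    rw [← hj, ← zpow_mul]
    nth_rw 2 [← zpow_one (π rS)]
    rw [← mul_inv_eq_one, ← zpow_neg, ← zpow_add, hord]
    exact ⟨-x, by linarith⟩
  -- the order of `r0`
  obtain ⟨M, hM⟩ := IsPGroup.iff_orderOf.mp S.2 r0S
  have hM' : orderOf r0 = 2 ^ M := by rw [← hM]; exact Subgroup.orderOf_coe r0S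
  have hord0 : ∀ i : ℤ, r0 ^ i = 1 ↔ (2 : ℤ) ^ M ∣ i := fun i => by
    rw [← orderOf_dvd_iff_zpow_eq_one, hM']; push_cast; rfl
  have hr0V : ¬ InV z v r0 := fun e => by
    rw [(hone r0S).mpr e, one_zpow] at hl
    obtain ⟨i, hi⟩ := (hofR ⟨c, h.cS⟩).mp Rr.cR
    rw [← hl, one_zpow] at hi
    exact Four.c_not h F ((hone ⟨c, h.cS⟩).mp hi.symm)
  obtain ⟨M', rfl⟩ : ∃ M', M = M' + 1 := ⟨M - 1, by
    rcases Nat.eq_zero_or_pos M with h0 | h0
    · exact absurd (Or.inl (orderOf_eq_one_iff.mp (by rw [hM', h0, pow_zero]))) hr0V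
    · omega⟩
  have hzpow : ∀ i : ℤ, r0 ^ (i + i) = 1 → r0 ^ i = 1 ∨ r0 ^ i = r0 ^ ((2 : ℤ) ^ M') := by
    intro i hi
    obtain ⟨o, ho⟩ := (hord0 _).mp hi
    have hP : (2 : ℤ) ^ (M' + 1) = 2 * 2 ^ M' := by ring
    rw [hP] at ho
    rcases Int.even_or_odd o with ⟨p, hp⟩ | ⟨p, hp⟩
    · exact Or.inl ((hord0 i).mpr ⟨p, by rw [hp] at ho; rw [hP]; linarith⟩)
    · refine Or.inr ?_
      rw [← mul_inv_eq_one, ← zpow_neg, ← zpow_add, hord0, hP]
      exact ⟨p, by rw [hp] at ho; linarith⟩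
  have hm2 : r0 ^ ((2 : ℤ) ^ M') * r0 ^ ((2 : ℤ) ^ M') = 1 := by
    rw [← zpow_add, hord0]; exact ⟨1, by ring⟩
  have hzr : z = r0 ^ ((2 : ℤ) ^ M') := by
    have hmT : InT A S (r0 ^ ((2 : ℤ) ^ M')) := ⟨zpow_mem hr0T.1 _, zpow_mem hr0T.2 _⟩
    have hmt : r0 ^ ((2 : ℤ) ^ M') * t = t * r0 ^ ((2 : ℤ) ^ M') := by
      have e2 : t * r0 ^ ((2 : ℤ) ^ M') * t = r0 ^ ((2 : ℤ) ^ M') := by
        rw [tzpow h.t2, ht0, inv_zpow]; exact inv_eq_of_mul_eq_one_left hm2
      calc r0 ^ ((2 : ℤ) ^ M') * t = t * r0 ^ ((2 : ℤ) ^ M') * t * t := by rw [e2]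
        _ = t * r0 ^ ((2 : ℤ) ^ M') := by rw [mul_assoc _ t t, h.t2, mul_one]
    rcases h.inv_fixed hmT hm2 hmt with e | e
    · exfalso
      have := Int.le_of_dvd (by positivity) ((hord0 _).mp e)
      have : (2 : ℤ) ^ (M' + 1) = 2 * 2 ^ M' := by ring
      have : (0 : ℤ) < 2 ^ M' := by positivity
      linarith
    · exact e.symm
  obtain ⟨M'', rfl⟩ : ∃ M'', M' = M'' + 1 := ⟨M' - 1, by
    rcases Nat.eq_zero_or_pos M' with h0 | h0
    · rw [h0, pow_zero, zpow_one] at hzr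
      exact absurd (Or.inr (Or.inl hzr.symm)) hr0V
    · omega⟩
  have hinv1 : ∀ x ∈ zpowers r0, x * x = 1 → x = 1 ∨ x = z := by
    intro x hx hx2
    obtain ⟨i, rfl⟩ := mem_zpowers_iff.mp hx
    rw [hzr]
    exact hzpow i (by rw [zpow_add]; exact hx2)
  have hvr : v ∉ zpowers r0 := fun hm => (hinv1 v hm F.v2).elim F.v1 F.vz
  have hRmem : ∀ (i : ℤ) {w : X}, InV z v w → InR z v r (r0 ^ i * w) := by
    intro i w hw
    refine (hofR ⟨r0 ^ i * w, mul_mem (zpow_mem hr0T.2 i) (hw.inT h F).2⟩).mpr ⟨j * i, ?_⟩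
    rw [zpow_mul, hj, ← map_zpow]
    refine (heq _ _).mpr ?_
    rw [SubgroupClass.coe_zpow, show ((r0S : X) ^ i)⁻¹ * (r0 ^ i * w) = w by simp [r0S]]
    exact hw
  have huV : u ∉ zpowers r0 ∧ ∀ i : ℤ, u ≠ r0 ^ i * v := by
    refine ⟨fun hm => ?_, fun i e => outR u huT hu2 hu (e ▸ hRmem i (Or.inr (Or.inr (Or.inl rfl))))⟩
    obtain ⟨i, hi⟩ := mem_zpowers_iff.mp hm
    exact outR u huT hu2 hu (by rw [← hi, ← mul_one (r0 ^ i)]; exact hRmem i (Or.inl rfl))
  have hRform : ∀ x, InT A S x → InR z v r x → ∃ i : ℤ, x = r0 ^ i ∨ x = r0 ^ i * v := by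
    intro x hx hxR
    obtain ⟨i, hi⟩ := (hofR ⟨x, hx.2⟩).mp hxR
    rw [← hl, ← zpow_mul, ← map_zpow] at hi
    have hw := (heq _ _).mp hi
    rw [SubgroupClass.coe_zpow] at hw
    change InV z v ((r0 ^ (l * i))⁻¹ * x) at hw
    rcases hw with e | e | e | e
    · exact ⟨l * i, Or.inl (inv_mul_eq_one.mp e).symm⟩
    · refine ⟨l * i + 2 ^ (M'' + 1), Or.inl ?_⟩
      rw [zpow_add, ← hzr]
      exact inv_mul_eq_iff_eq_mul.mp e
    · exact ⟨l * i, Or.inr (inv_mul_eq_iff_eq_mul.mp e)⟩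
    · refine ⟨l * i + 2 ^ (M'' + 1), Or.inr ?_⟩
      rw [zpow_add, ← hzr, inv_mul_eq_iff_eq_mul.mp e, mul_assoc _ z v, ← h.zc v F.vT.2]
  refine (Outer.false_of (q := r0 ^ ((2 : ℤ) ^ M'')) (r := r0)
    { setup := h
      four := F
      uT := huT
      u2 := hu2
      rT := hr0T
      rv := hr0v
      ur := hu0
      uV := huV
      vr := hvr
      qr := zpow_mem (mem_zpowers r0) _
      q2 := by rw [hzr, ← zpow_add]; congr 1; ring
      inv1 := hinv1
      zr := ⟨M'' + 1, by omega, hzr⟩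
      form := fun x hx => ?_ })
  by_cases hxR : InR z v r x
  · obtain ⟨i, e | e⟩ := hRform x hx hxR
    · exact ⟨i, Or.inl e⟩
    · exact ⟨i, Or.inr (Or.inl e)⟩
  · obtain ⟨i, e | e⟩ := hRform (x * u) ⟨mul_mem hx.1 huT.1, mul_mem hx.2 huT.2⟩
      (Rr.index x u hx huT hxR (outR u huT hu2 hu))
    · exact ⟨i, Or.inr (Or.inr (Or.inl (by rw [← e, mul_assoc, hu2, mul_one])))⟩
    · exact ⟨i, Or.inr (Or.inr (Or.inr (by rw [← e, mul_assoc, hu2, mul_one])))⟩

end CfsgLib.CyclicFourFixed
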