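import Cfsg.Agent.Lib.CyclicFourFixed.Basic
import Cfsg.Agent.Lib.Elementary

/-!
The setting of S1914: a perfect normal subgroup `A` of index at most two, an involution `t` outside it, a Sylow
two-subgroup containing `t` in which the centraliser of `t` in `A` is cyclic of order four, generated by `c`; `z = c²`.
-/

set_option autoImplicit false
set_option linter.unusedSectionVars false
set_option linter.style.haveILetI false

namespace CfsgLib.CyclicFourFixed

open Subgroup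

universe u

variable {X : Type u} [Group X] [Finite X]

/-- The setting. -/
structure Setup (A : Subgroup X) (S : Sylow 2 X) (t c z : X) : Prop where
  nrm : A.Normal
  perf : commutator A = ⊤
  sol : ∀ N : Subgroup A, N.Normal → Group.IsSolvable N → N ≤ center A
  tA : t ∉ A
  t2 : t * t = 1
  split : ∀ x : X, x ∈ A ∨ x * t ∈ A
  tS : t ∈ (S : Subgroup X)
  cA : c ∈ A
  cS : c ∈ (S : Subgroup X)
  cz : c * c = z
  z1 : z ≠ 1
  z2 : z * z = 1
  ct : c * t = t * c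
  fixed : ∀ x ∈ A, x ∈ (S : Subgroup X) → x * t = t * x → x = 1 ∨ x = c ∨ x = z ∨ x = z * c
  noFour : ∀ a ∈ A, ∀ b ∈ A, a * a = 1 → b * b = 1 → a ≠ 1 → b ≠ 1 → a * b = b * a → a * t = t * a → b * t = t * b →
    a = b

/-- Membership in the Sylow subgroup `A ⊓ S` of `A`. -/
def InT (A : Subgroup X) (S : Sylow 2 X) (x : X) : Prop := x ∈ A ∧ x ∈ (S : Subgroup X)

variable {A : Subgroup X} {S : Sylow 2 X} {t c z : X} (h : Setup A S t c z)
include h

theorem Setup.t_inv : t⁻¹ = t := inv_eq_of_mul_eq_one_left h.t2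

theorem Setup.zA : z ∈ A := h.cz ▸ mul_mem h.cA h.cA

theorem Setup.zS : z ∈ (S : Subgroup X) := h.cz ▸ mul_mem h.cS h.cS

theorem Setup.zT : InT A S z := ⟨h.zA, h.zS⟩

theorem Setup.zt : z * t = t * z := by
  rw [← h.cz, mul_assoc, h.ct, ← mul_assoc, h.ct, mul_assoc]

theorem Setup.tconj {x : X} (hx : InT A S x) : InT A S (t * x * t) := by
  refine ⟨?_, mul_mem (mul_mem h.tS hx.2) h.tS⟩
  have e := h.nrm.conj_mem x hx.1 t
  rwa [h.t_inv] at e

theorem Setup.inv_fixed {x : X} (hx : InT A S x) (hx2 : x * x = 1) (hxt : x * t = t * x) : x = 1 ∨ x = z := by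
  rcases h.fixed x hx.1 hx.2 hxt with e | e | e | e
  · exact Or.inl e
  · exact absurd (h.cz.symm.trans (e ▸ hx2)) h.z1
  · exact Or.inr e
  · refine absurd ?_ h.z1
    have hcz : c * z = z * c := by rw [← h.cz, mul_assoc]
    rw [e, show z * c * (z * c) = z * (c * z) * c by group, hcz, show z * (z * c) * c = z * z * (c * c) by group,
      h.z2, h.cz, one_mul] at hx2
    exact hx2

theorem Setup.zc : ∀ s ∈ (S : Subgroup X), s * z = z * s := by
  haveI : Fact (Nat.Prime 2) := ⟨Nat.prime_two⟩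
  haveI := h.nrm
  haveI : Group.IsNilpotent (S : Subgroup X) := S.2.isNilpotent
  set N := A.subgroupOf (S : Subgroup X) with hN
  have hN1 : N ≠ ⊥ := fun e => h.z1 (by
    have : (⟨z, h.zS⟩ : (S : Subgroup X)) ∈ N := h.zA
    rw [e, mem_bot] at this
    exact congrArg Subtype.val this)
  obtain ⟨w, hwN, hw2, hwc⟩ : ∃ w ∈ N, orderOf w = 2 ∧ w ∈ center (S : Subgroup X) := by
    haveI : (A.subgroupOf (S : Subgroup X)).Normal := inferInstance
    have hne : N ⊓ center (S : Subgroup X) ≠ ⊥ := CfsgLib.inf_center_ne_bot_of_nilpotent hN1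
    haveI : Nontrivial ↥(N ⊓ center (S : Subgroup X)) := (nontrivial_iff_ne_bot _).mpr hne
    obtain ⟨k, hk⟩ := (S.2.to_subgroup (N ⊓ center (S : Subgroup X))).exists_card_eq
    have h2 : 2 ∣ Nat.card ↥(N ⊓ center (S : Subgroup X)) := by
      have := Finite.one_lt_card (α := ↥(N ⊓ center (S : Subgroup X)))
      rw [hk] at this ⊢
      exact dvd_pow_self 2 (by rintro rfl; norm_num at this)
    obtain ⟨w, hw⟩ := exists_prime_orderOf_dvd_card' 2 h2
    exact ⟨w.1, w.2.1, (Subgroup.orderOf_coe w).trans hw, w.2.2⟩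
  have hwX : (w : X) * w = 1 := congrArg Subtype.val (show w * w = 1 by rw [← pow_two]; exact (orderOf_eq_prime_iff.mp hw2).1)
  have hwt : (w : X) * t = t * w := (congrArg Subtype.val (mem_center_iff.mp hwc ⟨t, h.tS⟩)).symm
  rcases h.inv_fixed ⟨hwN, w.2⟩ hwX hwt with e | e
  · exact absurd (Subtype.ext e) (orderOf_eq_prime_iff.mp hw2).2
  · intro s hs
    rw [← e]
    exact congrArg Subtype.val (mem_center_iff.mp hwc ⟨s, hs⟩)

omit h in
/-- The Sylow subgroup `A ⊓ S` of `A`. -/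
noncomputable def sylowA (hA : A.Normal) (S : Sylow 2 X) : Sylow 2 A :=
  haveI : Fact (Nat.Prime 2) := ⟨Nat.prime_two⟩
  haveI := hA
  CfsgLib.sylowInfNormal S A

omit h in
theorem mem_sylowA {hA : A.Normal} {x : A} : x ∈ (sylowA hA S : Subgroup A) ↔ (x : X) ∈ (S : Subgroup X) := Iff.rfl

/-- Central in `A`. -/
theorem Setup.center_iff {x : X} (hx : x ∈ A) : (⟨x, hx⟩ : A) ∈ center A ↔ ∀ a ∈ A, a * x = x * a :=
  ⟨fun hc a ha => congrArg Subtype.val (mem_center_iff.mp hc ⟨a, ha⟩),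
    fun hc => mem_center_iff.mpr fun a => Subtype.ext (hc a a.2)⟩

theorem Setup.other (hnc : ¬ ∀ a ∈ A, a * z = z * a) : ∃ g ∈ A, InT A S (g * z * g⁻¹) ∧ g * z * g⁻¹ ≠ z := by
  obtain ⟨g, hg, hne⟩ := exists_other_conj h.perf h.sol (sylowA h.nrm S) (z := ⟨z, h.zA⟩) (Subtype.ext h.z2)
    (fun e => h.z1 (congrArg Subtype.val e)) (fun p hp => Subtype.ext (h.zc _ hp))
    (fun e => hnc ((h.center_iff h.zA).mp e))
  exact ⟨g, g.2, ⟨(g * ⟨z, h.zA⟩ * g⁻¹ : A).2, hg⟩, fun e => hne (Subtype.ext e)⟩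

/-- The square trick inside `A`. -/
theorem Setup.squareA (hsq : ∀ x, InT A S x → x * x * (x * x) = 1 → x * x ≠ 1 → x * x = z) {g w : X} (hg : g ∈ A)
    (hwA : w ∈ A) (hw : w * (g * z * g⁻¹) = g * z * g⁻¹ * w) (hw2 : w * w = z) : g * z * g⁻¹ = z :=
  congrArg Subtype.val (eq_of_square (sylowA h.nrm S) (z := ⟨z, h.zA⟩) (g := ⟨g, hg⟩) (w := ⟨w, hwA⟩)
    (Subtype.ext h.z2) (fun e => h.z1 (congrArg Subtype.val e)) (fun p hp => Subtype.ext (h.zc _ hp))
    (fun p hp e1 e2 => Subtype.ext (hsq p ⟨p.2, hp⟩ (congrArg Subtype.val e1) fun e => e2 (Subtype.ext e)))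
    (Subtype.ext hw) (Subtype.ext hw2))

/-- The square trick in the whole group. -/
theorem Setup.squareX (hsq : ∀ x ∈ (S : Subgroup X), x * x * (x * x) = 1 → x * x ≠ 1 → x * x = z) {g w : X}
    (hw : w * (g * z * g⁻¹) = g * z * g⁻¹ * w) (hw2 : w * w = z) : g * z * g⁻¹ = z :=
  eq_of_square S h.z2 h.z1 h.zc hsq hw hw2

/-- Thompson's transfer in `A`, with a subgroup of index two given by elements. -/
theorem Setup.transferA (M : Subgroup X) {r : X} (hr : InT A S r) (hrM : r ∉ M)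
    (hM : ∀ x, InT A S x → x * r ∈ M ∨ x ∈ M) {u : X} (hu : InT A S u) (hu2 : u * u = 1) :
    ∃ g ∈ A, InT A S (g * u * g⁻¹) ∧ g * u * g⁻¹ ∈ M := by
  set P := sylowA h.nrm S with hP
  set M' : Subgroup (P : Subgroup A) := (M.subgroupOf A).subgroupOf (P : Subgroup A) with hM'
  have hidx : M'.index = 2 := by
    rw [index_eq_two_iff_exists_notMem_and]
    exact ⟨⟨⟨r, hr.1⟩, hr.2⟩, hrM, fun b => hM _ ⟨(b : A).2, b.2⟩⟩
  obtain ⟨y, hy, k, hk⟩ := no_transfer h.perf P M' hidx (u := ⟨u, hu.1⟩) (Subtype.ext hu2)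
  have e : (k : X)⁻¹ * u * k = ((y : A) : X) := congrArg Subtype.val hk
  refine ⟨(k : X)⁻¹, inv_mem k.2, ?_⟩
  rw [inv_inv, e]
  exact ⟨⟨(y : A).2, y.2⟩, hy⟩

/-- Burnside's fusion lemma for central elements of `A ⊓ S`. -/
theorem Setup.swapA {a b g : X} (haT : InT A S a) (hbT : InT A S b) (hac : ∀ x, InT A S x → x * a = a * x)
    (hbc : ∀ x, InT A S x → x * b = b * x) (hab : a ≠ b) (hg : g ∈ A) (hgab : g * a * g⁻¹ = b)
    (hswap : ∀ n ∈ A, (∀ x, InT A S x → InT A S (n * x * n⁻¹)) → n * a * n⁻¹ = b → n * b * n⁻¹ = a) : False := by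
  refine not_swap (sylowA h.nrm S) (a := ⟨a, haT.1⟩) (b := ⟨b, hbT.1⟩) (g := ⟨g, hg⟩)
    (mem_centralizer_iff.mpr fun p hp => Subtype.ext (hac p ⟨p.2, hp⟩))
    (mem_centralizer_iff.mpr fun p hp => Subtype.ext (hbc p ⟨p.2, hp⟩)) haT.2
    (fun e => hab (congrArg Subtype.val e)) (Subtype.ext hgab) fun n hn e => Subtype.ext ?_
  refine hswap n n.2 (fun x hx => ?_) (congrArg Subtype.val e)
  exact ⟨(n * ⟨x, hx.1⟩ * n⁻¹ : A).2, ((mem_normalizer_iff.mp hn) ⟨x, hx.1⟩).mp hx.2⟩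

/-- An element of `A` with all commutators central is central. -/
theorem Setup.central_of_comm {v : X} (hv : v ∈ A)
    (hc : ∀ a ∈ A, ∀ b ∈ A, b * (v * a * v⁻¹ * a⁻¹) = v * a * v⁻¹ * a⁻¹ * b) : ∀ a ∈ A, a * v = v * a :=
  (h.center_iff hv).mp (mem_center_of_comm h.perf (z := ⟨v, hv⟩) fun a =>
    mem_center_iff.mpr fun b => Subtype.ext (hc a a.2 b b.2))

end CfsgLib.CyclicFourFixed
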