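import Cfsg.Agent.Lib.CyclicFourFixed.Four

/-!
S1914: the structure of `A ⊓ S` over the four group.

* `InV`: membership in `V = {1, z, v, v z}`.
* `Rot`: an element `r` such that `⟨r⟩V` has index at most two in `A ⊓ S`, contains `c` and is cyclic modulo `V`.
-/

set_option autoImplicit false
set_option linter.unusedSectionVars false
set_option linter.style.haveILetI false

namespace CfsgLib.CyclicFourFixed

open Subgroup

universe u

variable {X : Type u} [Group X] [Finite X] {A : Subgroup X} {S : Sylow 2 X} {t c z v : X}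

/-- Membership in the four group. -/
def InV (z v x : X) : Prop := x = 1 ∨ x = z ∨ x = v ∨ x = v * z

/-- The four group as a subgroup. -/
def vGroup (h : Setup A S t c z) (F : Four A S z v) : Subgroup (S : Subgroup X) where
  carrier := {x | InV z v (x : X)}
  one_mem' := Or.inl rfl
  mul_mem' := fun {a b} ha hb => by
    have hvz : z * v = v * z := (h.zc v F.vT.2).symm
    have e1 : v * z * v = z := by rw [mul_assoc, hvz, ← mul_assoc, F.v2, one_mul]
    have e2 : v * z * z = v := by rw [mul_assoc, h.z2, mul_one]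
    have e3 : z * (v * z) = v := by rw [← mul_assoc, hvz, e2]
    have e4 : v * (v * z) = z := by rw [← mul_assoc, F.v2, one_mul]
    have e5 : v * z * (v * z) = 1 := by rw [← mul_assoc, e1, h.z2]
    show InV z v ((a : X) * b)
    rcases ha with e | e | e | e <;> rcases hb with e' | e' | e' | e' <;> rw [e, e'] <;>
      simp only [InV, one_mul, mul_one, h.z2, F.v2, hvz, e1, e2, e3, e4, e5, true_or, or_true]
  inv_mem' := fun {a} ha => by
    have hvz : z * v = v * z := (h.zc v F.vT.2).symm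
    show InV z v (a : X)⁻¹
    rcases ha with e | e | e | e <;> rw [e]
    · exact Or.inl inv_one
    · exact Or.inr (Or.inl (inv_eq_of_mul_eq_one_left h.z2))
    · exact Or.inr (Or.inr (Or.inl (inv_eq_of_mul_eq_one_left F.v2)))
    · refine Or.inr (Or.inr (Or.inr ?_))
      rw [mul_inv_rev, inv_eq_of_mul_eq_one_left h.z2, inv_eq_of_mul_eq_one_left F.v2, hvz]

variable (h : Setup A S t c z) (F : Four A S z v)
include h F

theorem mem_vGroup {x : (S : Subgroup X)} : x ∈ vGroup h F ↔ InV z v (x : X) := Iff.rfl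

theorem InV.inT {x : X} (hx : InV z v x) : InT A S x := by
  rcases hx with rfl | rfl | rfl | rfl
  exacts [⟨one_mem _, one_mem _⟩, h.zT, F.vT, ⟨mul_mem F.vT.1 h.zA, mul_mem F.vT.2 h.zS⟩]

theorem InV.mul {x y : X} (hx : InV z v x) (hy : InV z v y) : InV z v (x * y) :=
  (vGroup h F).mul_mem (x := ⟨x, (hx.inT h F).2⟩) (y := ⟨y, (hy.inT h F).2⟩) hx hy

theorem InV.sq {x : X} (hx : InV z v x) : x * x = 1 := by
  rcases hx with rfl | rfl | rfl | rfl
  exacts [one_mul 1, h.z2, F.v2, by rw [show v * z * (v * z) = v * (z * v) * z by group, ← h.zc v F.vT.2,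
    ← mul_assoc, mul_assoc (v * v), F.v2, h.z2, one_mul]]

theorem Four.conjV {s x : X} (hs : s ∈ (S : Subgroup X)) (hx : InV z v x) : InV z v (s * x * s⁻¹) := by
  have hzz : s * z * s⁻¹ = z := by rw [h.zc s hs, mul_inv_cancel_right]
  rcases hx with e | e | e | e <;> rw [e]
  · exact Or.inl (by group)
  · exact Or.inr (Or.inl hzz)
  · exact (F.nrm s hs).elim (fun e => Or.inr (Or.inr (Or.inl e))) fun e => Or.inr (Or.inr (Or.inr e))
  · rw [show s * (v * z) * s⁻¹ = s * v * s⁻¹ * (s * z * s⁻¹) by group, hzz]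
    rcases F.nrm s hs with e' | e' <;> rw [e']
    · exact Or.inr (Or.inr (Or.inr rfl))
    · exact Or.inr (Or.inr (Or.inl (by rw [mul_assoc, h.z2, mul_one])))

theorem Four.vnormal : (vGroup h F).Normal := ⟨fun x hx s => Four.conjV h F s.2 hx⟩

theorem Four.vt : t * v * t = v * z := by
  rcases F.nrm t h.tS with e | e <;> rw [h.t_inv] at e
  · exfalso
    have hvt : v * t = t * v := by
      calc v * t = t * v * t * t := by rw [e]
        _ = t * v := by rw [mul_assoc, h.t2, mul_one]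
    exact (h.inv_fixed F.vT F.v2 hvt).elim F.v1 F.vz
  · exact e

/-- Fixed elements modulo `V`. -/
theorem Four.fixed_mod {x : X} (hx : InT A S x) (hd : InV z v (x⁻¹ * (t * x * t))) :
    InV z v x ∨ InV z v (c⁻¹ * x) := by
  have hcc : c⁻¹ * (z * c) = z := by rw [← h.cz]; group
  have of_fixed : ∀ y, InT A S y → t * y * t = y → InV z v y ∨ InV z v (c⁻¹ * y) := fun y hy e => by
    have hyt : y * t = t * y := by
      calc y * t = t * y * t * t := by rw [e]
        _ = t * y := by rw [mul_assoc, h.t2, mul_one]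
    rcases h.fixed y hy.1 hy.2 hyt with e0 | e0 | e0 | e0 <;> rw [e0]
    · exact Or.inl (Or.inl rfl)
    · exact Or.inr (Or.inl (inv_mul_cancel c))
    · exact Or.inl (Or.inr (Or.inl rfl))
    · exact Or.inr (Or.inr (Or.inl hcc))
  have hinv : t * (x⁻¹ * (t * x * t)) * t = (x⁻¹ * (t * x * t))⁻¹ := by
    rw [show t * (x⁻¹ * (t * x * t)) * t = t * x⁻¹ * t * x * (t * t) by group, h.t2, mul_one,
      show (x⁻¹ * (t * x * t))⁻¹ = t⁻¹ * x⁻¹ * t⁻¹ * x by group, h.t_inv]
  have hself : (x⁻¹ * (t * x * t))⁻¹ = x⁻¹ * (t * x * t) := inv_eq_of_mul_eq_one_left (hd.sq h F)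
  rw [hself] at hinv
  have hd' : InT A S (x⁻¹ * (t * x * t)) := hd.inT h F
  have hdt : x⁻¹ * (t * x * t) * t = t * (x⁻¹ * (t * x * t)) := by
    nth_rw 1 [← hinv]
    rw [mul_assoc, h.t2, mul_one]
  rcases h.inv_fixed hd' (hd.sq h F) hdt with e | e
  · exact of_fixed x hx (by calc t * x * t = x * (x⁻¹ * (t * x * t)) := by group
                              _ = x := by rw [e, mul_one])
  · have hxv : InT A S (x * v) := ⟨mul_mem hx.1 F.vT.1, mul_mem hx.2 F.vT.2⟩
    have key := of_fixed _ hxv (by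
      rw [tmul h.t2, Four.vt h F, show t * x * t = x * (x⁻¹ * (t * x * t)) by group, e, mul_assoc, ← mul_assoc z,
        ← h.zc v F.vT.2, mul_assoc, h.z2, mul_one])
    have hv : InV z v v := Or.inr (Or.inr (Or.inl rfl))
    rcases key with e1 | e1
    · refine Or.inl ?_
      have := InV.mul h F e1 hv
      rwa [mul_assoc, F.v2, mul_one] at this
    · refine Or.inr ?_
      have := InV.mul h F e1 hv
      rwa [mul_assoc, mul_assoc, F.v2, mul_one] at this

theorem Four.c_not : ¬ InV z v c := fun hc => h.z1 (h.cz.symm.trans (hc.sq h F))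

/-- `c` centralises `v`. -/
theorem Four.cv : c * v = v * c := by
  classical
  haveI : Fact (Nat.Prime 2) := ⟨Nat.prime_two⟩
  haveI := Four.vnormal h F
  haveI := h.nrm
  set V := vGroup h F with hV
  let C : Subgroup (S : Subgroup X) := A.subgroupOf (S : Subgroup X) ⊓ centralizer (V : Set (S : Subgroup X))
  haveI hCn : C.Normal := inferInstance
  haveI : (C.map (QuotientGroup.mk' V)).Normal := hCn.map _ (QuotientGroup.mk'_surjective V)
  haveI : Group.IsNilpotent (S : Subgroup X) := S.2.isNilpotent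
  have hne : C.map (QuotientGroup.mk' V) ≠ ⊥ := by
    intro e
    rw [Subgroup.map_eq_bot_iff, QuotientGroup.ker_mk'] at e
    let vT : ↥(A ⊓ (S : Subgroup X)) := ⟨v, F.vT⟩
    refine h.not_small F.vT F.v2 F.v1 F.vz vT (orderOf_eq_prime (by rw [pow_two]; exact Subtype.ext F.v2)
      fun e => F.v1 (congrArg Subtype.val e)) ?_
    let zT : ↥(A ⊓ (S : Subgroup X)) := ⟨z, h.zT⟩
    have hset : (centralizer ({vT} : Set ↥(A ⊓ (S : Subgroup X))) : Set ↥(A ⊓ (S : Subgroup X))) =
        ↑({1, zT, vT, vT * zT} : Finset ↥(A ⊓ (S : Subgroup X))) := by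
      ext x
      simp only [Finset.coe_insert, Finset.coe_singleton, Set.mem_insert_iff, Set.mem_singleton_iff, SetLike.mem_coe,
        mem_centralizer_singleton_iff]
      constructor
      · intro hx
        have hx' : (x : X) * v = v * x := congrArg Subtype.val hx
        have hxz : (x : X) * z = z * x := h.zc _ x.2.2
        have hm : (⟨(x : X), x.2.2⟩ : (S : Subgroup X)) ∈ V := e ⟨x.2.1, mem_centralizer_iff.mpr fun m hm => by
          refine Subtype.ext ?_
          show (m : X) * x = x * m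
          rcases hm with e0 | e0 | e0 | e0 <;> rw [e0]
          · rw [one_mul, mul_one]
          · exact hxz.symm
          · exact hx'.symm
          · rw [mul_assoc, ← hxz, ← mul_assoc, ← hx', mul_assoc]⟩
        rcases hm with e0 | e0 | e0 | e0
        · exact Or.inl (Subtype.ext e0)
        · exact Or.inr (Or.inl (Subtype.ext e0))
        · exact Or.inr (Or.inr (Or.inl (Subtype.ext e0)))
        · exact Or.inr (Or.inr (Or.inr (Subtype.ext e0)))
      · have hvz : v * z = z * v := h.zc v F.vT.2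
        rintro (rfl | rfl | rfl | rfl)
        · rw [one_mul, mul_one]
        · exact Subtype.ext hvz.symm
        · rfl
        · exact Subtype.ext (show v * z * v = v * (v * z) by rw [mul_assoc, ← hvz])
    rw [← SetLike.coe_sort_coe, Nat.card_coe_set_eq, hset, Set.ncard_coe_finset]
    have e1 : (1 : ↥(A ⊓ (S : Subgroup X))) ≠ zT := fun e => h.z1 (congrArg Subtype.val e).symm
    have e2 : (1 : ↥(A ⊓ (S : Subgroup X))) ≠ vT := fun e => F.v1 (congrArg Subtype.val e).symm
    have e3 : (1 : ↥(A ⊓ (S : Subgroup X))) ≠ vT * zT := fun e => F.vz (by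
      have e' : v * z = 1 := (congrArg Subtype.val e).symm
      rw [eq_inv_of_mul_eq_one_left e', inv_eq_of_mul_eq_one_left h.z2])
    have e4 : zT ≠ vT := fun e => F.vz (congrArg Subtype.val e).symm
    have e5 : zT ≠ vT * zT := fun e => F.v1 (mul_eq_right.mp (congrArg Subtype.val e).symm)
    have e6 : vT ≠ vT * zT := fun e => h.z1 (mul_eq_left.mp (congrArg Subtype.val e).symm)
    simp [e1, e2, e3, e4, e5, e6]
  obtain ⟨w, ⟨hwC, hwc⟩, hw1⟩ := SetLike.exists_of_lt (bot_lt_iff_ne_bot.mpr (CfsgLib.inf_center_ne_bot_of_nilpotent hne))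
  obtain ⟨x, hxC, rfl⟩ := hwC
  have e0 := mem_center_iff.mp hwc (QuotientGroup.mk' V ⟨t, h.tS⟩)
  rw [← map_mul, ← map_mul, QuotientGroup.mk'_eq_mk'] at e0
  obtain ⟨m, hm, e0⟩ := e0
  have e1 : t * (x : X) * m = x * t := congrArg Subtype.val e0
  have hd : InV z v ((x : X)⁻¹ * (t * x * t)) := by
    have e2 : (x : X)⁻¹ * (t * x * t) = t⁻¹ * ((m : X)⁻¹) * t⁻¹⁻¹ := by
      have : (m : X) = (x : X)⁻¹ * t⁻¹ * (x * t) := by rw [← e1]; group
      rw [this, h.t_inv]; group
      rw [show t ^ (-1 : ℤ) = t by rw [zpow_neg, zpow_one, h.t_inv]]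
    rw [e2, inv_eq_of_mul_eq_one_left ((mem_vGroup h F).mp hm |>.sq h F)]
    exact Four.conjV h F (inv_mem h.tS) hm
  have hxv : (x : X) * v = v * x :=
    (congrArg Subtype.val (mem_centralizer_iff.mp hxC.2 ⟨v, F.vT.2⟩ (Or.inr (Or.inr (Or.inl rfl))))).symm
  rcases Four.fixed_mod h F ⟨hxC.1, x.2⟩ hd with e2 | e2
  · exact absurd (mem_bot.mpr ((QuotientGroup.eq_one_iff x).mpr e2)) hw1
  · have e3 : c = x * (c⁻¹ * (x : X))⁻¹ := by group
    have hb : (c⁻¹ * (x : X))⁻¹ * v = v * (c⁻¹ * (x : X))⁻¹ := by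
      rw [inv_eq_of_mul_eq_one_left (show c⁻¹ * (x : X) * (c⁻¹ * (x : X)) = 1 from e2.sq h F)]
      rcases (show InV z v (c⁻¹ * (x : X)) from e2) with e0 | e0 | e0 | e0 <;> rw [e0]
      · rw [one_mul, mul_one]
      · exact (h.zc v F.vT.2).symm
      · rw [mul_assoc, ← h.zc v F.vT.2]
    rw [e3]
    calc (x : X) * (c⁻¹ * x)⁻¹ * v = x * ((c⁻¹ * (x : X))⁻¹ * v) := mul_assoc _ _ _
      _ = x * (v * (c⁻¹ * (x : X))⁻¹) := by rw [hb]
      _ = _ := by rw [← mul_assoc, hxv, mul_assoc]

omit h F in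
/-- `⟨r⟩ V`. -/
def InR (z v r x : X) : Prop := ∃ i : ℤ, InV z v ((r ^ i)⁻¹ * x)

omit h F in
/-- The rotation part. -/
structure Rot (A : Subgroup X) (S : Sylow 2 X) (t c z v r : X) : Prop where
  rT : InT A S r
  cR : InR z v r c
  tR : InR z v r (t * r * t)
  rR : ∀ x, InT A S x → InR z v r (x * r * x⁻¹)
  index : ∀ x y, InT A S x → InT A S y → ¬ InR z v r x → ¬ InR z v r y → InR z v r (x * y)
  invol : ∀ x, InR z v r x → InV z v (x * x) → InV z v x ∨ InV z v (c⁻¹ * x)

theorem Four.exists_rot : ∃ r, Rot A S t c z v r := by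
  classical
  haveI : Fact (Nat.Prime 2) := ⟨Nat.prime_two⟩
  haveI := Four.vnormal h F
  haveI := h.nrm
  set V := vGroup h F with hV
  let π := QuotientGroup.mk' V
  let tS : (S : Subgroup X) := ⟨t, h.tS⟩
  let cS : (S : Subgroup X) := ⟨c, h.cS⟩
  have hV2 : ∀ {x : X}, InV z v x → x⁻¹ = x := fun hx => inv_eq_of_mul_eq_one_left (hx.sq h F)
  have heq : ∀ a b : (S : Subgroup X), π a = π b ↔ InV z v ((a : X)⁻¹ * b) := fun a b =>
    (QuotientGroup.eq (s := V))
  have hone : ∀ a : (S : Subgroup X), π a = 1 ↔ InV z v (a : X) := fun a => QuotientGroup.eq_one_iff a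
  have hc1 : π cS ≠ 1 := fun e => Four.c_not h F ((hone cS).mp e)
  have htn : ∀ x : (S : Subgroup X), π x = π tS → (x : X) ∉ A := fun x e hA => by
    have := mul_mem hA ((((heq x tS).mp e).inT h F).1)
    rw [show (x : X) * ((x : X)⁻¹ * (tS : X)) = t by simp [tS]] at this
    exact h.tA this
  have hcent : ∀ x : (S : Subgroup X), (x : X) ∈ A → π x * π tS = π tS * π x → π x = 1 ∨ π x = π cS := by
    intro x hxA e
    rw [← map_mul, ← map_mul] at e
    have hd : InV z v ((x : X)⁻¹ * (t * x * t)) := by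
      have e1 : InV z v (((x : X) * t)⁻¹ * (t * x)) := (heq (x * tS) (tS * x)).mp e
      have e2 := Four.conjV h F h.tS e1
      rwa [show t * (((x : X) * t)⁻¹ * (t * x)) * t⁻¹ = t * t⁻¹ * (x : X)⁻¹ * (t * x * t⁻¹) by group,
        mul_inv_cancel, one_mul, h.t_inv] at e2
    rcases Four.fixed_mod h F ⟨hxA, x.2⟩ hd with e2 | e2
    · exact Or.inl ((hone x).mpr e2)
    · exact Or.inr ((heq cS x).mpr e2).symm
  -- the centraliser of `π t`
  have hCt : Nat.card ↥(centralizer ({π tS} : Set ((S : Subgroup X) ⧸ V))) = 4 := by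
    have hct : π cS * π tS = π tS * π cS := by rw [← map_mul, ← map_mul]; exact congrArg π (Subtype.ext h.ct)
    have hset : (centralizer ({π tS} : Set ((S : Subgroup X) ⧸ V)) : Set ((S : Subgroup X) ⧸ V)) =
        ↑({1, π cS, π tS, π cS * π tS} : Finset ((S : Subgroup X) ⧸ V)) := by
      ext w
      simp only [Finset.coe_insert, Finset.coe_singleton, Set.mem_insert_iff, Set.mem_singleton_iff, SetLike.mem_coe,
        mem_centralizer_singleton_iff]
      constructor
      · intro hw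
        obtain ⟨x, rfl⟩ := QuotientGroup.mk'_surjective V w
        change π x * π tS = π tS * π x at hw
        change π x = 1 ∨ π x = π cS ∨ π x = π tS ∨ π x = π cS * π tS
        have htt : π tS * π tS = 1 := by rw [← map_mul, ← map_one π]; exact congrArg π (Subtype.ext h.t2)
        rcases h.split (x : X) with hA | hA
        · rcases hcent x hA hw with e | e
          · exact Or.inl e
          · exact Or.inr (Or.inl e)
        · have hx' := hcent (x * tS) hA (by rw [map_mul, mul_assoc (π x), htt, mul_one, hw, ← mul_assoc, htt, one_mul])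
          have e3 : π x = π (x * tS) * π tS := by rw [map_mul, mul_assoc, htt, mul_one]
          rcases hx' with e | e <;> rw [e] at e3
          · exact Or.inr (Or.inr (Or.inl (by rw [e3, one_mul])))
          · exact Or.inr (Or.inr (Or.inr e3))
      · rintro (rfl | rfl | rfl | rfl)
        · rw [one_mul, mul_one]
        · exact hct
        · rfl
        · rw [mul_assoc, ← mul_assoc (π tS), ← hct, mul_assoc]
    rw [← SetLike.coe_sort_coe, Nat.card_coe_set_eq, hset, Set.ncard_coe_finset]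
    have e1 : (1 : (S : Subgroup X) ⧸ V) ≠ π cS := Ne.symm hc1
    have e2 : (1 : (S : Subgroup X) ⧸ V) ≠ π tS := fun e => htn 1 (by rw [map_one]; exact e) (one_mem A)
    have e4 : π cS ≠ π tS := fun e => htn cS e h.cA
    have e3 : (1 : (S : Subgroup X) ⧸ V) ≠ π cS * π tS := fun e => e4 (by
      have := eq_inv_of_mul_eq_one_left e.symm
      rwa [← map_inv, show tS⁻¹ = tS from Subtype.ext h.t_inv] at this)
    have e5 : π cS ≠ π cS * π tS := fun e => e2 (mul_eq_left.mp e.symm).symm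
    have e6 : π tS ≠ π cS * π tS := fun e => hc1 (mul_eq_right.mp e.symm)
    simp [e1, e2, e3, e4, e5, e6]
  have hc2 : π cS * π cS = 1 := by
    rw [← map_mul]
    exact (hone _).mpr (Or.inr (Or.inl h.cz))
  have htord : orderOf (π tS) = 2 := orderOf_eq_prime
    (by rw [pow_two, ← map_mul, ← map_one π]; exact congrArg π (Subtype.ext h.t2))
    fun e => htn 1 (by rw [map_one]; exact e.symm) (one_mem A)
  obtain ⟨g, hg⟩ : ∃ g : (S : Subgroup X) ⧸ V, (zpowers g).index = 2 := by
    rcases Cfsg.Agent.S3224.result (S.2.to_quotient V) (π tS) htord hCt with ⟨n, ⟨f⟩⟩ | hQ | h4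
    · have hn0 : n ≠ 0 := by
        rintro rfl
        haveI : Finite (DihedralGroup 0) := Finite.of_equiv _ f.toEquiv
        exact not_finite (DihedralGroup 0)
      refine ⟨f.symm (DihedralGroup.r 1), ?_⟩
      have hm := (zpowers (f.symm (DihedralGroup.r (1 : ZMod n)))).card_mul_index
      rw [Nat.card_zpowers, MulEquiv.orderOf_eq, DihedralGroup.orderOf_r_one, Nat.card_congr f.toEquiv,
        DihedralGroup.nat_card, mul_comm 2 n] at hm
      exact Nat.eq_of_mul_eq_mul_left (Nat.pos_of_ne_zero hn0) hm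
    · obtain ⟨n, -, hcard, x0, -, hx0, -, -⟩ := hQ
      refine ⟨x0, ?_⟩
      have hm := (zpowers x0).card_mul_index
      rw [Nat.card_zpowers, hx0, hcard, pow_succ] at hm
      exact Nat.eq_of_mul_eq_mul_left (by positivity) hm
    · refine ⟨π cS, ?_⟩
      have hm := (zpowers (π cS)).card_mul_index
      rw [Nat.card_zpowers, orderOf_eq_prime (by rw [pow_two]; exact hc2) hc1, h4] at hm
      omega
  let T' : Subgroup ((S : Subgroup X) ⧸ V) := (A.subgroupOf (S : Subgroup X)).map π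
  haveI : T'.Normal := (inferInstance : (A.subgroupOf (S : Subgroup X)).Normal).map _ (QuotientGroup.mk'_surjective V)
  haveI : (zpowers g).Normal := normal_of_index_eq_two hg
  set Z := zpowers g ⊓ T' with hZ
  haveI : Z.Normal := inferInstance
  obtain ⟨g', hg'⟩ : ∃ g', Z = zpowers g' := by
    haveI : IsCyclic ↥Z := isCyclic_of_injective (Subgroup.inclusion (inf_le_left : Z ≤ zpowers g))
      (Subgroup.inclusion_injective _)
    obtain ⟨⟨g', hgm⟩, hgen⟩ := IsCyclic.exists_generator (α := Z)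
    refine ⟨g', le_antisymm (fun w hw => ?_) (zpowers_le.mpr hgm)⟩
    obtain ⟨i, hi⟩ := mem_zpowers_iff.mp (hgen ⟨w, hw⟩)
    exact ⟨i, congrArg Subtype.val hi⟩
  have hcT : π cS ∈ T' := mem_map_of_mem π h.cA
  have hlift : ∀ w ∈ T', ∃ x : (S : Subgroup X), (x : X) ∈ A ∧ π x = w := by
    rintro w ⟨x, hx, rfl⟩
    exact ⟨x, hx, rfl⟩
  -- the involution of `Z`
  have hinvZ : ∀ w ∈ Z, w * w = 1 → w = 1 ∨ w = π cS := by
    intro w hw hw2
    have htw : π tS * w * (π tS)⁻¹ = w := by
      by_cases hw1 : w = 1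
      · rw [hw1, mul_one, mul_inv_cancel]
      have hm := (inferInstance : Z.Normal).conj_mem w hw (π tS)
      have hsq : (π tS * w * (π tS)⁻¹) * (π tS * w * (π tS)⁻¹) = 1 := by
        rw [show π tS * w * (π tS)⁻¹ * (π tS * w * (π tS)⁻¹) = π tS * (w * w) * (π tS)⁻¹ by group, hw2]; group
      have hne1 : π tS * w * (π tS)⁻¹ ≠ 1 := fun e => hw1 (conj_eq_one_iff.mp e)
      -- two involutions of a cyclic group coincide
      obtain ⟨i, hi⟩ := mem_zpowers_iff.mp (hg' ▸ hw : w ∈ zpowers g')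
      obtain ⟨j, hj⟩ := mem_zpowers_iff.mp (hg' ▸ hm : π tS * w * (π tS)⁻¹ ∈ zpowers g')
      have hi2 : (orderOf g' : ℤ) ∣ i + i := orderOf_dvd_iff_zpow_eq_one.mpr (by rw [zpow_add, hi, hw2])
      have hi1 : ¬ (orderOf g' : ℤ) ∣ i := fun hd => hw1 (by rw [← hi, orderOf_dvd_iff_zpow_eq_one.mp hd])
      have hj2 : (orderOf g' : ℤ) ∣ j + j := orderOf_dvd_iff_zpow_eq_one.mpr (by rw [zpow_add, hj, hsq])
      have hj1 : ¬ (orderOf g' : ℤ) ∣ j := fun hd => hne1 (by rw [← hj, orderOf_dvd_iff_zpow_eq_one.mp hd])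
      obtain ⟨p, hp⟩ := hi2
      obtain ⟨q, hq⟩ := hj2
      have hpo : ∃ p', p = 2 * p' + 1 := by
        rcases Int.even_or_odd p with ⟨p', e⟩ | e
        · exact absurd ⟨p', by subst e; linarith⟩ hi1
        · exact e
      have hqo : ∃ q', q = 2 * q' + 1 := by
        rcases Int.even_or_odd q with ⟨q', e⟩ | e
        · exact absurd ⟨q', by subst e; linarith⟩ hj1
        · exact e
      obtain ⟨p', rfl⟩ := hpo
      obtain ⟨q', rfl⟩ := hqo
      rw [← hi] at hj ⊢
      rw [← hj, ← mul_inv_eq_one, ← zpow_neg, ← zpow_add, ← orderOf_dvd_iff_zpow_eq_one]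
      exact ⟨q' - p', by linarith⟩
    obtain ⟨x, hxA, rfl⟩ := hlift w hw.2
    exact hcent x hxA (mul_inv_eq_iff_eq_mul.mp htw).symm
  by_cases hg1 : g' = 1
  · -- `T'` has order two
    have hT2 : ∀ x, InT A S x → InV z v x ∨ InV z v (c⁻¹ * x) := by
      intro x hx
      have hx' : π ⟨x, hx.2⟩ ∈ T' := mem_map_of_mem π hx.1
      have hout : ∀ w, w ∈ zpowers g → w ∈ T' → w = 1 := fun w h1 h2 => by
        have : w ∈ Z := ⟨h1, h2⟩
        rw [hg', hg1, zpowers_one_eq_bot, mem_bot] at this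
        exact this
      have hcn : π cS ∉ zpowers g := fun hm => hc1 (hout _ hm hcT)
      by_cases hxz : π ⟨x, hx.2⟩ ∈ zpowers g
      · exact Or.inl ((hone ⟨x, hx.2⟩).mp (hout _ hxz hx'))
      · have hm : π cS * π ⟨x, hx.2⟩ ∈ zpowers g :=
          (Subgroup.mul_mem_iff_of_index_two hg).mpr ⟨fun e => absurd e hcn, fun e => absurd e hxz⟩
        have e := hout _ hm (mul_mem hcT hx')
        refine Or.inr ((heq cS ⟨x, hx.2⟩).mp ?_)
        rw [eq_inv_of_mul_eq_one_right e, inv_eq_of_mul_eq_one_left hc2]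
    have hall : ∀ x, InT A S x → InR z v c x := fun x hx => by
      rcases hT2 x hx with e | e
      · exact ⟨0, by rwa [zpow_zero, inv_one, one_mul]⟩
      · exact ⟨1, by rwa [zpow_one]⟩
    have hcT0 : InT A S c := ⟨h.cA, h.cS⟩
    refine ⟨c, hcT0, hall c hcT0, hall _ (h.tconj hcT0), fun x hx => hall _ ⟨mul_mem (mul_mem hx.1 h.cA) (inv_mem hx.1),
      mul_mem (mul_mem hx.2 h.cS) (inv_mem hx.2)⟩, fun x y hx _ hnx => absurd (hall x hx) hnx, fun x hx _ => ?_⟩
    obtain ⟨i, hi⟩ := hx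
    have hcx : x = c ^ i * ((c ^ i)⁻¹ * x) := by group
    refine hT2 x (hcx ▸ ⟨mul_mem (zpow_mem h.cA i) (hi.inT h F).1, mul_mem (zpow_mem h.cS i) (hi.inT h F).2⟩)
  · obtain ⟨r, hrA, hr⟩ := hlift g' ((hg'.symm ▸ mem_zpowers g' : g' ∈ Z)).2
    have hR : ∀ x : (S : Subgroup X), InR z v (r : X) (x : X) ↔ π x ∈ Z := fun x => by
      rw [hg', mem_zpowers_iff]
      constructor
      · rintro ⟨i, hi⟩
        refine ⟨i, ?_⟩
        rw [← hr, ← map_zpow]
        exact (heq (r ^ i) x).mpr hi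
      · rintro ⟨i, hi⟩
        refine ⟨i, ?_⟩
        have := (heq (r ^ i) x).mp (by rw [map_zpow, hr]; exact hi)
        simpa using this
    have hrZ : π r ∈ Z := hr ▸ (hg'.symm ▸ mem_zpowers g' : g' ∈ Z)
    refine ⟨r, ⟨hrA, r.2⟩, ?_, ?_, ?_, ?_, ?_⟩
    · refine (hR cS).mpr ?_
      obtain ⟨w, hwZ, hw⟩ : ∃ w ∈ Z, orderOf w = 2 := by
        haveI : Nontrivial ↥Z := (nontrivial_iff_ne_bot _).mpr fun e => hg1 (by
          have : g' ∈ Z := hg'.symm ▸ mem_zpowers g'
          rwa [e, mem_bot] at this)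
        obtain ⟨k, hk⟩ := ((S.2.to_quotient V).to_subgroup Z).exists_card_eq
        have h2 : 2 ∣ Nat.card ↥Z := by
          have := Finite.one_lt_card (α := ↥Z)
          rw [hk] at this ⊢
          exact dvd_pow_self 2 (by rintro rfl; norm_num at this)
        obtain ⟨w, hw⟩ := exists_prime_orderOf_dvd_card' 2 h2
        exact ⟨w.1, w.2, (Subgroup.orderOf_coe w).trans hw⟩
      rcases hinvZ w hwZ (by rw [← pow_two]; exact (orderOf_eq_prime_iff.mp hw).1) with e | e
      · exact absurd e (orderOf_eq_prime_iff.mp hw).2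
      · exact e ▸ hwZ
    · refine (hR (tS * r * tS)).mpr ?_
      have := (inferInstance : Z.Normal).conj_mem _ hrZ (π tS)
      rwa [show (π tS)⁻¹ = π tS by rw [← map_inv]; exact congrArg π (Subtype.ext h.t_inv), ← map_mul, ← map_mul] at this
    · intro x hx
      refine (hR (⟨x, hx.2⟩ * r * ⟨x, hx.2⟩⁻¹)).mpr ?_
      rw [map_mul, map_mul, map_inv]
      exact (inferInstance : Z.Normal).conj_mem _ hrZ _
    · intro x y hx hy hnx hny
      refine (hR (⟨x, hx.2⟩ * ⟨y, hy.2⟩)).mpr ?_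
      have hx' : π ⟨x, hx.2⟩ ∈ T' := mem_map_of_mem π hx.1
      have hy' : π ⟨y, hy.2⟩ ∈ T' := mem_map_of_mem π hy.1
      rw [map_mul]
      exact ⟨(Subgroup.mul_mem_iff_of_index_two hg).mpr
        ⟨fun e => absurd ((hR ⟨x, hx.2⟩).mpr ⟨e, hx'⟩) hnx, fun e => absurd ((hR ⟨y, hy.2⟩).mpr ⟨e, hy'⟩) hny⟩,
        mul_mem hx' hy'⟩
    · intro x hx hxx
      obtain ⟨i, hi⟩ := hx
      have hcx : x = (r : X) ^ i * (((r : X) ^ i)⁻¹ * x) := by group
      have hxT : InT A S x := hcx ▸ ⟨mul_mem (zpow_mem hrA i) (hi.inT h F).1, mul_mem (zpow_mem r.2 i) (hi.inT h F).2⟩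
      have hxZ := (hR ⟨x, hxT.2⟩).mp ⟨i, hi⟩
      rcases hinvZ _ hxZ (by rw [← map_mul]; exact (hone _).mpr hxx) with e | e
      · exact Or.inl ((hone ⟨x, hxT.2⟩).mp e)
      · exact Or.inr ((heq cS ⟨x, hxT.2⟩).mp e.symm)

end CfsgLib.CyclicFourFixed
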